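import Cfsg.Agent.Lib.Th.Order
import Cfsg.Agent.Lib.Th.TTableCheck

/-!
The group presented by `a, b, c, d, e, s, t` has order 634023936 and acts faithfully on 819 points.
-/

set_option autoImplicit false
set_option maxRecDepth 100000
set_option Elab.async false

namespace Cfsg.Agent.Th

open Cfsg.Agent.HN

noncomputable section

/-- The relators. -/
def rel9 : List (List ℕ) := relD ++ relT

/-- The letters in a free group on seven generators. -/
def fg9 (l : ℕ) : FreeGroup (Fin 7) :=
  [FreeGroup.of 0, FreeGroup.of 1, FreeGroup.of 2, FreeGroup.of 3, FreeGroup.of 4, FreeGroup.of 5,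
    (FreeGroup.of 5)⁻¹, FreeGroup.of 6, (FreeGroup.of 6)⁻¹].getD l 1

/-- The relators as elements of the free group. -/
def relSet9 : Set (FreeGroup (Fin 7)) := {r | ∃ w ∈ rel9, r = wv fg9 w}

/-- The group presented by `a, b, c, d, e, s, t`. -/
abbrev H0 : Type := PresentedGroup relSet9

/-- Its letters `a, b, c, d, e, s, s⁻¹, t, t⁻¹`. -/
def g9 (l : ℕ) : H0 := PresentedGroup.mk relSet9 (fg9 l)

theorem rel9_one {w : List ℕ} (h : w ∈ rel9) : wv g9 w = 1 := by
  show wv (fun l => PresentedGroup.mk relSet9 (fg9 l)) w = 1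
  rw [← map_wv]
  exact PresentedGroup.one_of_mem ⟨w, h, rfl⟩

theorem g9_inv (l : ℕ) : g9 (iv9 l) = (g9 l)⁻¹ := by
  have hsq : ∀ i < 5, g9 i = (g9 i)⁻¹ := fun i hi => by
    have hm : [i, i] ∈ rel9 := by interval_cases i <;> decide +kernel
    have h := rel9_one hm
    simp only [wv, mul_one] at h
    exact eq_inv_of_mul_eq_one_left h
  match l with
  | 0 => exact hsq 0 (by norm_num)
  | 1 => exact hsq 1 (by norm_num)
  | 2 => exact hsq 2 (by norm_num)
  | 3 => exact hsq 3 (by norm_num)
  | 4 => exact hsq 4 (by norm_num)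
  | 5 => simp [g9, iv9, fg9]
  | 6 => simp [g9, iv9, fg9]
  | 7 => simp [g9, iv9, fg9]
  | 8 => simp [g9, iv9, fg9]
  | _ + 9 => simp [g9, iv9, fg9]

theorem closure_g9 : Subgroup.closure (g9 '' {l | l < 9}) = ⊤ := by
  rw [eq_top_iff, ← PresentedGroup.closure_range_of relSet9, Subgroup.closure_le]
  rintro _ ⟨i, rfl⟩
  fin_cases i
  · exact Subgroup.subset_closure ⟨0, by simp, rfl⟩
  · exact Subgroup.subset_closure ⟨1, by simp, rfl⟩
  · exact Subgroup.subset_closure ⟨2, by simp, rfl⟩
  · exact Subgroup.subset_closure ⟨3, by simp, rfl⟩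
  · exact Subgroup.subset_closure ⟨4, by simp, rfl⟩
  · exact Subgroup.subset_closure ⟨5, by simp, rfl⟩
  · exact Subgroup.subset_closure ⟨7, by simp, rfl⟩

theorem pts_rel9 : pts.fixAll rel9 = true := by decide +kernel

/-- The images of `a, b, c, d, e, s, t` on 819 points. -/
def ptGen9 : Fin 7 → Equiv.Perm (Fin pts.n) :=
  ![pts.sig pts_ok 0, pts.sig pts_ok 1, pts.sig pts_ok 2, pts.sig pts_ok 3, pts.sig pts_ok 4,
    pts.sig pts_ok 5, pts.sig pts_ok 7]

theorem pt_lift9 (w : List ℕ) : FreeGroup.lift ptGen9 (wv fg9 w) = wv (pts.sig pts_ok) w := by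
  rw [map_wv]
  refine wv_congr _ fun l _ => ?_
  match l with
  | 0 | 1 | 2 | 3 | 4 | 5 | 7 => simp [fg9, ptGen9]
  | 6 => simp [fg9, ptGen9]; exact (pts_sig_inv 5).symm
  | 8 => simp [fg9, ptGen9]; exact (pts_sig_inv 7).symm
  | l + 9 =>
    rw [PModel.sig, dif_neg (by simp [pts])]
    simp [fg9]

/-- The action on 819 points. -/
def rep : H0 →* Equiv.Perm (Fin pts.n) :=
  PresentedGroup.toGroup (f := ptGen9) (by
    rintro r ⟨w, hw, rfl⟩
    rw [pt_lift9]
    exact wv_sig_eq_one pts_ok pts_rel9 hw)

theorem rep_wv (w : List ℕ) : rep (wv g9 w) = wv (pts.sig pts_ok) w := by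
  rw [show wv g9 w = PresentedGroup.mk relSet9 (wv fg9 w) from (map_wv _ _ _).symm, ← pt_lift9]
  rfl

theorem repD_gD {l : ℕ} (hl : l < 7) : repD (gD l) = pts.sig pts_ok l := by
  have := repD_wv (w := [l]) (by simpa using hl)
  rwa [wv_singleton, wv_singleton] at this

theorem sig_rules : TC.Rules TTable.cert (pts.sig pts_ok) repD.range where
  inv l := by
    rw [← pts_sig_inv]
    congr 1
  rel r hr := by
    have hc : (TTable.cert.rels.all fun r => derivedFrom iv9 rel9 r) = true := by decide +kernel
    exact derivedFrom_spec pts_sig_inv (fun b hb => wv_sig_eq_one pts_ok pts_rel9 hb)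
      (List.all_eq_true.1 hc r hr)
  sub s hs := by
    simp only [TTable.cert, List.mem_cons, List.not_mem_nil, or_false] at hs
    rcases hs with rfl | rfl | rfl | rfl | rfl | rfl <;> rw [wv_singleton] <;>
      exact ⟨_, repD_gD (by norm_num)⟩

theorem chain_ok : chainOK pts [] ptsChain = true := by decide +kernel

theorem chain_size : chainSize ptsChain = 634023936 := by decide +kernel

theorem chain_pts : ptsChain.map Level.pt = base := by decide +kernel

theorem repD_range_ge : 211341312 ≤ Nat.card repD.range := by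
  have : Finite repD.range := inferInstance
  obtain ⟨-, c⟩ := TC.card_le sig_rules (TC.all_good sig_rules TTable.ok_all) TTable.fin_ok
    (m := Nat.card repD.range) le_rfl
  have h := chain_le pts_ok ptsChain [] chain_ok
    (Subgroup.closure (pts.sig pts_ok '' {l | l < TTable.cert.k})) fun w hw _ =>
      wv_mem _ fun l hl => Subgroup.subset_closure ⟨l, hw l hl, rfl⟩
  rw [chain_size] at h
  have h3 : TTable.cert.nfin = 3 := by decide +kernel
  rw [h3] at c
  omega

/-- The order of the group of `a, b, c, d, e, s` is at most 211341312. -/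
theorem card_Dp_le : Finite Dp ∧ Nat.card Dp ≤ 211341312 := card_Dp_le_of repD_range_ge

/-- The images of `a, b, c, d, e, s` among the seven. -/
def dImg : Fin 6 → H0 := ![g9 0, g9 1, g9 2, g9 3, g9 4, g9 5]

/-- The map from the group of `a, b, c, d, e, s`. -/
def dHom : Dp →* H0 :=
  PresentedGroup.toGroup (f := dImg) (by
    rintro r ⟨w, hw, rfl⟩
    have hc : (relD.all fun w => letOK 7 w) = true := by decide +kernel
    rw [map_wv]
    refine (wv_congr _ fun l hl => ?_).trans (rel9_one (List.mem_append_left _ hw))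
    have := letOK_spec (List.all_eq_true.1 hc w hw) l hl
    interval_cases l
    case «6» => simp [fgD, dImg]; exact (g9_inv 5).symm
    all_goals simp [fgD, dImg])

theorem dHom_gD {l : ℕ} (hl : l < 7) : dHom (gD l) = g9 l := by
  show FreeGroup.lift dImg (fgD l) = g9 l
  interval_cases l
  case «6» => simp [fgD, dImg]; exact (g9_inv 5).symm
  all_goals simp [fgD, dImg]

theorem ttable_rules : TC.Rules TTable.cert g9 dHom.range where
  inv l := by
    rw [← g9_inv]
    congr 1
  rel r hr := by
    have hc : (TTable.cert.rels.all fun r => derivedFrom iv9 rel9 r) = true := by decide +kernel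
    exact derivedFrom_spec g9_inv (fun b hb => rel9_one hb) (List.all_eq_true.1 hc r hr)
  sub s hs := by
    simp only [TTable.cert, List.mem_cons, List.not_mem_nil, or_false] at hs
    rcases hs with rfl | rfl | rfl | rfl | rfl | rfl <;> rw [wv_singleton] <;>
      exact ⟨_, dHom_gD (by norm_num)⟩

theorem card_H0_le : Finite H0 ∧ Nat.card H0 ≤ 634023936 := by
  obtain ⟨fD, cD⟩ := card_Dp_le
  have : Finite dHom.range := Finite.of_surjective _ dHom.rangeRestrict_surjective
  obtain ⟨f, c⟩ := TC.card_le ttable_rules (TC.all_good ttable_rules TTable.ok_all) TTable.fin_ok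
    (m := 211341312) ((Nat.card_le_card_of_surjective _ dHom.rangeRestrict_surjective).trans cD)
  have htop : Subgroup.closure (g9 '' {l | l < TTable.cert.k}) = ⊤ := closure_g9
  rw [htop, Subgroup.card_top] at c
  rw [htop] at f
  exact ⟨Finite.of_equiv _ Subgroup.topEquiv.toEquiv, c.trans_eq (by decide +kernel)⟩

instance H0_finite : Finite H0 := card_H0_le.1

theorem range_ge : 634023936 ≤ Nat.card rep.range := by
  rw [← chain_size]
  refine chain_le pts_ok ptsChain [] chain_ok rep.range fun w _ _ => ?_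
  exact ⟨wv g9 w, rep_wv w⟩

/-- **The order of the group of `a, b, c, d, e, s, t`.** -/
theorem card_H0 : Nat.card H0 = 634023936 :=
  le_antisymm card_H0_le.2 (range_ge.trans (Nat.card_le_card_of_surjective _ rep.rangeRestrict_surjective))

/-- **The action on 819 points is faithful.** -/
theorem rep_injective : Function.Injective rep := by
  have hb : Function.Bijective rep.rangeRestrict :=
    rep.rangeRestrict_surjective.bijective_of_nat_card_le (card_H0_le.2.trans range_ge)
  exact fun a b e => hb.1 (Subtype.ext e)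

theorem fix_trivial {a : H0} (h : rep a ∈ fixPts pts ptsChain) : a = 1 := by
  apply rep_injective
  rw [map_one]
  have hle := chain_le' pts_ok ptsChain [] chain_ok rep.range fun w _ _ => ⟨wv g9 w, rep_wv w⟩
  rw [chain_size] at hle
  have hr : Nat.card rep.range ≤ 634023936 :=
    (Nat.card_le_card_of_surjective _ rep.rangeRestrict_surjective).trans card_H0_le.2
  have h1 : Nat.card (rep.range ⊓ fixPts pts ptsChain : Subgroup _) ≤ 1 := by
    by_contra h2
    have := Nat.mul_le_mul_left 634023936 (not_le.1 h2)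
    omega
  have := (Subgroup.eq_bot_of_card_le _ h1)
  have hm : rep a ∈ (rep.range ⊓ fixPts pts ptsChain : Subgroup _) := ⟨⟨a, rfl⟩, h⟩
  rwa [this, Subgroup.mem_bot] at hm

/-- Words acting equally on the base are equal. -/
theorem eq_of_eqOn {u v : List ℕ} (h : pts.eqOn base u v = true) : wv g9 u = wv g9 v := by
  simp only [PModel.eqOn, Bool.and_eq_true, List.all_eq_true, Nat.blt_eq, Nat.beq_eq] at h
  obtain ⟨⟨hu, hv⟩, hb⟩ := h
  have hu : ∀ l ∈ u, l < pts.k := letOK_spec hu
  have hv : ∀ l ∈ v, l < pts.k := letOK_spec hv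
  have key : wv g9 v * (wv g9 u)⁻¹ = 1 := fix_trivial (fun q hq => ?_)
  · exact (eq_of_mul_inv_eq_one key).symm
  rw [chain_pts] at hq
  rw [map_mul, map_inv, rep_wv, rep_wv]
  have h1 := wv_sig_inv_apply pts_ok u hu q
  have h2 := wv_sig_inv_apply pts_ok v hv q
  have e : (wv (pts.sig pts_ok) u)⁻¹ q = (wv (pts.sig pts_ok) v)⁻¹ q :=
    Fin.ext (by rw [h1, h2]; exact (hb q.1 hq).2)
  rw [Equiv.Perm.mul_apply, e]
  simp

end

end Cfsg.Agent.Th
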