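import Cfsg.Agent.Lib.Th.Deduce

/-!
The normal form in the centraliser, computed with an accumulator for the labels.
-/

set_option autoImplicit false
set_option maxRecDepth 100000

namespace Cfsg.Agent.Th

open Cfsg.Agent.HN

noncomputable section

/-- Follow the table from a coset, collecting labels. -/
def cfold : List ℕ → ℕ → List ℕ → ℕ × List ℕ :=
  List.rec (fun j L => (j, L))
    (fun l _ rest j L => let d := stepC j (to10 l); rest d.1 (L ++ d.2))

theorem cfold_eq : ∀ (w : List ℕ) (j : ℕ) (L : List ℕ), cfold w j L = (cEnd w j, L ++ cLab w j) := by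
  intro w
  induction w with
  | nil => intro j L; simp [cfold, cEnd, cLab]
  | cons l w ih =>
    intro j L
    show cfold w (stepC j (to10 l)).1 (L ++ (stepC j (to10 l)).2) =
      (force (stepC j (to10 l)).1 (cEnd w), L ++ ((stepC j (to10 l)).2 ++ force (stepC j (to10 l)).1 (cLab w)))
    rw [ih, force_eq, force_eq, List.append_assoc]

theorem cnorm_eq_cfold (w : List ℕ) : cnorm w = cfold w 0 [] := by
  rw [cfold_eq, List.nil_append]; rfl

theorem cfold_spec_acc (w : List ℕ) (j : ℕ) (L : List ℕ) (h : okSide true w = true) (hj : j < 120) :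
    psi (el L) * tauC j * wv g11 w = psi (el (cfold w j L).2) * tauC (cfold w j L).1 := by
  rw [cfold_eq]
  dsimp only
  rw [mul_assoc, cfold_spec w j h hj, el_append, map_mul, mul_assoc]

end

end Cfsg.Agent.Th
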