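import Cfsg.Agent.Lib.HN.Word

/-! The labels of the table of the centraliser. -/

set_option autoImplicit false
set_option maxRecDepth 100000

namespace Cfsg.Agent.Th.CTable

open Cfsg.Agent.HN

noncomputable section

/-- part of the labels -/
def labels0 : Trie :=
  (.node (.node (.node (.node (.node (.node (.node (.leaf 0x1) (.leaf 0x213243435434234512)) (.node (.leaf 0x0) (.leaf 0x36547543436574577343))) (.node (.node (.leaf 0x0) (.leaf 0x178543456)) (.node (.leaf 0x3) (.leaf 0x3434654965434563457)))) (.node (.node (.node (.leaf 0x34531) (.leaf 0x3965434566543456)) (.node (.leaf 0x65434597543457) (.leaf 0x543757745634))) (.node (.node (.leaf 0x1) (.leaf 0x754343575434579)) (.node (.leaf 0x1213243454342341234) (.leaf 0))))) (.node (.node (.node (.node (.leaf 0x7731) (.leaf 0x36654346543475643456)) (.node (.leaf 0x1) (.leaf 0x3436543754377566456345))) (.node (.node (.leaf 0x1) (.leaf 0x214324345493423412)) (.node (.leaf 0x665434657434577) (.leaf 0x0)))) (.node (.node (.node (.leaf 0x1) (.leaf 0x21324347543274341234)) (.node (.leaf 0x797) (.leaf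 0x953431))) (.node (.node (.leaf 0x91) (.leaf 0x121324347543274345123)) (.node (.leaf 0x121432434543423412) (.leaf 0)))))) (.node (.node (.node (.node (.node (.leaf 0x6) (.leaf 0x37543486543475643456)) (.node (.leaf 0x0) (.leaf 0x34543654754374574345))) (.node (.node (.leaf 0x0) (.leaf 0x1)) (.node (.leaf 0x434654345657434575) (.leaf 0x1213243454342341234)))) (.node (.node (.node (.leaf 0x0) (.leaf 0x21324349754342341234)) (.node (.leaf 0x0) (.leaf 0x497543475473457434))) (.node (.node (.leaf 0x0) (.leaf 0x5875434657434577)) (.node (.leaf 0x213243454342341234) (.leaf 0))))) (.node (.node (.node (.node (.leaf 0x0) (.leaf 0x14354365437586456345)) (.node (.leaf 0x9) (.leaf 0x3434543465434565784345))) (.node (.node (.leaf 0x1) (.leaf 0x35434654346597434577)) (.node (.leaf 0x543435654345686) (.leaf 0x1213243454342341234)))) (.node (.node (.node (.leaf 0x8) (.leaf 0x1)) (.node (.leaf 0x0) (.leaf 0x0))) (.node (.node (.leaf 0x9) (.leaf 0x43454346543475643457)) (.node (.leaf 0x375434575473456434) (.leaf 0))))))) (.node (.node (.node (.node (.node (.node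 (.leaf 0x0) (.leaf 0x143457974345)) (.node (.leaf 0x63) (.leaf 0x366543654375487566345))) (.node (.node (.leaf 0x1) (.leaf 0x121432434543423412)) (.node (.leaf 0x45434354654345685) (.leaf 0x43454346543475643457)))) (.node (.node (.node (.leaf 0x0) (.leaf 0x3965434566543456)) (.node (.leaf 0x1) (.leaf 0x43543754386574563453))) (.node (.node (.leaf 0x0) (.leaf 0x2132543439754374572312)) (.node (.leaf 0x213243454342341234) (.leaf 0))))) (.node (.node (.node (.node (.leaf 0x686) (.leaf 0x1434565434577)) (.node (.leaf 0x0) (.leaf 0x6543654754345795))) (.node (.node (.leaf 0x0) (.leaf 0x213243454342341234)) (.node (.leaf 0x1543465754345) (.leaf 0x343475434965643454)))) (.node (.node (.node (.leaf 0x0) (.leaf 0x213243454342341234)) (.node (.leaf 0x0) (.leaf 0x1))) (.node (.node (.leaf 0x1) (.leaf 0x43454346543475643457)) (.node (.leaf 0x213243454342341234) (.leaf 0)))))) (.node (.node (.node (.node (.node (.leaf 0x3) (.leaf 0x1214324345483423412)) (.node (.leaf 0x0) (.leaf 0x6543438756643456))) (.node (.node (.leaf 0x0) (.leaf 0x21432434543423412))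 (.node (.leaf 0x434575434575643456) (.leaf 0x0)))) (.node (.node (.node (.leaf 0x3) (.leaf 0x754347543475665434)) (.node (.leaf 0x1) (.leaf 0x12132434543284341234))) (.node (.node (.leaf 0x0) (.leaf 0x213214347564342312)) (.node (.leaf 0x54345785434566) (.leaf 0))))) (.node (.node (.node (.node (.leaf 0x0) (.leaf 0x654345665434579)) (.node (.leaf 0x3434565434565434577) (.leaf 0x54375465634543))) (.node (.node (.leaf 0x0) (.leaf 0x121324347543274341234)) (.node (.leaf 0x213243454342341234) (.leaf 0)))) (.node (.node (.node (.leaf 0x754343596543454) (.leaf 0x78543456)) (.node (.leaf 0x79731) (.leaf 0x1465437543654386574534))) (.node (.node (.leaf 0x0) (.leaf 0x2132654346543268453412)) (.node (.leaf 0x213243435434234512) (.leaf 0))))))))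

/-- part of the labels -/
def labels8 : Trie :=
  (.node (.node (.node (.node (.node (.node (.node (.leaf 0x1) (.leaf 0x37754346543475643456)) (.node (.leaf 0x6575) (.leaf 0x4565486345343))) (.node (.node (.leaf 0x1) (.leaf 0x8754343575434579)) (.node (.leaf 0x3) (.leaf 0x43454346543475643457)))) (.node (.node (.node (.leaf 0x9) (.leaf 0x3965434566543456)) (.node (.leaf 0x1) (.leaf 0x343454754343574574345))) (.node (.node (.leaf 0x0) (.leaf 0x5965434756434569)) (.node (.leaf 0x1213243454342341234) (.leaf 0))))) (.node (.node (.node (.node (.leaf 0x68631) (.leaf 0x1434565434577)) (.node (.leaf 0x31) (.leaf 0x4754345634))) (.node (.node (.leaf 0x0) (.leaf 0x121432434543423412)) (.node (.leaf 0x177543495654345) (.leaf 0x6543487543475774345)))) (.node (.node (.node (.leaf 0x0) (.leaf 0x213243454342341234)) (.node (.leaf 0x8) (.leaf 0x0))) (.node (.node (.leaf 0x0) (.leaf 0x2132434397564342312)) (.node (.leaf 0x2132434543294341234) (.leaf 0)))))) (.node (.node (.node (.node (.node (.leaf 0x31) (.leaf 0x54343565434657434575)) (.node (.leaf 0x0) (.leaf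 0x34543475434965643454))) (.node (.node (.leaf 0x0) (.leaf 0x121432434543423412)) (.node (.leaf 0x665434365794345) (.leaf 0x3437543475469634543)))) (.node (.node (.node (.leaf 0x0) (.leaf 0x37543466543465643456)) (.node (.leaf 0x0) (.leaf 0x497543475473457434))) (.node (.node (.leaf 0x1) (.leaf 0x2132154349754374572312)) (.node (.leaf 0x12132434543284341234) (.leaf 0))))) (.node (.node (.node (.node (.leaf 0x1) (.leaf 0x654345665434579)) (.node (.leaf 0x31) (.leaf 0x46543436543465694345))) (.node (.node (.leaf 0x1) (.leaf 0x21324347543274341234)) (.node (.leaf 0x1213243454342341234) (.leaf 0)))) (.node (.node (.node (.leaf 0x1) (.leaf 0x1213243454342341234)) (.node (.leaf 0x0) (.leaf 0x9))) (.node (.node (.leaf 0x0) (.leaf 0x1487543457543457)) (.node (.leaf 0x343454346574345434) (.leaf 0))))))) (.node (.node (.node (.node (.node (.node (.leaf 0x3) (.leaf 0x21432434543423412)) (.node (.leaf 0x91) (.leaf 0x457753434))) (.node (.node (.leaf 0x0) (.leaf 0x121432434543423412)) (.node (.leaf 0x3434565434597543457) (.leaf 0x435436543475645734)))) (.node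 (.node (.node (.leaf 0x0) (.leaf 0x1213243454342341234)) (.node (.leaf 0x61) (.leaf 0x3434975436577456345))) (.node (.node (.leaf 0x0) (.leaf 0x1436543654365466563457)) (.node (.leaf 0x177543495654345) (.leaf 0))))) (.node (.node (.node (.node (.leaf 0x0) (.leaf 0x54654345734569)) (.node (.leaf 0x0) (.leaf 0x5437543496574573453))) (.node (.node (.leaf 0x1) (.leaf 0x35434654346597434577)) (.node (.leaf 0x3754345654345) (.leaf 0x165437543654365645645)))) (.node (.node (.node (.leaf 0x0) (.leaf 0x12132434543294341234)) (.node (.leaf 0x1) (.leaf 0x9))) (.node (.node (.leaf 0x1) (.leaf 0x1475434575434579)) (.node (.leaf 0x543436657434575) (.leaf 0)))))) (.node (.node (.node (.node (.node (.leaf 0x0) (.leaf 0x1)) (.node (.leaf 0x0) (.leaf 0x2132143456574342312))) (.node (.node (.leaf 0x9) (.leaf 0x21432434543423412)) (.node (.leaf 0x56543465434756434568) (.leaf 0x16543465473457434)))) (.node (.node (.node (.leaf 0x1) (.leaf 0x3565434654348756643456)) (.node (.leaf 0x31) (.leaf 0x34356543475463457743))) (.node (.node (.leaf 0x1) (.leaf 0x2143243475473423412))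 (.node (.leaf 0x343454346574345434) (.leaf 0))))) (.node (.node (.node (.node (.leaf 0x1) (.leaf 0x396543456543456)) (.node (.leaf 0x65434654345757) (.leaf 0x4365475434365794534))) (.node (.node (.leaf 0x0) (.leaf 0x47754343656543456)) (.node (.leaf 0x4321432454345342312) (.leaf 0)))) (.node (.node (.node (.leaf 0x0) (.leaf 0x78543456)) (.node (.leaf 0x75651) (.leaf 0x96578))) (.node (.node (.leaf 0x0) (.leaf 0x121324346543297434512)) (.node (.leaf 0x565434365434775643457) (.leaf 0))))))))

/-- part of the labels -/
def labels4 : Trie :=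
  (.node (.node (.node (.node (.node (.node (.node (.leaf 0x6) (.leaf 0x45434569634)) (.node (.leaf 0x1) (.leaf 0x387543475436564573456))) (.node (.node (.leaf 0x1) (.leaf 0x1)) (.node (.leaf 0x31) (.leaf 0x934531)))) (.node (.node (.node (.leaf 0x451) (.leaf 0x375434575643456)) (.node (.leaf 0x0) (.leaf 0x549654345693456))) (.node (.node (.leaf 0x1) (.leaf 0x357543465743456)) (.node (.leaf 0x354349754364574345) (.leaf 0))))) (.node (.node (.node (.node (.leaf 0x8) (.leaf 0x16865434568)) (.node (.leaf 0x1) (.leaf 0x5434754345754345665))) (.node (.node (.leaf 0x1) (.leaf 0x21432434543423412)) (.node (.leaf 0x543457543457) (.leaf 0x4543468573434)))) (.node (.node (.node (.leaf 0x1) (.leaf 0x213243454342341234)) (.node (.leaf 0x9) (.leaf 0x1213243454342341234))) (.node (.node (.leaf 0x1) (.leaf 0x121324347543274345123)) (.node (.leaf 0x213243454342341234) (.leaf 0)))))) (.node (.node (.node (.node (.node (.leaf 0x3) (.leaf 0x21432434543423412)) (.node (.leaf 0x0) (.leaf 0x34543475434965643454))) (.node (.node (.leaf 0x0) (.leaf 0x1)) (.node (.leaf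 0x1434965434656943456) (.leaf 0x34543654754374574345)))) (.node (.node (.node (.leaf 0x0) (.leaf 0x213243454342341234)) (.node (.leaf 0x0) (.leaf 0x346543754365469563453))) (.node (.node (.leaf 0x0) (.leaf 0x375434575434579)) (.node (.leaf 0x15654346543475774345) (.leaf 0))))) (.node (.node (.node (.node (.leaf 0x1) (.leaf 0x1)) (.node (.leaf 0x0) (.leaf 0x345437543975475634575))) (.node (.node (.leaf 0x85343) (.leaf 0x21324347543274341234)) (.node (.leaf 0x1213243454342341234) (.leaf 0x165437543654365645645)))) (.node (.node (.node (.leaf 0x1) (.leaf 0x1213243454342341234)) (.node (.leaf 0x0) (.leaf 0x0))) (.node (.node (.leaf 0x0) (.leaf 0x43454346543475643457)) (.node (.leaf 0x346543435475643456) (.leaf 0))))))) (.node (.node (.node (.node (.node (.node (.leaf 0x1) (.leaf 0x37543486543475643456)) (.node (.leaf 0x0) (.leaf 0x45875463456834))) (.node (.node (.leaf 0x1) (.leaf 0x121432434543423412)) (.node (.leaf 0x34965437543656457345) (.leaf 0x0)))) (.node (.node (.node (.leaf 0x0) (.leaf 0x21432434654364234123)) (.node (.leaf 0x1) (.leaf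 0x15437754375497563453))) (.node (.node (.leaf 0x0) (.leaf 0x39754345665434578)) (.node (.leaf 0x43454341) (.leaf 0))))) (.node (.node (.node (.node (.leaf 0x0) (.leaf 0x14354365437586456345)) (.node (.leaf 0x0) (.leaf 0x34543654754374574345))) (.node (.node (.leaf 0x1) (.leaf 0x1213243454342341234)) (.node (.leaf 0x1213243454342341234) (.leaf 0x1)))) (.node (.node (.node (.leaf 0x0) (.leaf 0x1213243454342341234)) (.node (.leaf 0x0) (.leaf 0x12132434543284341234))) (.node (.node (.leaf 0x1) (.leaf 0x475434575434579)) (.node (.leaf 0x213243454342341234) (.leaf 0)))))) (.node (.node (.node (.node (.node (.leaf 0x3) (.leaf 0x54343565434657434575)) (.node (.leaf 0x0) (.leaf 0x2132434354384234512))) (.node (.node (.leaf 0x797) (.leaf 0x2143243475473423412)) (.node (.leaf 0x543438657434577) (.leaf 0x4354345975434566)))) (.node (.node (.node (.leaf 0x3) (.leaf 0x3565434654348756643456)) (.node (.leaf 0x3) (.leaf 0x3466543457854345))) (.node (.node (.leaf 0x8) (.leaf 0x754654345734578)) (.node (.leaf 0x54665434573456) (.leaf 0))))) (.node (.node (.node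 (.node (.leaf 0x1) (.leaf 0x54345654754345634569)) (.node (.leaf 0x65434654345757) (.leaf 0x3434543465434565784345))) (.node (.node (.leaf 0x0) (.leaf 0x21324347543274341234)) (.node (.leaf 0x213243454342341234) (.leaf 0)))) (.node (.node (.node (.leaf 0x1) (.leaf 0x78543456)) (.node (.leaf 0x875753) (.leaf 0x0))) (.node (.node (.leaf 0x0) (.leaf 0x121324346543297434512)) (.node (.leaf 0x543436657434575) (.leaf 0))))))))

/-- part of the labels -/
def labels12 : Trie :=
  (.node (.node (.node (.node (.node (.node (.node (.leaf 0x0) (.leaf 0x21432434543423412)) (.node (.leaf 0x0) (.leaf 0x3543654365486563457))) (.node (.node (.leaf 0x1) (.leaf 0x12143243475473423412)) (.node (.leaf 0x346543465664345) (.leaf 0x475434575434579)))) (.node (.node (.node (.leaf 0x1) (.leaf 0x3965434566543456)) (.node (.leaf 0x631) (.leaf 0x4354375436654365684566))) (.node (.node (.leaf 0x0) (.leaf 0x465436543754387564569)) (.node (.leaf 0x1213243454342341234) (.leaf 0))))) (.node (.node (.node (.node (.leaf 0x9731) (.leaf 0x16865434568)) (.node (.leaf 0x0) (.leaf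 0x4375434564))) (.node (.node (.leaf 0x0) (.leaf 0x1213243454342341234)) (.node (.leaf 0x665434657434577) (.leaf 0x1)))) (.node (.node (.node (.leaf 0x1) (.leaf 0x213243456543264341234)) (.node (.leaf 0x8) (.leaf 0x1487543457543457))) (.node (.node (.leaf 0x1) (.leaf 0x1213243454342341234)) (.node (.leaf 0x7543466543465694345) (.leaf 0)))))) (.node (.node (.node (.node (.node (.leaf 0x68) (.leaf 0x37543486543475643456)) (.node (.leaf 0x0) (.leaf 0x54365434975465634573))) (.node (.node (.leaf 0x0) (.leaf 0x1)) (.node (.leaf 0x3565434654365434564) (.leaf 0x5654375437574578345)))) (.node (.node (.node (.leaf 0x1) (.leaf 0x1)) (.node (.leaf 0x3) (.leaf 0x2132434543294341234))) (.node (.node (.leaf 0x1) (.leaf 0x4543475434657434564)) (.node (.leaf 0x147543457543457) (.leaf 0))))) (.node (.node (.node (.node (.leaf 0x9) (.leaf 0x54345654754345634569)) (.node (.leaf 0x31) (.leaf 0x3436654365436577456345))) (.node (.node (.leaf 0x1) (.leaf 0x1)) (.node (.leaf 0x147543457543457) (.leaf 0)))) (.node (.node (.node (.leaf 0x1) (.leaf 0x1213243454342341234))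 (.node (.leaf 0x0) (.leaf 0x66543754654364578345))) (.node (.node (.leaf 0x0) (.leaf 0x4875434575434579)) (.node (.leaf 0x15654346543475774345) (.leaf 0))))))) (.node (.node (.node (.node (.node (.node (.leaf 0x0) (.leaf 0x143457974345)) (.node (.leaf 0x0) (.leaf 0x1343665436578457345))) (.node (.node (.leaf 0x0) (.leaf 0x121432434543423412)) (.node (.leaf 0x434654345657434575) (.leaf 0x7543437756943457)))) (.node (.node (.node (.leaf 0x0) (.leaf 0x2132434754342341234)) (.node (.leaf 0x0) (.leaf 0x348754343654374574345))) (.node (.node (.leaf 0x0) (.leaf 0x2132654343754378452312)) (.node (.leaf 0x213243454342341234) (.leaf 0))))) (.node (.node (.node (.node (.leaf 0x0) (.leaf 0x754346566434566)) (.node (.leaf 0x0) (.leaf 0x4345654347756434543))) (.node (.node (.leaf 0x1) (.leaf 0x35434654346597434577)) (.node (.leaf 0x654345754345) (.leaf 0x34543475434965643454)))) (.node (.node (.node (.leaf 0x0) (.leaf 0x1213243454342341234)) (.node (.leaf 0x0) (.leaf 0x865434356543456))) (.node (.node (.leaf 0x1) (.leaf 0x475434575434579)) (.node (.leaf 0x565434365434775643457)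 (.leaf 0)))))) (.node (.node (.node (.node (.node (.leaf 0x66631) (.leaf 0x4374569434)) (.node (.leaf 0x8) (.leaf 0x3436543754377566456345))) (.node (.node (.leaf 0x1) (.leaf 0x1543459654345654345)) (.node (.leaf 0x187543456654345) (.leaf 0x1)))) (.node (.node (.node (.leaf 0x31) (.leaf 0x3565434654348756643456)) (.node (.leaf 0x3) (.leaf 0x1))) (.node (.node (.leaf 0x53431) (.leaf 0x213215434754374572312)) (.node (.leaf 0x6549654345634577) (.leaf 0))))) (.node (.node (.node (.node (.leaf 0x1) (.leaf 0x654345665434579)) (.node (.leaf 0x65434568543457) (.leaf 0x434543466575434))) (.node (.node (.leaf 0x1) (.leaf 0x75434587543456)) (.node (.leaf 0x177543495654345) (.leaf 0)))) (.node (.node (.node (.leaf 0x1) (.leaf 0x543487543457574345)) (.node (.leaf 0x1) (.leaf 0x0))) (.node (.node (.leaf 0x0) (.leaf 0x387543475436564573456)) (.node (.leaf 0x375434575473456434) (.leaf 0))))))))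

/-- part of the labels -/
def labels2 : Trie :=
  (.node (.node (.node (.node (.node (.node (.node (.leaf 0x4) (.leaf 0x97574345693)) (.node (.leaf 0x0) (.leaf 0x3543975436543665645693))) (.node (.node (.leaf 0x1) (.leaf 0x178543456)) (.node (.leaf 0x3) (.leaf 0x343875434757843457)))) (.node (.node (.node (.leaf 0x54) (.leaf 0x143477543465654345)) (.node (.leaf 0x654345654345696) (.leaf 0x4354654343756457934))) (.node (.node (.leaf 0x1) (.leaf 0x7754345965434566)) (.node (.leaf 0x213243435434234512) (.leaf 0))))) (.node (.node (.node (.node (.leaf 0x6831) (.leaf 0x37543475434657943456)) (.node (.leaf 0x3) (.leaf 0x4754345634))) (.node (.node (.leaf 0x0) (.leaf 0x546654345793)) (.node (.leaf 0x15434775664345) (.leaf 0x475434656643457)))) (.node (.node (.node (.leaf 0x0) (.leaf 0x1213243454342341234)) (.node (.leaf 0x1) (.leaf 0x0))) (.node (.node (.leaf 0x1) (.leaf 0x121324347543274345123)) (.node (.leaf 0x1213243454342341234) (.leaf 0)))))) (.node (.node (.node (.node (.node (.leaf 0x0) (.leaf 0x121432434543423412)) (.node (.leaf 0x0) (.leaf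 0x165434654347574345664))) (.node (.node (.leaf 0x0) (.leaf 0x1)) (.node (.leaf 0x434654345657434575) (.leaf 0x3543754375469656345)))) (.node (.node (.node (.leaf 0x0) (.leaf 0x21324343775477342312)) (.node (.leaf 0x0) (.leaf 0x4575463453434))) (.node (.node (.leaf 0x1) (.leaf 0x1)) (.node (.leaf 0x34543475434657434564) (.leaf 0))))) (.node (.node (.node (.node (.leaf 0x1) (.leaf 0x54345654754345634569)) (.node (.leaf 0x0) (.leaf 0x3436654365436577456345))) (.node (.node (.leaf 0x1) (.leaf 0x75434566)) (.node (.leaf 0x177543495654345) (.leaf 0x4543754365463456453)))) (.node (.node (.node (.leaf 0x1) (.leaf 0x1)) (.node (.leaf 0x0) (.leaf 0x1213243454342341234))) (.node (.node (.leaf 0x0) (.leaf 0x1)) (.node (.leaf 0x346543435475643456) (.leaf 0))))))) (.node (.node (.node (.node (.node (.node (.leaf 0x3453) (.leaf 0x3565434775434657743456)) (.node (.leaf 0x1) (.leaf 0x4565486345343))) (.node (.node (.leaf 0x1) (.leaf 0x121432434543423412)) (.node (.leaf 0x3434565434597543457) (.leaf 0x434975434756434566)))) (.node (.node (.node (.leaf 0x0) (.leaf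 0x3965434566543456)) (.node (.leaf 0x0) (.leaf 0x7754397543654366564534))) (.node (.node (.leaf 0x0) (.leaf 0x375434575434579)) (.node (.leaf 0x54343579543457) (.leaf 0))))) (.node (.node (.node (.node (.leaf 0x0) (.leaf 0x665434685643457)) (.node (.leaf 0x77566) (.leaf 0x343547543468563457))) (.node (.node (.leaf 0x3453) (.leaf 0x1213243454342341234)) (.node (.leaf 0x35434775664345) (.leaf 0x54377543465465783453)))) (.node (.node (.node (.leaf 0x1) (.leaf 0x213243454342341234)) (.node (.leaf 0x91) (.leaf 0x14875434575434579))) (.node (.node (.leaf 0x1) (.leaf 0x14543457754345)) (.node (.leaf 0x2132434543284341234) (.leaf 0)))))) (.node (.node (.node (.node (.node (.leaf 0x31) (.leaf 0x666543453)) (.node (.leaf 0x0) (.leaf 0x4565434775743457))) (.node (.node (.leaf 0x686) (.leaf 0x21432434543423412)) (.node (.leaf 0x434575434575643456) (.leaf 0x1)))) (.node (.node (.node (.leaf 0x3) (.leaf 0x3575434754347574345695)) (.node (.leaf 0x1) (.leaf 0x346654345754345))) (.node (.node (.leaf 0x1) (.leaf 0x2143243475473423412)) (.node (.leaf 0x43454341)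 (.leaf 0))))) (.node (.node (.node (.node (.leaf 0x8) (.leaf 0x396543456543456)) (.node (.leaf 0x3434565434565434577) (.leaf 0x3436547543477563456))) (.node (.node (.leaf 0x1) (.leaf 0x1)) (.node (.leaf 0x1213243454342341234) (.leaf 0)))) (.node (.node (.node (.leaf 0x1) (.leaf 0x3565434695743457)) (.node (.leaf 0x1) (.leaf 0x665437543654369574565))) (.node (.node (.leaf 0x0) (.leaf 0x4875434575434579)) (.node (.leaf 0x213243435434234512) (.leaf 0))))))))

/-- part of the labels -/
def labels10 : Trie :=
  (.node (.node (.node (.node (.node (.node (.node (.leaf 0x5) (.leaf 0x213243435434234512)) (.node (.leaf 0x0) (.leaf 0x14775434565))) (.node (.node (.leaf 0x1) (.leaf 0x8754343575434579)) (.node (.leaf 0x0) (.leaf 0x1475434575434579)))) (.node (.node (.node (.leaf 0x1) (.leaf 0x34754346543475643454)) (.node (.leaf 0x7565) (.leaf 0x14346577434566))) (.node (.node (.leaf 0x0) (.leaf 0x1436543654365466563457)) (.node (.leaf 0x147543457543457) (.leaf 0))))) (.node (.node (.node (.node (.leaf 0x7931) (.leaf 0x37543486543475643456)) (.node (.leaf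 0x3) (.leaf 0x3434654345754345))) (.node (.node (.leaf 0x1) (.leaf 0x121432434543423412)) (.node (.leaf 0x177543495654345) (.leaf 0x3435775434568)))) (.node (.node (.node (.leaf 0x0) (.leaf 0x213243454342341234)) (.node (.leaf 0x8) (.leaf 0x1))) (.node (.node (.leaf 0x1) (.leaf 0x21432434543423412)) (.node (.leaf 0x15654346543475774345) (.leaf 0)))))) (.node (.node (.node (.node (.node (.leaf 0x3) (.leaf 0x3565434775434657743456)) (.node (.leaf 0x0) (.leaf 0x34543475434965643454))) (.node (.node (.leaf 0x0) (.leaf 0x121432434543423412)) (.node (.leaf 0x45475434563454) (.leaf 0x1)))) (.node (.node (.node (.leaf 0x0) (.leaf 0x5754349656434565)) (.node (.leaf 0x0) (.leaf 0x434375434965643454))) (.node (.node (.leaf 0x9) (.leaf 0x12143243475473423412)) (.node (.leaf 0x1213243454342341234) (.leaf 0))))) (.node (.node (.node (.node (.leaf 0x1) (.leaf 0x6865434568)) (.node (.leaf 0x31) (.leaf 0x496543436543465694345))) (.node (.node (.leaf 0x1) (.leaf 0x1)) (.node (.leaf 0x35434565434596543456) (.leaf 0)))) (.node (.node (.node (.leaf 0x1) (.leaf 0x1))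 (.node (.leaf 0x0) (.leaf 0x54346543475475734543))) (.node (.node (.leaf 0x0) (.leaf 0x4875434575434579)) (.node (.leaf 0x121432434543423412) (.leaf 0))))))) (.node (.node (.node (.node (.node (.node (.leaf 0x77566) (.leaf 0x168654345)) (.node (.leaf 0x91) (.leaf 0x343475434965643454))) (.node (.node (.leaf 0x91) (.leaf 0x121432434543423412)) (.node (.leaf 0x3434865434656943456) (.leaf 0x34531)))) (.node (.node (.node (.leaf 0x0) (.leaf 0x2132434543274341234)) (.node (.leaf 0x0) (.leaf 0x354397543654364574534))) (.node (.node (.leaf 0x0) (.leaf 0x2132654343754378452312)) (.node (.leaf 0x1213243454342341234) (.leaf 0))))) (.node (.node (.node (.node (.leaf 0x0) (.leaf 0x654345665434579)) (.node (.leaf 0x0) (.leaf 0x5437543496574573453))) (.node (.node (.leaf 0x1) (.leaf 0x21324347543274341234)) (.node (.leaf 0x4321432454345342312) (.leaf 0x145437574577345)))) (.node (.node (.node (.leaf 0x0) (.leaf 0x121432434543423412)) (.node (.leaf 0x0) (.leaf 0x1213243454342341234))) (.node (.node (.leaf 0x1) (.leaf 0x43454346543475643457)) (.node (.leaf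 0x54345434) (.leaf 0)))))) (.node (.node (.node (.node (.node (.leaf 0x0) (.leaf 0x36543496543475643456)) (.node (.leaf 0x8) (.leaf 0x3475434865434657434574))) (.node (.node (.leaf 0x1) (.leaf 0x21432434543423412)) (.node (.leaf 0x654345754345) (.leaf 0x0)))) (.node (.node (.node (.leaf 0x1) (.leaf 0x2154321434594342312)) (.node (.leaf 0x1) (.leaf 0x1213243454342345412))) (.node (.node (.leaf 0x0) (.leaf 0x132154324347564342312)) (.node (.leaf 0x575434965743457) (.leaf 0))))) (.node (.node (.node (.node (.leaf 0x435434656643456) (.leaf 0x54345654754345634569)) (.node (.leaf 0x65475434563457) (.leaf 0x4354347543975745734))) (.node (.node (.leaf 0x1) (.leaf 0x175434566)) (.node (.leaf 0x45475434563454) (.leaf 0)))) (.node (.node (.node (.leaf 0x0) (.leaf 0x78543456)) (.node (.leaf 0x3) (.leaf 0x165437543654396574569))) (.node (.node (.leaf 0x0) (.leaf 0x1213243457543297434512)) (.node (.leaf 0x35434577543456543456) (.leaf 0))))))))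

/-- part of the labels -/
def labels6 : Trie :=
  (.node (.node (.node (.node (.node (.node (.node (.leaf 0x0) (.leaf 0x3565434775434657743456)) (.node (.leaf 0x0) (.leaf 0x1213243475754384234512))) (.node (.node (.leaf 0x1) (.leaf 0x8754343575434579)) (.node (.leaf 0x1) (.leaf 0x14875434575434579)))) (.node (.node (.node (.leaf 0x0) (.leaf 0x16543475434975754345)) (.node (.leaf 0x686) (.leaf 0x43487543466574345434))) (.node (.node (.leaf 0x0) (.leaf 0x5965434756434569)) (.node (.leaf 0x1213243454342341234) (.leaf 0))))) (.node (.node (.node (.node (.leaf 0x79731) (.leaf 0x354345654754345634569)) (.node (.leaf 0x31) (.leaf 0x4375434564))) (.node (.node (.leaf 0x9) (.leaf 0x21432434543423412)) (.node (.leaf 0x654345754345) (.leaf 0x3865437564345745)))) (.node (.node (.node (.leaf 0x0) (.leaf 0x213243454342341234)) (.node (.leaf 0x0) (.leaf 0x3543754375469656345))) (.node (.node (.leaf 0x0) (.leaf 0x213243437564342312)) (.node (.leaf 0x213243454342341234) (.leaf 0)))))) (.node (.node (.node (.node (.node (.leaf 0x8) (.leaf 0x666543453)) (.node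 (.leaf 0x0) (.leaf 0x343475434965643454))) (.node (.node (.leaf 0x0) (.leaf 0x121432434543423412)) (.node (.leaf 0x434865434656943456) (.leaf 0x0)))) (.node (.node (.node (.leaf 0x0) (.leaf 0x543475434757743456)) (.node (.leaf 0x0) (.leaf 0x95343))) (.node (.node (.leaf 0x1) (.leaf 0x6654346574345695)) (.node (.leaf 0x213243454342341234) (.leaf 0))))) (.node (.node (.node (.node (.leaf 0x1) (.leaf 0x654345665434579)) (.node (.leaf 0x31) (.leaf 0x496543436543465694345))) (.node (.node (.leaf 0x0) (.leaf 0x21324347543274341234)) (.node (.leaf 0x1213243454342341234) (.leaf 0x1665437543654369574565)))) (.node (.node (.node (.leaf 0x1) (.leaf 0x1213243454342341234)) (.node (.leaf 0x0) (.leaf 0x1213243454342341234))) (.node (.node (.leaf 0x5343) (.leaf 0x4875434575434578)) (.node (.leaf 0x3436543754365645794) (.leaf 0))))))) (.node (.node (.node (.node (.node (.node (.leaf 0x0) (.leaf 0x21432434543423412)) (.node (.leaf 0x0) (.leaf 0x1543775437574578343))) (.node (.node (.leaf 0x1) (.leaf 0x121432434543423412)) (.node (.leaf 0x54343965784345) (.leaf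 0x121432434543423412)))) (.node (.node (.node (.leaf 0x0) (.leaf 0x1213243454342341234)) (.node (.leaf 0x0) (.leaf 0x7543754346656457343))) (.node (.node (.leaf 0x0) (.leaf 0x975434566)) (.node (.leaf 0x54665434573456) (.leaf 0))))) (.node (.node (.node (.node (.leaf 0x9) (.leaf 0x54345654754345634569)) (.node (.leaf 0x0) (.leaf 0x54375439757457343))) (.node (.node (.leaf 0x9) (.leaf 0x1213243454342341234)) (.node (.leaf 0x213243454342341234) (.leaf 0x3543754375487566345)))) (.node (.node (.node (.leaf 0x0) (.leaf 0x1213243454342341234)) (.node (.leaf 0x91) (.leaf 0x147543457543457))) (.node (.node (.leaf 0x1) (.leaf 0x4754347757434578)) (.node (.leaf 0x147543457543457) (.leaf 0)))))) (.node (.node (.node (.node (.node (.leaf 0x1) (.leaf 0x3565434775434657743456)) (.node (.leaf 0x0) (.leaf 0x95343))) (.node (.node (.leaf 0x0) (.leaf 0x3654346587434575)) (.node (.leaf 0x15434775664345) (.leaf 0x434543475434566)))) (.node (.node (.node (.leaf 0x3) (.leaf 0x3754347875473457843)) (.node (.leaf 0x3) (.leaf 0x543775437543975745773))) (.node (.node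 (.leaf 0x0) (.leaf 0x5654348757434569)) (.node (.leaf 0x154396456434) (.leaf 0))))) (.node (.node (.node (.node (.leaf 0x1) (.leaf 0x654345665434579)) (.node (.leaf 0x3434565434565434577) (.leaf 0x434543466575434))) (.node (.node (.leaf 0x1) (.leaf 0x1)) (.node (.leaf 0x54343579543457) (.leaf 0)))) (.node (.node (.node (.leaf 0x81) (.leaf 0x3565434695743457)) (.node (.leaf 0x75651) (.leaf 0x1))) (.node (.node (.leaf 0x0) (.leaf 0x1213243457543297434512)) (.node (.leaf 0x54345434) (.leaf 0))))))))

/-- part of the labels -/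
def labels14 : Trie :=
  (.node (.node (.node (.node (.node (.node (.node (.leaf 0x0) (.leaf 0x686543453)) (.node (.leaf 0x731) (.leaf 0x454343754368456434))) (.node (.node (.leaf 0x1) (.leaf 0x12143243475473423412)) (.node (.leaf 0x0) (.leaf 0x0)))) (.node (.node (.node (.leaf 0x0) (.leaf 0x3965434566543456)) (.node (.leaf 0x65751) (.leaf 0x157543475664345))) (.node (.node (.leaf 0x0) (.leaf 0x1436543654365466563457)) (.node (.leaf 0x213243454342341234) (.leaf 0))))) (.node (.node (.node (.node (.leaf 0x686) (.leaf 0x54345654754345634569)) (.node (.leaf 0x1) (.leaf 0x3434654345754345))) (.node (.node (.leaf 0x0) (.leaf 0x2132434354394234512)) (.node (.leaf 0x1213243454342341234) (.leaf 0x1)))) (.node (.node (.node (.leaf 0x8) (.leaf 0x213243456543264341234)) (.node (.leaf 0x8) (.leaf 0x0))) (.node (.node (.leaf 0x1) (.leaf 0x14543457754345)) (.node (.leaf 0x1213243454342341234) (.leaf 0)))))) (.node (.node (.node (.node (.node (.leaf 0x0) (.leaf 0x121432434543423412)) (.node (.leaf 0x0) (.leaf 0x3543875463457745))) (.node (.node (.leaf 0x0)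 (.leaf 0x21432434543423412)) (.node (.leaf 0x754346654378457434) (.leaf 0x13435436543685745653)))) (.node (.node (.node (.leaf 0x31) (.leaf 0x3565434775434657743456)) (.node (.leaf 0x1) (.leaf 0x215432143454342312))) (.node (.node (.leaf 0x91) (.leaf 0x2132154349754374572312)) (.node (.leaf 0x213243454342341234) (.leaf 0))))) (.node (.node (.node (.node (.leaf 0x0) (.leaf 0x1)) (.node (.leaf 0x3434566543457543457) (.leaf 0x4345654346543457575))) (.node (.node (.leaf 0x1) (.leaf 0x1)) (.node (.leaf 0x1213243454342341234) (.leaf 0)))) (.node (.node (.node (.leaf 0x1) (.leaf 0x78543456)) (.node (.leaf 0x0) (.leaf 0x1))) (.node (.node (.leaf 0x0) (.leaf 0x7754345965434566)) (.node (.leaf 0x213243454342341234) (.leaf 0))))))) (.node (.node (.node (.node (.node (.node (.leaf 0x3) (.leaf 0x3565434775434657743456)) (.node (.leaf 0x0) (.leaf 0x34543654754374574345))) (.node (.node (.leaf 0x0) (.leaf 0x121432434543423412)) (.node (.leaf 0x343543475465634534) (.leaf 0x0)))) (.node (.node (.node (.leaf 0x0) (.leaf 0x21324349754342341234)) (.node (.leaf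 0x0) (.leaf 0x354347543665434568))) (.node (.node (.leaf 0x0) (.leaf 0x1436543654365466563457)) (.node (.leaf 0x1213243454342341234) (.leaf 0))))) (.node (.node (.node (.node (.leaf 0x0) (.leaf 0x36543496543475643456)) (.node (.leaf 0x69631) (.leaf 0x3435487543435465743454))) (.node (.node (.leaf 0x1) (.leaf 0x54754345683456)) (.node (.leaf 0x54754345634577) (.leaf 0x3543754375487566345)))) (.node (.node (.node (.leaf 0x0) (.leaf 0x1)) (.node (.leaf 0x0) (.leaf 0x37543475434657434577))) (.node (.node (.leaf 0x0) (.leaf 0x1)) (.node (.leaf 0x375434575473456434) (.leaf 0)))))) (.node (.node (.node (.node (.node (.leaf 0x631) (.leaf 0x36543496543475643456)) (.node (.leaf 0x8) (.leaf 0x3436543754377566456345))) (.node (.node (.leaf 0x9) (.leaf 0x546654345793)) (.node (.leaf 0x754345754374565434) (.leaf 0x346543654365486573456)))) (.node (.node (.node (.leaf 0x1) (.leaf 0x3439654347569643456)) (.node (.leaf 0x797) (.leaf 0x2132434543284341234))) (.node (.node (.leaf 0x1) (.leaf 0x754654345734578)) (.node (.leaf 0x121432434543423412) (.leaf 0)))))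 (.node (.node (.node (.node (.leaf 0x0) (.leaf 0x154345754364566434)) (.node (.leaf 0x65475434563457) (.leaf 0x14346577434566))) (.node (.node (.leaf 0x1) (.leaf 0x357543465743456)) (.node (.leaf 0x1213243454342341234) (.leaf 0)))) (.node (.node (.node (.leaf 0x1) (.leaf 0x543487543457574345)) (.node (.leaf 0x1) (.leaf 0x1))) (.node (.node (.leaf 0x0) (.leaf 0x6543465434965645343)) (.node (.leaf 0x121432434543423412) (.leaf 0))))))))

/-- part of the labels -/
def labels1 : Trie :=
  (.node (.node (.node (.node (.node (.node (.node (.leaf 0x3) (.leaf 0x15657743456)) (.node (.leaf 0x0) (.leaf 0x435775437564573456))) (.node (.node (.leaf 0x1) (.leaf 0x178543456)) (.node (.leaf 0x3) (.leaf 0x34531)))) (.node (.node (.node (.leaf 0x0) (.leaf 0x654345665434579)) (.node (.leaf 0x787543457543457) (.leaf 0x4543437754375745734))) (.node (.node (.leaf 0x0) (.leaf 0x7754345965434566)) (.node (.leaf 0x213243435434234512) (.leaf 0))))) (.node (.node (.node (.node (.leaf 0x9731) (.leaf 0x654345665434579)) (.node (.leaf 0x3) (.leaf 0x4754345634))) (.node (.node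 (.leaf 0x8) (.leaf 0x121432434543423412)) (.node (.leaf 0x3465437543975745734) (.leaf 0x21432434543423412)))) (.node (.node (.node (.leaf 0x3) (.leaf 0x1213243454342341234)) (.node (.leaf 0x0) (.leaf 0x2154321434594342312))) (.node (.node (.leaf 0x0) (.leaf 0x121324347543274345123)) (.node (.leaf 0x213243435434234512) (.leaf 0)))))) (.node (.node (.node (.node (.node (.leaf 0x731) (.leaf 0x37543486543475643456)) (.node (.leaf 0x0) (.leaf 0x165434654347574345664))) (.node (.node (.leaf 0x0) (.leaf 0x1)) (.node (.leaf 0x434654345657434575) (.leaf 0x3565463457943)))) (.node (.node (.node (.leaf 0x0) (.leaf 0x2132434356574342312)) (.node (.leaf 0x0) (.leaf 0x53431))) (.node (.node (.leaf 0x543453) (.leaf 0x1436543654365466563457)) (.node (.leaf 0x213243454342341234) (.leaf 0))))) (.node (.node (.node (.node (.leaf 0x31) (.leaf 0x6865434568)) (.node (.leaf 0x0) (.leaf 0x543875436564573453))) (.node (.node (.leaf 0x0) (.leaf 0x3865434565434569)) (.node (.leaf 0x154345785434566) (.leaf 0x1465437543654386574534)))) (.node (.node (.node (.leaf 0x0) (.leaf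 0x1)) (.node (.leaf 0x0) (.leaf 0x1))) (.node (.node (.leaf 0x0) (.leaf 0x1)) (.node (.leaf 0x346543435475643456) (.leaf 0))))))) (.node (.node (.node (.node (.node (.node (.leaf 0x8) (.leaf 0x3565434775434657743456)) (.node (.leaf 0x0) (.leaf 0x354347543465469563453))) (.node (.node (.leaf 0x0) (.leaf 0x21432434543423412)) (.node (.leaf 0x6543435654384575434) (.leaf 0x143466543465784345)))) (.node (.node (.node (.leaf 0x0) (.leaf 0x3965434566543456)) (.node (.leaf 0x1) (.leaf 0x37543754865463456345))) (.node (.node (.leaf 0x0) (.leaf 0x54347564345757)) (.node (.leaf 0x213243454342341234) (.leaf 0))))) (.node (.node (.node (.node (.leaf 0x0) (.leaf 0x37543486543475643456)) (.node (.leaf 0x1) (.leaf 0x456543439757434543))) (.node (.node (.leaf 0x1) (.leaf 0x1213243454342341234)) (.node (.leaf 0x35434775664345) (.leaf 0x3454365436564566345)))) (.node (.node (.node (.leaf 0x0) (.leaf 0x1213243454342341234)) (.node (.leaf 0x1) (.leaf 0x1213243454342341234))) (.node (.node (.leaf 0x0) (.leaf 0x4354754345693456)) (.node (.leaf 0x213243454342341234)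 (.leaf 0)))))) (.node (.node (.node (.node (.node (.leaf 0x0) (.leaf 0x21432434543423412)) (.node (.leaf 0x0) (.leaf 0x439754347564345745))) (.node (.node (.leaf 0x0) (.leaf 0x21432434543423412)) (.node (.leaf 0x543475654345) (.leaf 0x21432434654364234123)))) (.node (.node (.node (.leaf 0x1) (.leaf 0x2143243475473423412)) (.node (.leaf 0x1) (.leaf 0x66543436543475643456))) (.node (.node (.leaf 0x1) (.leaf 0x1)) (.node (.leaf 0x5434665684345) (.leaf 0))))) (.node (.node (.node (.node (.leaf 0x9) (.leaf 0x5965434756434569)) (.node (.leaf 0x3434565434565434577) (.leaf 0x4345654754345634575))) (.node (.node (.leaf 0x0) (.leaf 0x1)) (.node (.leaf 0x213243454342341234) (.leaf 0)))) (.node (.node (.node (.leaf 0x1) (.leaf 0x3565434695743457)) (.node (.leaf 0x79731) (.leaf 0x3543754375469656345))) (.node (.node (.leaf 0x0) (.leaf 0x435434575434566)) (.node (.leaf 0x213243435434234512) (.leaf 0))))))))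

/-- part of the labels -/
def labels9 : Trie :=
  (.node (.node (.node (.node (.node (.node (.node (.leaf 0x3) (.leaf 0x121432434543423412)) (.node (.leaf 0x0) (.leaf 0x47543465743456))) (.node (.node (.leaf 0x0) (.leaf 0x875434357543457)) (.node (.leaf 0x0) (.leaf 0x14875434575434579)))) (.node (.node (.node (.leaf 0x0) (.leaf 0x3965434566543456)) (.node (.leaf 0x797) (.leaf 0x435475434357756456345))) (.node (.node (.leaf 0x0) (.leaf 0x357543465743456)) (.node (.leaf 0x147543457543457) (.leaf 0))))) (.node (.node (.node (.node (.leaf 0x7731) (.leaf 0x37543486543475643456)) (.node (.leaf 0x1) (.leaf 0x3434654345754345))) (.node (.node (.leaf 0x0) (.leaf 0x21432434543423412)) (.node (.leaf 0x177543495654345) (.leaf 0x4365434686564345)))) (.node (.node (.node (.leaf 0x8) (.leaf 0x1213243454342341234)) (.node (.leaf 0x0) (.leaf 0x213243454342341234))) (.node (.node (.leaf 0x1) (.leaf 0x2132654347543274579312)) (.node (.leaf 0x15654346543475774345) (.leaf 0)))))) (.node (.node (.node (.node (.node (.leaf 0x1) (.leaf 0x466543654375487563457)) (.node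 (.leaf 0x0) (.leaf 0x166543754365465773457))) (.node (.node (.leaf 0x0) (.leaf 0x121432434543423412)) (.node (.leaf 0x565434565463457434) (.leaf 0x34345436574563456)))) (.node (.node (.node (.leaf 0x0) (.leaf 0x1213243454342341234)) (.node (.leaf 0x0) (.leaf 0x346543754365469563453))) (.node (.node (.leaf 0x1) (.leaf 0x2132154349754374572312)) (.node (.leaf 0x1213243454342341234) (.leaf 0))))) (.node (.node (.node (.node (.leaf 0x0) (.leaf 0x37543475434657943456)) (.node (.leaf 0x0) (.leaf 0x1543875436564573453))) (.node (.node (.leaf 0x0) (.leaf 0x21324347543274341234)) (.node (.leaf 0x121324348654342341234) (.leaf 0)))) (.node (.node (.node (.leaf 0x0) (.leaf 0x213243454342341234)) (.node (.leaf 0x0) (.leaf 0x54346543475475734543))) (.node (.node (.leaf 0x0) (.leaf 0x14875434575434579)) (.node (.leaf 0x121432434543423412) (.leaf 0))))))) (.node (.node (.node (.node (.node (.node (.leaf 0x8) (.leaf 0x1214324345483423412)) (.node (.leaf 0x34531) (.leaf 0x147754346543465743457))) (.node (.node (.leaf 0x1) (.leaf 0x121432434543423412)) (.node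 (.leaf 0x3434865434656943456) (.leaf 0x34754368453434)))) (.node (.node (.node (.leaf 0x0) (.leaf 0x1213243454342341234)) (.node (.leaf 0x7) (.leaf 0x437543754365475696345))) (.node (.node (.leaf 0x0) (.leaf 0x1436543654365466563457)) (.node (.leaf 0x177543495654345) (.leaf 0))))) (.node (.node (.node (.node (.leaf 0x0) (.leaf 0x654345665434579)) (.node (.leaf 0x8) (.leaf 0x5437543496574573453))) (.node (.node (.leaf 0x0) (.leaf 0x1)) (.node (.leaf 0x4321432454345342312) (.leaf 0x3454365436564566345)))) (.node (.node (.node (.leaf 0x1) (.leaf 0x1213243454342341234)) (.node (.leaf 0x8) (.leaf 0x1))) (.node (.node (.leaf 0x0) (.leaf 0x1)) (.node (.leaf 0x54345434) (.leaf 0)))))) (.node (.node (.node (.node (.node (.leaf 0x31) (.leaf 0x213243456543264341234)) (.node (.leaf 0x9) (.leaf 0x3435434654346579434574))) (.node (.node (.leaf 0x0) (.leaf 0x121432434543423412)) (.node (.leaf 0x654345754345) (.leaf 0x3754346543475743456)))) (.node (.node (.node (.leaf 0x1) (.leaf 0x834531)) (.node (.leaf 0x1) (.leaf 0x343566645343))) (.node (.node (.leaf 0x0)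 (.leaf 0x132154324347564342312)) (.node (.leaf 0x343454346574345434) (.leaf 0))))) (.node (.node (.node (.node (.leaf 0x346543465664345) (.leaf 0x54345654754345634569)) (.node (.leaf 0x3434754345754345665) (.leaf 0x549654345693456))) (.node (.node (.leaf 0x1) (.leaf 0x81)) (.node (.leaf 0x43454341) (.leaf 0)))) (.node (.node (.node (.leaf 0x1) (.leaf 0x543487543457574345)) (.node (.leaf 0x31) (.leaf 0x54346543475475734543))) (.node (.node (.leaf 0x0) (.leaf 0x3543466543465473456543)) (.node (.leaf 0x3965436543654387564575) (.leaf 0))))))))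

/-- part of the labels -/
def labels5 : Trie :=
  (.node (.node (.node (.node (.node (.node (.node (.leaf 0x8) (.leaf 0x965436543654387564575)) (.node (.leaf 0x854) (.leaf 0x3454346543465794345))) (.node (.node (.leaf 0x0) (.leaf 0x8654343565434569)) (.node (.leaf 0x1) (.leaf 0x0)))) (.node (.node (.node (.leaf 0x45) (.leaf 0x77543457543457854345)) (.node (.leaf 0x31) (.leaf 0x14346577434566))) (.node (.node (.leaf 0x0) (.leaf 0x5965434756434569)) (.node (.leaf 0x3543475434756654345) (.leaf 0))))) (.node (.node (.node (.node (.leaf 0x96578) (.leaf 0x6543436543497564345)) (.node (.leaf 0x1) (.leaf 0x4375434564))) (.node (.node (.leaf 0x8) (.leaf 0x214324345483423412)) (.node (.leaf 0x3754345654345) (.leaf 0x354397543654364574534)))) (.node (.node (.node (.leaf 0x53431) (.leaf 0x1213243454342341234)) (.node (.leaf 0x8) (.leaf 0x34543654754374574345))) (.node (.node (.leaf 0x34531) (.leaf 0x213243437564342312)) (.node (.leaf 0x1213243454342341234) (.leaf 0)))))) (.node (.node (.node (.node (.node (.leaf 0x657) (.leaf 0x16865434568)) (.node (.leaf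 0x0) (.leaf 0x34543475434965643454))) (.node (.node (.leaf 0x0) (.leaf 0x1)) (.node (.leaf 0x434575434575643456) (.leaf 0x54346543475475734543)))) (.node (.node (.node (.leaf 0x0) (.leaf 0x754346654374564345)) (.node (.leaf 0x0) (.leaf 0x21324346654374234512))) (.node (.node (.leaf 0x1) (.leaf 0x2132543439754374572312)) (.node (.leaf 0x1213243454342341234) (.leaf 0))))) (.node (.node (.node (.node (.leaf 0x9) (.leaf 0x654345665434579)) (.node (.leaf 0x0) (.leaf 0x3439754346564345643))) (.node (.node (.leaf 0x0) (.leaf 0x21324347543274341234)) (.node (.leaf 0x1213243454342341234) (.leaf 0x343865436568456345)))) (.node (.node (.node (.leaf 0x0) (.leaf 0x1213243454342341234)) (.node (.leaf 0x0) (.leaf 0x1))) (.node (.node (.leaf 0x53431) (.leaf 0x14875434575434579)) (.node (.leaf 0x346543435475643456) (.leaf 0))))))) (.node (.node (.node (.node (.node (.node (.leaf 0x3) (.leaf 0x121432434543423412)) (.node (.leaf 0x1) (.leaf 0x3543654365486563457))) (.node (.node (.leaf 0x0) (.leaf 0x121432434543423412)) (.node (.leaf 0x5434965784345) (.leaf 0x1))))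 (.node (.node (.node (.leaf 0x0) (.leaf 0x1213243454342341234)) (.node (.leaf 0x0) (.leaf 0x165437543654375745434))) (.node (.node (.leaf 0x0) (.leaf 0x1875434566)) (.node (.leaf 0x43454341) (.leaf 0))))) (.node (.node (.node (.node (.leaf 0x686) (.leaf 0x54345654754345634569)) (.node (.leaf 0x1) (.leaf 0x196543754366574563456))) (.node (.node (.leaf 0x0) (.leaf 0x1213243454342341234)) (.node (.leaf 0x213243454342341234) (.leaf 0x1213243454342341234)))) (.node (.node (.node (.leaf 0x1) (.leaf 0x121432434543423412)) (.node (.leaf 0x1) (.leaf 0x154754375436574563457))) (.node (.node (.leaf 0x0) (.leaf 0x14875434575434579)) (.node (.leaf 0x1213243454342341234) (.leaf 0)))))) (.node (.node (.node (.node (.node (.leaf 0x0) (.leaf 0x6543436543497564345)) (.node (.leaf 0x0) (.leaf 0x2154324343594342312))) (.node (.node (.leaf 0x1) (.leaf 0x875434357543457)) (.node (.leaf 0x45475434563454) (.leaf 0x43465434965784345)))) (.node (.node (.node (.leaf 0x3) (.leaf 0x1213243454342341234)) (.node (.leaf 0x3) (.leaf 0x3454365436568456345))) (.node (.node (.leaf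 0x9) (.leaf 0x754654345734578)) (.node (.leaf 0x565434365434775643457) (.leaf 0))))) (.node (.node (.node (.node (.leaf 0x1) (.leaf 0x54345654754345634569)) (.node (.leaf 0x3434565434565434577) (.leaf 0x4354386543475645734))) (.node (.node (.leaf 0x1) (.leaf 0x21324347543274341234)) (.node (.leaf 0x3754345654345) (.leaf 0)))) (.node (.node (.node (.leaf 0x1) (.leaf 0x78543456)) (.node (.leaf 0x875753) (.leaf 0x34543475434965643454))) (.node (.node (.leaf 0x0) (.leaf 0x121324346654374234512)) (.node (.leaf 0x15657743456) (.leaf 0))))))))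

/-- part of the labels -/
def labels13 : Trie :=
  (.node (.node (.node (.node (.node (.node (.node (.leaf 0x9) (.leaf 0x97574345693)) (.node (.leaf 0x0) (.leaf 0x14795434565))) (.node (.node (.leaf 0x0) (.leaf 0x121432434543423412)) (.node (.leaf 0x0) (.leaf 0x4354345975434566)))) (.node (.node (.node (.leaf 0x9) (.leaf 0x3965434566543456)) (.node (.leaf 0x65751) (.leaf 0x35436543465475634569))) (.node (.node (.leaf 0x0) (.leaf 0x1436543654365466563457)) (.node (.leaf 0x213243454342341234) (.leaf 0))))) (.node (.node (.node (.node (.leaf 0x68631) (.leaf 0x1213243477543297457312)) (.node (.leaf 0x8) (.leaf 0x54965434573))) (.node (.node (.leaf 0x1) (.leaf 0x121432434543423412)) (.node (.leaf 0x154348657434577) (.leaf 0x0)))) (.node (.node (.node (.leaf 0x0) (.leaf 0x213243456543264341234)) (.node (.leaf 0x0) (.leaf 0x1213243454342341234))) (.node (.node (.leaf 0x0) (.leaf 0x14543457754345)) (.node (.leaf 0x543654375496573456) (.leaf 0)))))) (.node (.node (.node (.node (.node (.leaf 0x666) (.leaf 0x121432434543423412)) (.node (.leaf 0x0) (.leaf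 0x454345654375465634534))) (.node (.node (.leaf 0x0) (.leaf 0x1)) (.node (.leaf 0x3565434654365434564) (.leaf 0x38754365745693)))) (.node (.node (.node (.leaf 0x31) (.leaf 0x21324347543274341234)) (.node (.leaf 0x1) (.leaf 0x37543475434657434577))) (.node (.node (.leaf 0x1) (.leaf 0x4543475434657434564)) (.node (.leaf 0x1213243454342341234) (.leaf 0))))) (.node (.node (.node (.node (.leaf 0x5343) (.leaf 0x54345654754345634569)) (.node (.leaf 0x0) (.leaf 0x3436654365436577456345))) (.node (.node (.leaf 0x0) (.leaf 0x43454349754374574345)) (.node (.leaf 0x147543457543457) (.leaf 0)))) (.node (.node (.node (.leaf 0x0) (.leaf 0x754345665434568)) (.node (.leaf 0x0) (.leaf 0x0))) (.node (.node (.leaf 0x0) (.leaf 0x4875434575434579)) (.node (.leaf 0x1213243454342341234) (.leaf 0))))))) (.node (.node (.node (.node (.node (.node (.leaf 0x1) (.leaf 0x45434563456)) (.node (.leaf 0x0) (.leaf 0x15468543457))) (.node (.node (.leaf 0x0) (.leaf 0x21432434543423412)) (.node (.leaf 0x434654345657434575) (.leaf 0x436549654343657456534)))) (.node (.node (.node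 (.leaf 0x0) (.leaf 0x37543486543475643456)) (.node (.leaf 0x0) (.leaf 0x134365437543785664563))) (.node (.node (.leaf 0x0) (.leaf 0x1436543654365466563457)) (.node (.leaf 0x213243435434234512) (.leaf 0))))) (.node (.node (.node (.node (.leaf 0x454343656643456) (.leaf 0x5965434756434569)) (.node (.leaf 0x8) (.leaf 0x2132434754321497345752))) (.node (.node (.leaf 0x0) (.leaf 0x1213243454342341234)) (.node (.leaf 0x154345785434566) (.leaf 0x0)))) (.node (.node (.node (.leaf 0x96578) (.leaf 0x1)) (.node (.leaf 0x0) (.leaf 0x85343))) (.node (.node (.leaf 0x3453) (.leaf 0x43454346543475643457)) (.node (.leaf 0x3754345754374569434) (.leaf 0)))))) (.node (.node (.node (.node (.node (.leaf 0x7565) (.leaf 0x36543496543475643456)) (.node (.leaf 0x9) (.leaf 0x3436543754377566456345))) (.node (.node (.leaf 0x9) (.leaf 0x121432434543423412)) (.node (.leaf 0x177543495654345) (.leaf 0x121432434543423412)))) (.node (.node (.node (.leaf 0x1) (.leaf 0x3575434754347574345695)) (.node (.leaf 0x0) (.leaf 0x1213243454342341234))) (.node (.node (.leaf 0x0) (.leaf 0x2132154348754374572312))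 (.node (.leaf 0x654346578434565) (.leaf 0))))) (.node (.node (.node (.node (.leaf 0x1) (.leaf 0x54345654754345634569)) (.node (.leaf 0x3434565434565434577) (.leaf 0x436549654343657456534))) (.node (.node (.leaf 0x0) (.leaf 0x375434657434565)) (.node (.leaf 0x177543495654345) (.leaf 0)))) (.node (.node (.node (.leaf 0x0) (.leaf 0x543487543457574345)) (.node (.leaf 0x1) (.leaf 0x21432434543423412))) (.node (.node (.leaf 0x0) (.leaf 0x1213243457543297434512)) (.node (.leaf 0x37754346543475643456) (.leaf 0))))))))

/-- part of the labels -/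
def labels3 : Trie :=
  (.node (.node (.node (.node (.node (.node (.node (.leaf 0x5) (.leaf 0x54345434)) (.node (.leaf 0x543453) (.leaf 0x3754375465434375645734))) (.node (.node (.leaf 0x0) (.leaf 0x178543456)) (.node (.leaf 0x3) (.leaf 0x1543754397574579343)))) (.node (.node (.node (.leaf 0x451) (.leaf 0x375434575643456)) (.node (.leaf 0x787543457543457) (.leaf 0x4365437543465794534))) (.node (.node (.leaf 0x0) (.leaf 0x357543465743456)) (.node (.leaf 0x1213243454342341234) (.leaf 0))))) (.node (.node (.node (.node (.leaf 0x6831) (.leaf 0x1975434579)) (.node (.leaf 0x3) (.leaf 0x5434754345754345665))) (.node (.node (.leaf 0x1) (.leaf 0x121432434543423412)) (.node (.leaf 0x15434775664345) (.leaf 0x0)))) (.node (.node (.node (.leaf 0x0) (.leaf 0x1213243454342341234)) (.node (.leaf 0x657) (.leaf 0x1))) (.node (.node (.leaf 0x0) (.leaf 0x121324347543274345123)) (.node (.leaf 0x1213243454342341234) (.leaf 0)))))) (.node (.node (.node (.node (.node (.leaf 0x1) (.leaf 0x21432434543423412)) (.node (.leaf 0x0) (.leaf 0x434566534))) (.node (.node (.leaf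 0x0) (.leaf 0x1)) (.node (.leaf 0x143465434656943456) (.leaf 0x3454365436568456345)))) (.node (.node (.node (.leaf 0x0) (.leaf 0x5434754347568434575)) (.node (.leaf 0x0) (.leaf 0x346543754365469563453))) (.node (.node (.leaf 0x8453434) (.leaf 0x2143243475473423412)) (.node (.leaf 0x3543458754345754345) (.leaf 0))))) (.node (.node (.node (.node (.leaf 0x1) (.leaf 0x54345654754345634569)) (.node (.leaf 0x8) (.leaf 0x3436654365436577456345))) (.node (.node (.leaf 0x3453) (.leaf 0x1)) (.node (.leaf 0x177543495654345) (.leaf 0x3454365436564566345)))) (.node (.node (.node (.leaf 0x0) (.leaf 0x1)) (.node (.leaf 0x0) (.leaf 0x96578))) (.node (.node (.leaf 0x53431) (.leaf 0x1)) (.node (.leaf 0x346543435475643456) (.leaf 0))))))) (.node (.node (.node (.node (.node (.node (.leaf 0x0) (.leaf 0x37754346543475643456)) (.node (.leaf 0x6931) (.leaf 0x43547543436597457345))) (.node (.node (.leaf 0x0) (.leaf 0x2143243475473423412)) (.node (.leaf 0x546543435496574345) (.leaf 0x375437754375487566345)))) (.node (.node (.node (.leaf 0x0) (.leaf 0x3965434566543456))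 (.node (.leaf 0x7971) (.leaf 0x343865436564566345))) (.node (.node (.leaf 0x0) (.leaf 0x7754345965434566)) (.node (.leaf 0x54345785434566) (.leaf 0))))) (.node (.node (.node (.node (.leaf 0x79731) (.leaf 0x1213243477543297457312)) (.node (.leaf 0x8) (.leaf 0x3454365436568456345))) (.node (.node (.leaf 0x0) (.leaf 0x5343)) (.node (.leaf 0x12132434543294341234) (.leaf 0x0)))) (.node (.node (.node (.leaf 0x31) (.leaf 0x1213243454342341234)) (.node (.leaf 0x8) (.leaf 0x81))) (.node (.node (.leaf 0x0) (.leaf 0x475434575434579)) (.node (.leaf 0x213243435434234512) (.leaf 0)))))) (.node (.node (.node (.node (.node (.leaf 0x1) (.leaf 0x1975434579)) (.node (.leaf 0x0) (.leaf 0x17543754375468656345))) (.node (.node (.leaf 0x1) (.leaf 0x1)) (.node (.leaf 0x543438657434577) (.leaf 0x43454346543475643457)))) (.node (.node (.node (.leaf 0x3) (.leaf 0x3565434654348756643456)) (.node (.leaf 0x3) (.leaf 0x37543475434657434577))) (.node (.node (.leaf 0x1) (.leaf 0x4543456834)) (.node (.leaf 0x54345434) (.leaf 0))))) (.node (.node (.node (.node (.leaf 0x1) (.leaf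 0x396543456543456)) (.node (.leaf 0x965434654345757) (.leaf 0x437543754365469563456))) (.node (.node (.leaf 0x1) (.leaf 0x21324347543274341234)) (.node (.leaf 0x213243454342341234) (.leaf 0)))) (.node (.node (.node (.leaf 0x0) (.leaf 0x78543456)) (.node (.leaf 0x875753) (.leaf 0x1343865436568456345))) (.node (.node (.leaf 0x0) (.leaf 0x121324346543297434512)) (.node (.leaf 0x213243435434234512) (.leaf 0))))))))

/-- part of the labels -/
def labels11 : Trie :=
  (.node (.node (.node (.node (.node (.node (.node (.leaf 0x9) (.leaf 0x21432434543423412)) (.node (.leaf 0x0) (.leaf 0x347543435754345785434))) (.node (.node (.leaf 0x0) (.leaf 0x1)) (.node (.leaf 0x8) (.leaf 0x7754345965434566)))) (.node (.node (.node (.leaf 0x0) (.leaf 0x375434575643456)) (.node (.leaf 0x8) (.leaf 0x4354375436654365684566))) (.node (.node (.leaf 0x0) (.leaf 0x5965434756434569)) (.node (.leaf 0x213243454342341234) (.leaf 0))))) (.node (.node (.node (.node (.leaf 0x97) (.leaf 0x37543486543475643456)) (.node (.leaf 0x0) (.leaf 0x3434654345754345))) (.node (.node (.leaf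 0x1) (.leaf 0x215432434354342312)) (.node (.leaf 0x177543495654345) (.leaf 0x21432434565463423412)))) (.node (.node (.node (.leaf 0x0) (.leaf 0x1213243454342341234)) (.node (.leaf 0x0) (.leaf 0x1213243454342341234))) (.node (.node (.leaf 0x0) (.leaf 0x3754345775434578)) (.node (.leaf 0x5654346543475774345) (.leaf 0)))))) (.node (.node (.node (.node (.node (.leaf 0x657) (.leaf 0x37543486543475643456)) (.node (.leaf 0x0) (.leaf 0x5437754375497563453))) (.node (.node (.leaf 0x0) (.leaf 0x21432434543423412)) (.node (.leaf 0x45475434563454) (.leaf 0x213265434654364572312)))) (.node (.node (.node (.leaf 0x31) (.leaf 0x3565437543754396564575)) (.node (.leaf 0x543477543456543456) (.leaf 0x91))) (.node (.node (.leaf 0x0) (.leaf 0x4543456834)) (.node (.leaf 0x147543457543457) (.leaf 0))))) (.node (.node (.node (.node (.leaf 0x5) (.leaf 0x396543456543456)) (.node (.leaf 0x0) (.leaf 0x3436654365436577456345))) (.node (.node (.leaf 0x797) (.leaf 0x1)) (.node (.leaf 0x1213243454342341234) (.leaf 0)))) (.node (.node (.node (.leaf 0x0) (.leaf 0x1)) (.node (.leaf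 0x0) (.leaf 0x165436654365465634577))) (.node (.node (.leaf 0x0) (.leaf 0x14875434575434579)) (.node (.leaf 0x7543466543465694345) (.leaf 0))))))) (.node (.node (.node (.node (.node (.node (.leaf 0x6575) (.leaf 0x16865434568)) (.node (.leaf 0x0) (.leaf 0x343475434965643454))) (.node (.node (.leaf 0x0) (.leaf 0x121432434543423412)) (.node (.leaf 0x3434865434656943456) (.leaf 0x87543654365486563457)))) (.node (.node (.node (.leaf 0x0) (.leaf 0x2132434754342341234)) (.node (.leaf 0x0) (.leaf 0x438754346543465743457))) (.node (.node (.leaf 0x0) (.leaf 0x2132654343754378452312)) (.node (.leaf 0x215432434354342312) (.leaf 0))))) (.node (.node (.node (.node (.leaf 0x0) (.leaf 0x654345665434579)) (.node (.leaf 0x8) (.leaf 0x6543754365496573456))) (.node (.node (.leaf 0x0) (.leaf 0x5434654347757743456)) (.node (.leaf 0x654345754345) (.leaf 0x5437754375497563453)))) (.node (.node (.node (.leaf 0x1) (.leaf 0x121432434543423412)) (.node (.leaf 0x0) (.leaf 0x396543456543456))) (.node (.node (.leaf 0x0) (.leaf 0x4354345975434566)) (.node (.leaf 0x565434365434775643457)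 (.leaf 0)))))) (.node (.node (.node (.node (.node (.leaf 0x666) (.leaf 0x213243468654342341234)) (.node (.leaf 0x9) (.leaf 0x3436543754377566456345))) (.node (.node (.leaf 0x0) (.leaf 0x43465434577)) (.node (.leaf 0x3565434654365434564) (.leaf 0x175436543654386564578)))) (.node (.node (.node (.leaf 0x1) (.leaf 0x3575434754347574345695)) (.node (.leaf 0x31) (.leaf 0x0))) (.node (.node (.leaf 0x0) (.leaf 0x754654345734578)) (.node (.leaf 0x654346578434565) (.leaf 0))))) (.node (.node (.node (.node (.leaf 0x346543465664345) (.leaf 0x654345665434579)) (.node (.leaf 0x65475434563457) (.leaf 0x4365475434365794534))) (.node (.node (.leaf 0x0) (.leaf 0x365434565434569)) (.node (.leaf 0x54665434573456) (.leaf 0)))) (.node (.node (.node (.leaf 0x1) (.leaf 0x3565434695743457)) (.node (.leaf 0x1) (.leaf 0x3434686543465643454))) (.node (.node (.leaf 0x0) (.leaf 0x1213243457543297434512)) (.node (.leaf 0x375434575473456434) (.leaf 0))))))))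

/-- part of the labels -/
def labels7 : Trie :=
  (.node (.node (.node (.node (.node (.node (.node (.leaf 0x31) (.leaf 0x7754346543475643456)) (.node (.leaf 0x1) (.leaf 0x1213243457543297434512))) (.node (.node (.leaf 0x0) (.leaf 0x8754343575434579)) (.node (.leaf 0x31) (.leaf 0x1)))) (.node (.node (.node (.leaf 0x1) (.leaf 0x77543457543457854345)) (.node (.leaf 0x0) (.leaf 0x157543475664345))) (.node (.node (.leaf 0x0) (.leaf 0x3665434578)) (.node (.leaf 0x5654346543475774345) (.leaf 0))))) (.node (.node (.node (.node (.leaf 0x79731) (.leaf 0x3565434775434657743456)) (.node (.leaf 0x1) (.leaf 0x4754345634))) (.node (.node (.leaf 0x1) (.leaf 0x121432434543423412)) (.node (.leaf 0x654345754345) (.leaf 0x543465434686564345)))) (.node (.node (.node (.leaf 0x1) (.leaf 0x213243454342341234)) (.node (.leaf 0x1) (.leaf 0x83453))) (.node (.node (.leaf 0x1) (.leaf 0x3875434575434579)) (.node (.leaf 0x2132434543284341234) (.leaf 0)))))) (.node (.node (.node (.node (.node (.leaf 0x0) (.leaf 0x45434563456)) (.node (.leaf 0x0) (.leaf 0x75434754347579434564)))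 (.node (.node (.leaf 0x0) (.leaf 0x121432434543423412)) (.node (.leaf 0x4343754349656943456) (.leaf 0x3434575436577456345)))) (.node (.node (.node (.leaf 0x0) (.leaf 0x75434375434757743456)) (.node (.leaf 0x0) (.leaf 0x497543475473457434))) (.node (.node (.leaf 0x0) (.leaf 0x39754345665434578)) (.node (.leaf 0x213243454342341234) (.leaf 0))))) (.node (.node (.node (.node (.leaf 0x1) (.leaf 0x754346566434566)) (.node (.leaf 0x0) (.leaf 0x54375436564573453))) (.node (.node (.leaf 0x1) (.leaf 0x21324347543274341234)) (.node (.leaf 0x1213243454342341234) (.leaf 0)))) (.node (.node (.node (.leaf 0x0) (.leaf 0x1213243454342341234)) (.node (.leaf 0x0) (.leaf 0x16543754365496573456))) (.node (.node (.leaf 0x0) (.leaf 0x4565434695743457)) (.node (.leaf 0x3486543435475643456) (.leaf 0))))))) (.node (.node (.node (.node (.node (.node (.leaf 0x1) (.leaf 0x21432434543423412)) (.node (.leaf 0x1) (.leaf 0x543465434756457343))) (.node (.node (.leaf 0x451) (.leaf 0x21432434543423412)) (.node (.leaf 0x3434865434656943456) (.leaf 0x3565437543685745734)))) (.node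 (.node (.node (.leaf 0x0) (.leaf 0x213243454342341234)) (.node (.leaf 0x0) (.leaf 0x4345437543665745683))) (.node (.node (.leaf 0x0) (.leaf 0x375434575434579)) (.node (.leaf 0x54665434573456) (.leaf 0))))) (.node (.node (.node (.node (.leaf 0x0) (.leaf 0x1)) (.node (.leaf 0x8) (.leaf 0x196543754366574563456))) (.node (.node (.leaf 0x0) (.leaf 0x47543456634)) (.node (.leaf 0x3754345654345) (.leaf 0x54377543465465783453)))) (.node (.node (.node (.leaf 0x1) (.leaf 0x1213243454342341234)) (.node (.leaf 0x0) (.leaf 0x0))) (.node (.node (.leaf 0x0) (.leaf 0x4354754345693456)) (.node (.leaf 0x5434665684345) (.leaf 0)))))) (.node (.node (.node (.node (.node (.leaf 0x3) (.leaf 0x3565434775434657743456)) (.node (.leaf 0x0) (.leaf 0x1))) (.node (.node (.leaf 0x1) (.leaf 0x75434566)) (.node (.leaf 0x2154321434543423412) (.leaf 0x5436543754387564577)))) (.node (.node (.node (.leaf 0x1) (.leaf 0x1)) (.node (.leaf 0x3) (.leaf 0x196543754365496573456))) (.node (.node (.leaf 0x3453) (.leaf 0x1)) (.node (.leaf 0x154374575434) (.leaf 0))))) (.node (.node (.node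 (.node (.leaf 0x1) (.leaf 0x654345665434579)) (.node (.leaf 0x965434654345757) (.leaf 0x4365475434365794534))) (.node (.node (.leaf 0x0) (.leaf 0x543465434575754345)) (.node (.leaf 0x4321432454345342312) (.leaf 0)))) (.node (.node (.node (.leaf 0x91) (.leaf 0x3565434695743457)) (.node (.leaf 0x79731) (.leaf 0x1213243454342341234))) (.node (.node (.leaf 0x0) (.leaf 0x1396543754365475734577)) (.node (.leaf 0x54345434) (.leaf 0))))))))

/-- part of the labels -/
def labels15 : Trie :=
  (.node (.node (.node (.node (.node (.node (.node (.leaf 0x8) (.leaf 0x45434569634)) (.node (.leaf 0x631) (.leaf 0x3454346543465794345))) (.node (.node (.leaf 0x0) (.leaf 0x121432434543423412)) (.node (.leaf 0x831) (.leaf 0x1)))) (.node (.node (.node (.leaf 0x0) (.leaf 0x3965434566543456)) (.node (.leaf 0x65751) (.leaf 0x4354346543965465634575))) (.node (.node (.leaf 0x0) (.leaf 0x2132543439754374572312)) (.node (.leaf 0x213243454342341234) (.leaf 0))))) (.node (.node (.node (.node (.leaf 0x686) (.leaf 0x54345654754345634569)) (.node (.leaf 0x31) (.leaf 0x343654347579434564)))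 (.node (.node (.leaf 0x1) (.leaf 0x1213243454342341234)) (.node (.leaf 0x1543465754345) (.leaf 0x1213243454342341234)))) (.node (.node (.node (.leaf 0x8) (.leaf 0x1213243454342341234)) (.node (.leaf 0x797) (.leaf 0x0))) (.node (.node (.leaf 0x0) (.leaf 0x1)) (.node (.leaf 0x213243454342341234) (.leaf 0)))))) (.node (.node (.node (.node (.node (.leaf 0x1) (.leaf 0x1214324345493423412)) (.node (.leaf 0x0) (.leaf 0x143543754377564573457))) (.node (.node (.leaf 0x0) (.leaf 0x121432434543423412)) (.node (.leaf 0x754345754374565434) (.leaf 0x14377543754365794573)))) (.node (.node (.node (.leaf 0x1) (.leaf 0x5754347578434565)) (.node (.leaf 0x1) (.leaf 0x1213243454342341234))) (.node (.node (.leaf 0x81) (.leaf 0x2132154348754374572312)) (.node (.leaf 0x213243454342341234) (.leaf 0))))) (.node (.node (.node (.node (.leaf 0x0) (.leaf 0x654345665434579)) (.node (.leaf 0x3434565434565434577) (.leaf 0x4345654346543457575))) (.node (.node (.leaf 0x1) (.leaf 0x1)) (.node (.leaf 0x213243454342341234) (.leaf 0)))) (.node (.node (.node (.leaf 0x454343578543456)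 (.leaf 0x3565434695743457)) (.node (.leaf 0x0) (.leaf 0x1213243454342341234))) (.node (.node (.leaf 0x0) (.leaf 0x47754343578543456)) (.node (.leaf 0x121432434543423412) (.leaf 0))))))) (.node (.node (.node (.node (.node (.node (.leaf 0x7565) (.leaf 0x466543654375487563457)) (.node (.leaf 0x0) (.leaf 0x54346543475475734543))) (.node (.node (.leaf 0x0) (.leaf 0x1)) (.node (.leaf 0x43543754365643454) (.leaf 0x1)))) (.node (.node (.node (.leaf 0x0) (.leaf 0x213243454342341234)) (.node (.leaf 0x0) (.leaf 0x497543475473457434))) (.node (.node (.leaf 0x0) (.leaf 0x2132654343754378452312)) (.node (.leaf 0x1213243454342341234) (.leaf 0))))) (.node (.node (.node (.node (.leaf 0x9) (.leaf 0x565434756434569)) (.node (.leaf 0x0) (.leaf 0x16543754365496573453))) (.node (.node (.leaf 0x0) (.leaf 0x54345754345696)) (.node (.leaf 0x154345775434569) (.leaf 0x1)))) (.node (.node (.node (.leaf 0x1) (.leaf 0x1)) (.node (.leaf 0x0) (.leaf 0x665434657434565))) (.node (.node (.leaf 0x53431) (.leaf 0x43454346543475643457)) (.node (.leaf 0x35434577543456543456) (.leaf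 0)))))) (.node (.node (.node (.node (.node (.leaf 0x6931) (.leaf 0x5437754375438756457734)) (.node (.leaf 0x9) (.leaf 0x454379457543))) (.node (.node (.leaf 0x0) (.leaf 0x1543459654345654345)) (.node (.leaf 0x665434657434577) (.leaf 0x165436654365465634577)))) (.node (.node (.node (.leaf 0x31) (.leaf 0x5754349656434565)) (.node (.leaf 0x0) (.leaf 0x5343))) (.node (.node (.leaf 0x1) (.leaf 0x121324347543274345123)) (.node (.leaf 0x21432434543423412) (.leaf 0))))) (.node (.node (.node (.node (.leaf 0x1) (.leaf 0x54345654754345634569)) (.node (.leaf 0x65475434563457) (.leaf 0x14346577434566))) (.node (.node (.leaf 0x0) (.leaf 0x357543465743456)) (.node (.leaf 0x1213243454342341234) (.leaf 0)))) (.node (.node (.node (.leaf 0x81) (.leaf 0x179543456)) (.node (.leaf 0x1) (.leaf 0x121432434543423412))) (.node (.node (.leaf 0x0) (.leaf 0x3543466543465473456543)) (.node (.leaf 0x213243435434234512) (.leaf 0))))))))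

/-- the labels -/
def labels : Trie :=
  (.node (.node (.node (.node labels0 labels8) (.node labels4 labels12)) (.node (.node labels2 labels10) (.node labels6 labels14))) (.node (.node (.node labels1 labels9) (.node labels5 labels13)) (.node (.node labels3 labels11) (.node labels7 labels15))))

end

end Cfsg.Agent.Th.CTable
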