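import Cfsg.Agent.Lib.Th.Base

/-! Packed words in the nine letters, and the elements they give. -/

set_option autoImplicit false
set_option maxRecDepth 100000

namespace Cfsg.Agent.Th

open Cfsg.Agent.HN

noncomputable section

/-- The letters of a packed word: four bits to a letter, a letter `l` stored as `l + 1`. -/
def unp (v : ℕ) : List ℕ :=
  Nat.rec (fun _ => [])
    (fun _ r v => Bool.rec (Nat.sub (Nat.land v 15) 1 :: r (Nat.shiftRight v 4)) [] (Nat.beq v 0)) 64 v

/-- The element of a word. -/
def el (w : List ℕ) : H0 := wv g9 w

theorem el_append (u v : List ℕ) : el (u ++ v) = el u * el v := wv_append _ u v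

theorem el_nil : el [] = 1 := rfl

theorem el_winv (w : List ℕ) : el (winv iv9 w) = (el w)⁻¹ := wv_winv g9 g9_inv w

/-- Two words give the same element. -/
def eqH (u v : List ℕ) : Bool := pts.eqOn base u v

theorem el_eq {u v : List ℕ} (h : eqH u v = true) : el u = el v := eq_of_eqOn h

end

end Cfsg.Agent.Th
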