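import Cfsg.Agent.Lib.HN.TC
import Cfsg.Agent.Lib.Th.Elem

/-!
Coset tables with labels: each fact says `ρ a * w = ψ L * ρ b` for a listed element `L` of the group of
`a, b, c, d, e, s, t`.
-/

set_option autoImplicit false
set_option maxRecDepth 100000

namespace Cfsg.Agent.Th.TCL

open Cfsg.Agent.HN

noncomputable section

variable (C : TC.Cert) (lab : Trie)

/-- The label of a step along a fact or against it. -/
def refLab (r : ℕ) : List ℕ :=
  bif Nat.beq (Nat.land r 1) 0 then unp (lab.get (Nat.shiftRight r 1))
  else winv iv9 (unp (lab.get (Nat.shiftRight r 1)))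

/-- Follow a path of references, collecting the word and the label. -/
def walk (n : ℕ) : List ℕ → ℕ → List ℕ → List ℕ → Option (ℕ × List ℕ × List ℕ) :=
  List.rec (fun cur W L => some (cur, W, L))
    (fun r _ rest cur W L =>
      let d := TC.refData C r
      Bool.rec none (rest d.2.1 (W ++ d.2.2) (L ++ refLab lab r))
        (Nat.blt (Nat.shiftRight r 1) n && Nat.beq d.1 cur))

/-- Rename a letter among `a, c, d, e, s, s⁻¹, t, t⁻¹` to the nine letters. -/
def toH (l : ℕ) : ℕ := ([0, 2, 3, 4, 5, 6, 7, 8] : List ℕ).getD l 9

/-- The label contributed by the word closed in a scan. -/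
def scanLab (v : ℕ) : List ℕ :=
  bif Nat.ble 2 (fld v 7) then (C.subs.getD (fld v 5) []).map toH else []

/-- Check fact `n` with its label. -/
def okFact (n : ℕ) : Bool :=
  let v := C.facts.get n
  let a := fld v 2
  let b := fld v 3
  let L := unp (lab.get n)
  bif Nat.beq (fld v 0) 0 then
    Nat.blt a b && !(Nat.beq (fld v 1) 0) && Nat.beq (fld (C.nodes.get b) 0) a &&
      Nat.beq (fld (C.nodes.get b) 1) (Nat.sub (fld v 1) 1) && eqH L []
  else bif Nat.beq (fld v 0) 1 then
    match walk C lab n (flds v (fld v 8) 10) a [] [] with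
    | some (e, W, L') => Nat.beq e b && sameW C.iv W (TC.labW (fld v 1)) && eqH L L'
    | none => false
  else
    match walk C lab n (flds v (fld v 8) 10) (fld v 4) [] [],
        walk C lab n (flds v (fld v 9) (Nat.add 10 (fld v 8))) (fld v 4) [] [] with
    | some (e₁, W₁, L₁), some (e₂, W₂, L₂) =>
      (Nat.blt (fld v 7) 2 || Nat.beq (fld v 4) 0) && Nat.beq e₁ a && Nat.beq e₂ b &&
        sameW C.iv (W₁ ++ TC.labW (fld v 1) ++ winv C.iv W₂) (TC.scanWord C v) &&
        eqH L (winv iv9 L₁ ++ scanLab C v ++ L₂)
    | _, _ => false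

/-- Check `len` facts from `base` on. -/
def okRange (base len : ℕ) : Bool := allLo (fun i => okFact C lab (Nat.add base i)) len

section sound

variable {G : Type*} [Group G] (g : ℕ → G) (ψ : H0 →* G)

/-- What the certificate needs of the group. -/
structure Rules : Prop where
  inv : ∀ l, g (C.iv l) = (g l)⁻¹
  rel : ∀ r ∈ C.rels, wv g r = 1
  sub : ∀ s ∈ C.subs, wv g s = ψ (el (s.map toH))

/-- A step `a —W→ b` with label `L` is good. -/
def Good (a : ℕ) (W : List ℕ) (b : ℕ) (L : List ℕ) : Prop :=
  TC.rho C g a * wv g W = ψ (el L) * TC.rho C g b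

/-- Fact `n` is good. -/
def GoodFact (n : ℕ) : Prop :=
  Good C g ψ (fld (C.facts.get n) 2) (TC.labW (fld (C.facts.get n) 1)) (fld (C.facts.get n) 3)
    (unp (lab.get n))

variable {C lab g ψ}

theorem Good.trans {a b c : ℕ} {U V L M : List ℕ} (h₁ : Good C g ψ a U b L) (h₂ : Good C g ψ b V c M) :
    Good C g ψ a (U ++ V) c (L ++ M) := by
  unfold Good at *
  rw [wv_append, el_append, map_mul, ← mul_assoc, h₁, mul_assoc, h₂, mul_assoc]

theorem good_nil (a : ℕ) : Good C g ψ a [] a [] := by simp [Good, wv_nil, el_nil]

variable (R : Rules C g ψ)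

include R

theorem Good.symm {a b : ℕ} {U L : List ℕ} (h : Good C g ψ a U b L) :
    Good C g ψ b (winv C.iv U) a (winv iv9 L) := by
  unfold Good at *
  rw [wv_winv g R.inv, el_winv, map_inv]
  calc TC.rho C g b * (wv g U)⁻¹ = (ψ (el L))⁻¹ * (ψ (el L) * TC.rho C g b) * (wv g U)⁻¹ := by group
    _ = _ := by rw [← h]; group

theorem refData_good {r : ℕ} (h : GoodFact C lab g ψ (Nat.shiftRight r 1)) :
    Good C g ψ (TC.refData C r).1 (TC.refData C r).2.2 (TC.refData C r).2.1 (refLab lab r) := by
  unfold TC.refData refLab
  cases Nat.beq (Nat.land r 1) 0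
  · exact Good.symm R h
  · exact h

theorem walk_good {n : ℕ} (hn : ∀ m < n, GoodFact C lab g ψ m) :
    ∀ (refs : List ℕ) (cur : ℕ) (W L : List ℕ) (a e : ℕ) (W' L' : List ℕ), Good C g ψ a W cur L →
      walk C lab n refs cur W L = some (e, W', L') → Good C g ψ a W' e L' := by
  intro refs
  induction refs with
  | nil => intro cur W L a e W' L' h he; simp [walk] at he; obtain ⟨rfl, rfl, rfl⟩ := he; exact h
  | cons r refs ih =>
    intro cur W L a e W' L' h he
    change Bool.rec none
      (walk C lab n refs (TC.refData C r).2.1 (W ++ (TC.refData C r).2.2) (L ++ refLab lab r))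
      (Nat.blt (Nat.shiftRight r 1) n && Nat.beq (TC.refData C r).1 cur) = some (e, W', L') at he
    cases hc : Nat.blt (Nat.shiftRight r 1) n && Nat.beq (TC.refData C r).1 cur with
    | false => rw [hc] at he; exact absurd he (by simp)
    | true =>
      rw [hc] at he
      simp only [Bool.and_eq_true, Nat.blt_eq] at hc
      refine ih _ _ _ a e W' L' (h.trans ?_) he
      have := refData_good R (hn _ hc.1)
      rwa [Nat.eq_of_beq_eq_true hc.2] at this

theorem walk_good' {n : ℕ} (hn : ∀ m < n, GoodFact C lab g ψ m) {refs : List ℕ} {a e : ℕ} {W L : List ℕ}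
    (he : walk C lab n refs a [] [] = some (e, W, L)) : Good C g ψ a W e L :=
  walk_good R hn refs a [] [] a e W L (good_nil a) he

theorem okFact_good {n : ℕ} (hn : ∀ m < n, GoodFact C lab g ψ m) (h : okFact C lab n = true) :
    GoodFact C lab g ψ n := by
  unfold okFact at h
  simp only at h
  set v := C.facts.get n with hv
  unfold GoodFact Good
  rw [← hv]
  cases h0 : Nat.beq (fld v 0) 0 with
  | true =>
    rw [h0, cond_true] at h
    simp only [Bool.and_eq_true, Nat.blt_eq, Bool.not_eq_true', Nat.beq_eq] at h
    obtain ⟨⟨⟨⟨hab, hl⟩, hp⟩, hlet⟩, he⟩ := h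
    have : TC.labW (fld v 1) = [fld v 1 - 1] := by
      have : Nat.beq (fld v 1) 0 = false := hl
      unfold TC.labW; rw [this]; rfl
    rw [this, wv_singleton, el_eq he, el_nil, map_one, one_mul]
    conv_rhs => rw [TC.rho, dif_pos (hp.symm ▸ hab)]
    rw [hp, hlet]; rfl
  | false =>
    rw [h0, cond_false] at h
    cases h1 : Nat.beq (fld v 0) 1 with
    | true =>
      rw [h1, cond_true] at h
      revert h
      cases hw : walk C lab n (flds v (fld v 8) 10) (fld v 2) [] [] with
      | none => simp
      | some p =>
        obtain ⟨e, W, L⟩ := p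
        simp only [Bool.and_eq_true, Nat.beq_eq]
        rintro ⟨⟨rfl, hs⟩, he⟩
        have := walk_good' R hn hw
        unfold Good at this
        rwa [wv_of_sameW g R.inv hs, ← el_eq he] at this
    | false =>
      rw [h1, cond_false] at h
      revert h
      cases hw₁ : walk C lab n (flds v (fld v 8) 10) (fld v 4) [] [] with
      | none => simp
      | some p₁ =>
        cases hw₂ : walk C lab n (flds v (fld v 9) (Nat.add 10 (fld v 8))) (fld v 4) [] [] with
        | none => simp
        | some p₂ =>
          obtain ⟨e₁, W₁, L₁⟩ := p₁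
          obtain ⟨e₂, W₂, L₂⟩ := p₂
          simp only [Bool.and_eq_true, Nat.beq_eq, Bool.or_eq_true, Nat.blt_eq]
          rintro ⟨⟨⟨⟨hz, rfl⟩, rfl⟩, hs⟩, he⟩
          have A := walk_good' R hn hw₁
          have B := walk_good' R hn hw₂
          have hs := wv_of_sameW g R.inv hs
          rw [wv_append, wv_append, wv_winv g R.inv] at hs
          have hl : wv g (TC.labW (fld v 1)) = (wv g W₁)⁻¹ * wv g (TC.scanWord C v) * wv g W₂ := by
            rw [← hs]; group
          rw [hl, el_eq he, el_append, el_append, el_winv, map_mul, map_mul, map_inv]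
          unfold Good at A B
          have hmid : TC.rho C g (fld v 4) * wv g (TC.scanWord C v) =
              ψ (el (scanLab C v)) * TC.rho C g (fld v 4) := by
            unfold TC.scanWord scanLab
            simp only
            cases hf : Nat.ble 2 (fld v 7) with
            | true =>
              have h0 : fld v 4 = 0 := by
                rcases hz with hz | hz
                · rw [Nat.ble_eq] at hf; omega
                · exact hz
              simp only [cond_true]
              rw [h0, TC.rho_zero, one_mul, mul_one]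
              rcases lt_or_ge (fld v 5) C.subs.length with hlt | hge
              · rw [List.getD_eq_getElem _ _ hlt]; exact R.sub _ (List.getElem_mem hlt)
              · rw [List.getD_eq_default _ _ hge, wv_nil, List.map_nil, el_nil, map_one]
            | false =>
              have hr : wv g (C.rels.getD (fld v 5) []) = 1 := by
                rcases lt_or_ge (fld v 5) C.rels.length with hlt | hge
                · rw [List.getD_eq_getElem _ _ hlt]; exact R.rel _ (List.getElem_mem hlt)
                · rw [List.getD_eq_default _ _ hge]; rfl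
              simp only [cond_false, el_nil, map_one, one_mul]
              cases Nat.beq (Nat.land (fld v 7) 1) 1 with
              | false =>
                simp only [cond_false]
                rw [wv_drop_append_take g hr, mul_one]
              | true =>
                simp only [cond_true]
                rw [wv_drop_append_take g (by rw [wv_winv g R.inv, hr, inv_one]), mul_one]
          calc TC.rho C g (fld v 2) * ((wv g W₁)⁻¹ * wv g (TC.scanWord C v) * wv g W₂)
              = (ψ (el L₁))⁻¹ * (ψ (el L₁) * TC.rho C g (fld v 2)) * (wv g W₁)⁻¹ *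
                  wv g (TC.scanWord C v) * wv g W₂ := by group
            _ = (ψ (el L₁))⁻¹ * (TC.rho C g (fld v 4) * wv g (TC.scanWord C v)) * wv g W₂ := by
                rw [← A]; group
            _ = (ψ (el L₁))⁻¹ * ψ (el (scanLab C v)) * (TC.rho C g (fld v 4) * wv g W₂) := by
                rw [hmid]; group
            _ = _ := by rw [B]; group

/-- **All facts checked in order are good.** -/
theorem all_good {N : ℕ} (h : ∀ n < N, okFact C lab n = true) : ∀ n < N, GoodFact C lab g ψ n := by
  intro n
  induction n using Nat.strongRecOn with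
  | _ n ih => intro hn; exact okFact_good R (fun m hm => ih m hm (by omega)) (h n hn)

omit R

/-- The step from final coset `j` by letter `l`: the next coset and the label. -/
def step (C : TC.Cert) (lab : Trie) (j l : ℕ) : ℕ × List ℕ :=
  (fld (C.fin.get j) (Nat.add 2 (Nat.mul 2 l)), refLab lab (fld (C.fin.get j) (Nat.add 1 (Nat.mul 2 l))))

/-- The representative of final coset `j`. -/
def tau (C : TC.Cert) (g : ℕ → G) (j : ℕ) : G := TC.rho C g (fld (C.fin.get j) 0)

theorem tau_zero {N : ℕ} (hf : TC.okFin C N = true) : tau C g 0 = 1 := by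
  simp only [TC.okFin, Bool.and_eq_true] at hf
  rw [tau, Nat.eq_of_beq_eq_true hf.1.1.2, TC.rho_zero]

include R

/-- **The labelled table.** -/
theorem step_spec {N : ℕ} (hN : ∀ n < N, GoodFact C lab g ψ n) (hf : TC.okFin C N = true) {j l : ℕ}
    (hj : j < C.nfin) (hl : l < C.k) :
    (step C lab j l).1 < C.nfin ∧
      tau C g j * g l = ψ (el (step C lab j l).2) * tau C g (step C lab j l).1 := by
  simp only [TC.okFin, Bool.and_eq_true] at hf
  have := allLo_spec (allLo_spec hf.2 hj) hl
  simp only [Bool.and_eq_true, Nat.blt_eq, Nat.beq_eq] at this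
  obtain ⟨⟨⟨⟨hm, hq⟩, hlab⟩, ha⟩, hb⟩ := this
  refine ⟨hq, ?_⟩
  have hg := refData_good R (hN _ hm)
  rw [Good, ha, hb, eq_of_eqW hlab, wv_singleton] at hg
  exact hg

end sound

end

end Cfsg.Agent.Th.TCL
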