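import Cfsg.Agent.Lib.Th.CTableData
import Cfsg.Agent.Lib.Th.CTableLabels
import Cfsg.Agent.Lib.Th.TCL

/-! Kernel checks: cosets in the centraliser -/

set_option autoImplicit false
set_option maxRecDepth 100000
set_option Elab.async false

namespace Cfsg.Agent.Th.CTable

open Cfsg.Agent.HN

theorem ok4 : TCL.okRange cert labels 1200 300 = true := by decide +kernel

theorem ok5 : TCL.okRange cert labels 1500 300 = true := by decide +kernel

theorem ok6 : TCL.okRange cert labels 1800 95 = true := by decide +kernel

end Cfsg.Agent.Th.CTable
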