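import Cfsg.Agent.Lib.Th.CTableCheck0
import Cfsg.Agent.Lib.Th.CTableCheck1

/-! Kernel checks: cosets in the centraliser -/

set_option autoImplicit false
set_option maxRecDepth 100000
set_option Elab.async false

namespace Cfsg.Agent.Th.CTable

open Cfsg.Agent.HN

/-- every fact checks -/
theorem ok_all : ∀ n < numFacts, TCL.okFact cert labels n = true := by
  intro n hn
  unfold numFacts at hn
  by_cases h0 : n < 300
  · have := allLo_spec ok0 (i := n - 0) (by omega); rwa [show Nat.add 0 (n - 0) = n from by show 0 + (n - 0) = n; omega] at this
  by_cases h1 : n < 600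
  · have := allLo_spec ok1 (i := n - 300) (by omega); rwa [show Nat.add 300 (n - 300) = n from by show 300 + (n - 300) = n; omega] at this
  by_cases h2 : n < 900
  · have := allLo_spec ok2 (i := n - 600) (by omega); rwa [show Nat.add 600 (n - 600) = n from by show 600 + (n - 600) = n; omega] at this
  by_cases h3 : n < 1200
  · have := allLo_spec ok3 (i := n - 900) (by omega); rwa [show Nat.add 900 (n - 900) = n from by show 900 + (n - 900) = n; omega] at this
  by_cases h4 : n < 1500
  · have := allLo_spec ok4 (i := n - 1200) (by omega); rwa [show Nat.add 1200 (n - 1200) = n from by show 1200 + (n - 1200) = n; omega] at this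
  by_cases h5 : n < 1800
  · have := allLo_spec ok5 (i := n - 1500) (by omega); rwa [show Nat.add 1500 (n - 1500) = n from by show 1500 + (n - 1500) = n; omega] at this
  have := allLo_spec ok6 (i := n - 1800) (by omega); rwa [show Nat.add 1800 (n - 1800) = n from by show 1800 + (n - 1800) = n; omega] at this

theorem fin_ok : TC.okFin cert numFacts = true := by decide +kernel

end Cfsg.Agent.Th.CTable
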