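import Cfsg.Agent.Lib.Th.CTableData
import Cfsg.Agent.Lib.Th.CTableLabels
import Cfsg.Agent.Lib.Th.TCL

/-! Kernel checks: cosets in the centraliser -/

set_option autoImplicit false
set_option maxRecDepth 100000
set_option Elab.async false

namespace Cfsg.Agent.Th.CTable

open Cfsg.Agent.HN

theorem ok0 : TCL.okRange cert labels 0 300 = true := by decide +kernel

theorem ok1 : TCL.okRange cert labels 300 300 = true := by decide +kernel

theorem ok2 : TCL.okRange cert labels 600 300 = true := by decide +kernel

theorem ok3 : TCL.okRange cert labels 900 300 = true := by decide +kernel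

end Cfsg.Agent.Th.CTable
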