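import Cfsg.Agent.Lib.Th.Simple
import Cfsg.Agent.Lib.ThRep.Lower
import Cfsg.Prelude.Def_Sporadic

/-!
The presented Thompson group: its order, the index of the group of `a, b, c, d, e, s, t`, the faithful
representation, and simplicity.
-/

set_option autoImplicit false
set_option maxRecDepth 100000

namespace Cfsg.Agent.Th

noncomputable section

/-- **The order of the presented Thompson group.** -/
theorem card_th : Nat.card Cfsg.Spor.Th = 90745943887872000 :=
  (exact_of_range ThRep.hom ThRep.card_range_dvd).1

/-- **The representation is faithful.** -/
theorem hom_injective : Function.Injective ThRep.hom :=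
  (exact_of_range ThRep.hom ThRep.card_range_dvd).2.1

/-- **The group of `a, b, c, d, e, s, t` embeds.** -/
theorem psi_injective : Function.Injective psi :=
  (exact_of_range ThRep.hom ThRep.card_range_dvd).2.2.1

/-- **The index.** -/
theorem index_psi : psi.range.index = 143127000 :=
  (exact_of_range ThRep.hom ThRep.card_range_dvd).2.2.2

/-- **The presented group is a Thompson group.** -/
theorem isTh : Cfsg.IsTh Cfsg.Spor.Th := ⟨isSimple index_psi psi_injective, card_th⟩

end

end Cfsg.Agent.Th
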