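import Cfsg.Agent.Lib.Th.CentNine
import Cfsg.Agent.Lib.Th.Final
import Cfsg.Agent.Lib.ThOut.CardC
import Cfsg.Prelude.Def_Sporadic

/-!
The Thompson group has an involution with centraliser an extension of an extraspecial group of order 512 by
the alternating group of degree nine.
-/

set_option autoImplicit false
set_option maxRecDepth 100000

namespace Cfsg.Agent.Th

open Cfsg.Agent.HN Cfsg.Agent.ThOut

noncomputable section

/-- What the centraliser hypothesis gives. -/
theorem exists_centraliser (hcomm : ∀ g : Cfsg.Spor.Th, g11 0 * g = g * g11 0 → g ∈ centC) :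
    ∃ (G : Type) (_ : Group G) (_ : Finite G), Cfsg.IsTh G ∧ ∃ z : G, orderOf z = 2 ∧
      ∃ (Q : Subgroup (Subgroup.centralizer ({z} : Set G))) (_ : Q.Normal), Nat.card Q = 2 ^ 9 ∧
        Cfsg.IsExtraspecial 2 Q ∧
        Nonempty ((Subgroup.centralizer ({z} : Set G)) ⧸ Q ≃* alternatingGroup (Fin 9)) := by
  have hfin : Finite Cfsg.Spor.Th := finite_th
  have he : CA = centC := by
    ext g
    rw [Subgroup.mem_centralizer_singleton_iff]
    exact ⟨fun h => hcomm g h.symm, fun h => (centC_comm h).symm⟩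
  have hC : ∀ g, g ∈ CA ↔ ∃ w, okSide true w = true ∧ wv g11 w = g := fun g => by
    rw [he]
    exact ⟨fun ⟨w, h, e⟩ => ⟨w, h, e.symm⟩, fun ⟨w, h, e⟩ => ⟨w, h, e.symm⟩⟩
  have hcard : Nat.card CA = 92897280 := by rw [he]; exact card_centC psi_injective
  refine ⟨Cfsg.Spor.Th, inferInstance, hfin, isTh, g11 0, ?_, (toNine hC hcard).ker, inferInstance, ?_,
    ker_extraspecial hC hcard psi_injective, ⟨quotientEquiv hC hcard⟩⟩
  · haveI : _root_.Fact (Nat.Prime 2) := ⟨Nat.prime_two⟩
    refine orderOf_eq_prime (by rw [sq, sq_one 0 (by norm_num)]) fun h => ?_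
    have ha : psi (el [0]) = 1 := by rw [psi_el_single (by norm_num), h]
    rw [← map_one psi] at ha
    have := eqH_of_el (u := [0]) (v := []) (by decide) (by simp) (psi_injective ha)
    revert this
    decide +kernel
  · rw [card_ker hC hcard]; norm_num

end

end Cfsg.Agent.Th
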