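import Cfsg.Agent.Lib.ThOut.Form

/-!
Squares and commutation among the 512 elements of the normal subgroup of the centraliser of a.
-/

set_option autoImplicit false
set_option maxRecDepth 100000
set_option Elab.async false

namespace Cfsg.Agent.Th

open Cfsg.Agent.HN Cfsg.Agent.ThOut

noncomputable section

theorem eqH_of_el {u v : List ℕ} (hu : ∀ l ∈ u, l < 9) (hv : ∀ l ∈ v, l < 9) (e : el u = el v) :
    eqH u v = true := by
  simp only [eqH, PModel.eqOn, Bool.and_eq_true, List.all_eq_true, Nat.blt_eq, Nat.beq_eq, letOK]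
  refine ⟨⟨hu, hv⟩, fun q hq => ?_⟩
  have hq' : q < pts.n := by
    have hb : (base.all fun q => Nat.blt q pts.n) = true := by decide +kernel
    simpa [Nat.blt_eq] using List.all_eq_true.1 hb q hq
  refine ⟨hq', ?_⟩
  have h := congrArg rep e
  rw [el, el, rep_wv, rep_wv] at h
  rw [← wv_sig_inv_apply pts_ok u hu ⟨q, hq'⟩, h, wv_sig_inv_apply pts_ok v hv ⟨q, hq'⟩]

/-- Element `q` squares to 1 or `a`, and is 1, `a` or moves a generator. -/
def qOK (q : ℕ) : Bool :=
  (eqH (qW q ++ qW q) [] || eqH (qW q ++ qW q) [0]) &&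
    (eqH (qW q) [] || eqH (qW q) [0] || (Form.qgens.any fun g => !(eqH (qW q ++ g) (g ++ qW q))))

theorem qOK0 : allLo qOK 256 = true := by decide +kernel

theorem qOK1 : allLo (fun q => qOK (Nat.add 256 q)) 256 = true := by decide +kernel

theorem q_ok {q : ℕ} (hq : q < 512) : qOK q = true := by
  by_cases h : q < 256
  · exact allLo_spec qOK0 h
  have := allLo_spec qOK1 (i := q - 256) (by omega)
  rwa [show Nat.add 256 (q - 256) = q from by show 256 + (q - 256) = q; omega] at this

/-- Two of the nine generators do not commute. -/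
theorem qgens_noncomm : (Form.qgens.any fun g => Form.qgens.any fun h => !(eqH (g ++ h) (h ++ g))) = true := by
  decide +kernel

end

end Cfsg.Agent.Th
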