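import Cfsg.Agent.Lib.Th.Deduce
import Mathlib.GroupTheory.Index

/-!
Closure of the double cosets of the named representatives, and the resulting bound on the index of the group
of `a, b, c, d, e, s, t`.
-/

set_option autoImplicit false
set_option maxRecDepth 100000

namespace Cfsg.Agent.Th

open Cfsg.Agent.HN

noncomputable section

/-- A word in the letters common to the two sides. -/
def okK (w : List ℕ) : Bool := w.all fun l => Nat.blt l 9 && !(Nat.beq l 1)

theorem okK_side {w : List ℕ} (h : okK w = true) : okSide false w = true ∧ okSide true w = true := by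
  simp only [okK, List.all_eq_true, Bool.and_eq_true, Nat.blt_eq] at h
  constructor
  · simp only [okSide, cond_false, letOK, List.all_eq_true, Nat.blt_eq]
    exact fun l hl => (h l hl).1
  · simp only [okSide, cond_true, List.all_eq_true, Bool.and_eq_true, Nat.blt_eq]
    exact fun l hl => ⟨lt_trans (h l hl).1 (by norm_num), (h l hl).2⟩

theorem okSide_append {sd : Bool} {u v : List ℕ} (hu : okSide sd u = true) (hv : okSide sd v = true) :
    okSide sd (u ++ v) = true := by
  cases sd <;> simp_all [okSide, letOK]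

theorem okK_append {u v : List ℕ} (hu : okK u = true) (hv : okK v = true) : okK (u ++ v) = true := by
  simp_all [okK]

/-- Coset representatives of one side over the common subgroup, with the steps under the letters. -/
structure Reps where
  size : ℕ
  om : Trie
  step : Trie

/-- Representative `q`. -/
def Reps.word (R : Reps) (q : ℕ) : List ℕ := unp (R.om.get q)

/-- The target of letter `l` at representative `q` and the word on the right. -/
def Reps.tgt (R : Reps) (l q : ℕ) : ℕ × List ℕ :=
  let v := R.step.get (Nat.add (Nat.mul 11 q) l)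
  (fld v 0, unp (Nat.shiftRight v 20))

/-- The checks on the representatives of a side. -/
def Reps.ok (R : Reps) (sd : Bool) : Bool :=
  Nat.blt 0 R.size && eqW (R.word 0) [] && allLo (fun q => okSide sd (R.word q) && allLo (fun l =>
    !(okSide sd [l]) || (Nat.blt (R.tgt l q).1 R.size && okK (R.tgt l q).2 &&
      eqS sd (l :: R.word q) (R.word (R.tgt l q).1 ++ (R.tgt l q).2))) 11) R.size

theorem Reps.factor {R : Reps} {sd : Bool} (h : R.ok sd = true) :
    ∀ w : List ℕ, okSide sd w = true →
      ∃ q < R.size, ∃ κ, okK κ = true ∧ wv g11 w = wv g11 (R.word q) * wv g11 κ := by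
  simp only [Reps.ok, Bool.and_eq_true, Nat.blt_eq] at h
  obtain ⟨⟨h0, h1⟩, h2⟩ := h
  intro w
  induction w with
  | nil => exact fun _ => ⟨0, h0, [], rfl, by rw [eq_of_eqW h1]; simp [wv_nil]⟩
  | cons l w ih =>
    intro hw
    have hl : okSide sd [l] = true ∧ okSide sd w = true := by
      cases sd <;> simp_all [okSide, letOK]
    have hl11 : l < 11 := by
      cases sd <;> simp [okSide, letOK] at hl <;> omega
    obtain ⟨q, hq, κ, hκ, e⟩ := ih hl.2
    have := allLo_spec h2 hq
    simp only [Bool.and_eq_true] at this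
    have := allLo_spec this.2 hl11
    simp only [hl.1, Bool.not_true, Bool.false_or, Bool.and_eq_true, Nat.blt_eq] at this
    obtain ⟨⟨h3, h4⟩, h5⟩ := this
    refine ⟨_, h3, _, okK_append h4 hκ, ?_⟩
    have h6 := eqS_eq h5
    rw [wv_cons, wv_append] at h6
    rw [wv_cons, e, wv_append, ← mul_assoc, h6, mul_assoc]

/-- The value `x k * w` lies in the group, times a representative of the other side, times that side. -/
def Cross (D : DData) (k : ℕ) (w : List ℕ) : Prop :=
  ∃ (a : H0) (m : ℕ) (v : List ℕ), (m < D.sides.length ∧ D.side m = !(D.side k)) ∧ okSide (!(D.side k)) v = true ∧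
    D.node k * wv g11 w = psi a * D.node m * wv g11 v

theorem Cross.mul {D : DData} {k : ℕ} {w κ : List ℕ} (h : Cross D k w) (hκ : okK κ = true) :
    Cross D k (w ++ κ) := by
  obtain ⟨a, m, v, h1, h2, h3⟩ := h
  refine ⟨a, m, v ++ κ, h1, okSide_append h2 ?_, ?_⟩
  · cases D.side k
    · exact (okK_side hκ).2
    · exact (okK_side hκ).1
  · rw [wv_append, wv_append, ← mul_assoc, h3, mul_assoc]

/--
Check entry `q` of the cover of node `k`: either a fact leaves the node there, or a stabiliser fact leads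
to an entry of smaller depth.
-/
def covEnt (D : DData) (N : ℕ) (R : Reps) (T : Trie) (k q : ℕ) : Bool :=
  let v := T.get q
  let κ := unp (Nat.shiftRight v 80)
  bif Nat.beq (fld v 0) 1 then
    match D.mv N ⟨[], k, R.word q, []⟩ (.t (fld v 1) (Nat.beq (fld v 2) 1) [] (Nat.shiftRight v 80)) with
    | some s => Nat.blt s.k D.sides.length && cond (D.side k) (!(D.side s.k)) (D.side s.k) &&
        okSide (!(D.side k)) s.u
    | none => false
  else
    Nat.blt (fld v 1) R.size && Nat.blt (fld (T.get (fld v 1)) 3) (fld v 3) &&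
      Nat.blt (Nat.shiftRight (fld v 2) 1) N &&
      Nat.beq (D.fact (Nat.shiftRight (fld v 2) 1)).p k &&
      Nat.beq (D.fact (Nat.shiftRight (fld v 2) 1)).q k && okK κ &&
      eqS (D.side k) (R.word q) (D.sW (fld v 2) ++ R.word (fld v 1) ++ κ)

theorem covEnt_spec {D : DData} {N : ℕ} (hD : ∀ n < N, D.Holds n) {R : Reps} {T : Trie} {k : ℕ}
    (h : ∀ q < R.size, covEnt D N R T k q = true) : ∀ q < R.size, Cross D k (R.word q) := by
  suffices ∀ d, ∀ q < R.size, fld (T.get q) 3 = d → Cross D k (R.word q) from fun q hq => this _ q hq rfl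
  intro d
  induction d using Nat.strongRecOn with
  | _ d ih =>
    intro q hq hd
    have hh := h q hq
    unfold covEnt at hh
    simp only at hh
    cases h0 : Nat.beq (fld (T.get q) 0) 1 with
    | true =>
      rw [h0, cond_true] at hh
      split at hh
      · rename_i s hs
        simp only [Bool.and_eq_true, Nat.blt_eq] at hh
        have := mv_spec hD (X := D.node k * wv g11 (R.word q)) (st := ⟨[], k, R.word q, []⟩)
          (by simp [DData.Inv, wv_nil, el_nil]) hs
        refine ⟨el s.A, s.k, s.u, ⟨hh.1.1, ?_⟩, hh.2, ?_⟩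
        · have := hh.1.2
          revert this
          cases D.side k <;> cases D.side s.k <;> simp
        · unfold DData.Inv at this
          have hW : s.W = [] := by
            simp only [DData.mv, Bool.cond_eq_ite] at hs
            split_ifs at hs <;> (injection hs with hs; rw [← hs])
          rwa [hW, wv_nil, mul_one] at this
      · exact absurd hh Bool.false_ne_true
    | false =>
      rw [h0, cond_false] at hh
      simp only [Bool.and_eq_true, Nat.blt_eq, Nat.beq_eq] at hh
      obtain ⟨⟨⟨⟨⟨⟨h1, h2⟩, h3⟩, h4⟩, h5⟩, h6⟩, h7⟩ := hh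
      obtain ⟨a, m, v, e1, e2, e3⟩ := (ih _ (hd ▸ h2) _ h1 rfl).mul h6
      refine ⟨el (D.aW (fld (T.get q) 2)) * a, m, v, e1, e2, ?_⟩
      rw [eqS_eq h7, List.append_assoc, wv_append, ← mul_assoc, ref_spec (hD _ h3) h4 h5, mul_assoc, e3,
        map_mul, mul_assoc, mul_assoc, mul_assoc]

/-- The checks on the covers of all nodes. -/
def covOK (D : DData) (N : ℕ) (RH RC : Reps) (T : ℕ → Trie) (k : ℕ) : Bool :=
  bif D.side k then allLo (fun q => covEnt D N RC (T k) k q) RC.size
  else allLo (fun q => covEnt D N RH (T k) k q) RH.size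

theorem cross_all {D : DData} {N : ℕ} (hD : ∀ n < N, D.Holds n) {RH RC : Reps} (hH : RH.ok false = true)
    (hC : RC.ok true = true) {T : ℕ → Trie} {k : ℕ} (hk : covOK D N RH RC T k = true) {w : List ℕ}
    (hw : okSide (D.side k) w = true) : Cross D k w := by
  unfold covOK at hk
  have key : ∀ (R : Reps) (sd : Bool), R.ok sd = true → sd = D.side k →
      (∀ q < R.size, covEnt D N R (T k) k q = true) → Cross D k w := by
    intro R sd hR hsd hall
    obtain ⟨q, hq, κ, hκ, e⟩ := Reps.factor hR w (hsd ▸ hw)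
    obtain ⟨a, m, v, e1, e2, e3⟩ := (covEnt_spec hD hall q hq).mul hκ
    exact ⟨a, m, v, e1, e2, by rw [← e3, e, wv_append]⟩
  cases hs : D.side k with
  | true => rw [hs, cond_true] at hk; exact key RC true hC hs.symm fun q hq => allLo_spec hk hq
  | false => rw [hs, cond_false] at hk; exact key RH false hH hs.symm fun q hq => allLo_spec hk hq

/-- The union of the double cosets of the nodes without `u`. -/
def InU (D : DData) (g : Cfsg.Spor.Th) : Prop :=
  ∃ (a b : H0) (m : ℕ), m < D.sides.length ∧ D.side m = false ∧ g = psi a * D.node m * psi b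

theorem exists_word (x : H0) : ∃ w : List ℕ, (∀ l ∈ w, l < 9) ∧ el w = x := by
  have hx : x ∈ Subgroup.closure (g9 '' {l | l < 9}) := by rw [closure_g9]; trivial
  induction hx using Subgroup.closure_induction with
  | mem y hy =>
    obtain ⟨l, hl, rfl⟩ := hy
    exact ⟨[l], by simpa using hl, wv_singleton _ _⟩
  | one => exact ⟨[], by simp, el_nil⟩
  | mul y z _ _ hy hz =>
    obtain ⟨u, hu, rfl⟩ := hy
    obtain ⟨v, hv, rfl⟩ := hz
    exact ⟨u ++ v, by simpa [or_imp, forall_and] using ⟨hu, hv⟩, el_append u v⟩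
  | inv y _ hy =>
    obtain ⟨u, hu, rfl⟩ := hy
    refine ⟨winv iv9 u, fun l hl => ?_, el_winv u⟩
    simp only [winv, List.mem_map, List.mem_reverse] at hl
    obtain ⟨m, hm, rfl⟩ := hl
    have := hu m hm
    interval_cases m <;> decide

/-- What the cover checks give. -/
structure Covered (D : DData) : Prop where
  cross : ∀ k < D.sides.length, ∀ w : List ℕ, okSide (D.side k) w = true → Cross D k w
  root : D.node 0 = 1 ∧ 0 < D.sides.length ∧ D.side 0 = false

theorem Covered.step {D : DData} (hc : Covered D) {g : Cfsg.Spor.Th} (hg : InU D g) {l : ℕ}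
    (hl : l = 9 ∨ l = 10) : InU D (g * g11 l) := by
  obtain ⟨a, b, m, hm, hs, rfl⟩ := hg
  obtain ⟨w, hw, rfl⟩ := exists_word b
  rw [psi_el hw]
  have h1 : okSide (D.side m) w = true := by
    rw [hs]; simpa [okSide, letOK, Nat.blt_eq] using hw
  obtain ⟨a', j, v, ⟨hj, hjs⟩, hv, e⟩ := hc.cross m hm w h1
  rw [hs] at hv hjs
  have h2 : okSide (D.side j) (v ++ [l]) = true := by
    rw [hjs]
    refine okSide_append hv ?_
    rcases hl with rfl | rfl <;> rfl
  obtain ⟨a'', i, v', ⟨hi, his⟩, hv', e'⟩ := hc.cross j hj _ h2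
  rw [hjs] at hv' his
  refine ⟨a * a' * a'', el v', i, hi, his, ?_⟩
  rw [psi_el (letOK_spec hv'), map_mul, map_mul]
  rw [wv_append, wv_singleton, ← mul_assoc] at e'
  calc psi a * D.node m * wv g11 w * g11 l
      = psi a * (D.node m * wv g11 w) * g11 l := by group
    _ = psi a * psi a' * (D.node j * wv g11 v * g11 l) := by rw [e]; group
    _ = _ := by rw [e']; group

theorem Covered.all {D : DData} (hc : Covered D) (g : Cfsg.Spor.Th) : InU D g := by
  have hg : g ∈ Subgroup.closure (Set.range psi ∪ {g11 9}) := by rw [top_eq]; trivial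
  obtain ⟨h0, hlen, hs⟩ := hc.root
  refine Subgroup.closure_induction_right (p := fun x _ => InU D x) ?_ ?_ ?_ hg
  · exact ⟨1, 1, 0, hlen, hs, by simp [h0]⟩
  · rintro x - y hy hx
    rcases hy with ⟨b', rfl⟩ | hy
    · obtain ⟨a, b, m, hm, hms, rfl⟩ := hx
      exact ⟨a, b * b', m, hm, hms, by rw [map_mul, mul_assoc (psi a * D.node m)]⟩
    · rw [hy]; exact hc.step hx (Or.inl rfl)
  · rintro x - y hy hx
    rcases hy with ⟨b', rfl⟩ | hy
    · obtain ⟨a, b, m, hm, hms, rfl⟩ := hx
      exact ⟨a, b * b'⁻¹, m, hm, hms, by rw [map_mul, map_inv, mul_assoc (psi a * D.node m)]⟩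
    · rw [hy, show (g11 9)⁻¹ = g11 10 from (g11_inv 9).symm]; exact hc.step hx (Or.inr rfl)

/-- The action of the group of `a, b, c, d, e, s, t` on the cosets of its image. -/
@[reducible] def cosAct : MulAction H0 (Cfsg.Spor.Th ⧸ psi.range) := MulAction.compHom _ psi

/-- The point of node `m`. -/
def pnt (D : DData) (m : ℕ) : Cfsg.Spor.Th ⧸ psi.range := QuotientGroup.mk (D.node m)⁻¹

/-- The elements fixing the point of node `m`. -/
def stabN (D : DData) (m : ℕ) : Subgroup H0 := @MulAction.stabilizer H0 _ _ cosAct (pnt D m)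

theorem stabN_mem {D : DData} {m : ℕ} {x y : H0} (h : D.node m * psi x = psi y * D.node m) :
    x ∈ stabN D m := by
  letI := cosAct
  show psi x • (QuotientGroup.mk (D.node m)⁻¹ : Cfsg.Spor.Th ⧸ psi.range) = _
  rw [MulAction.Quotient.smul_mk, smul_eq_mul]
  refine QuotientGroup.eq.2 ⟨y⁻¹, ?_⟩
  rw [map_inv, mul_inv_rev, eq_mul_inv_of_mul_eq h.symm]
  group

/-- The nodes without `u`. -/
def hNodes (D : DData) : Finset ℕ := (Finset.range D.sides.length).filter fun m => D.side m = false

theorem index_le {D : DData} (hc : Covered D) {sz : ℕ → ℕ}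
    (hsz : ∀ m ∈ hNodes D, 0 < sz m ∧ sz m ≤ Nat.card (stabN D m)) :
    psi.range.FiniteIndex ∧ psi.range.index ≤ ∑ m ∈ hNodes D, 634023936 / sz m := by
  letI := cosAct
  classical
  have hcov : ∀ x : Cfsg.Spor.Th ⧸ psi.range, ∃ m ∈ hNodes D, x ∈ MulAction.orbit H0 (pnt D m) := by
    intro x
    induction x using QuotientGroup.induction_on with
    | H g =>
      obtain ⟨a, b, m, hm, hs, e⟩ := hc.all g⁻¹
      refine ⟨m, by simp [hNodes, hm, hs], b⁻¹, ?_⟩
      show psi b⁻¹ • (QuotientGroup.mk (D.node m)⁻¹ : Cfsg.Spor.Th ⧸ psi.range) = _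
      rw [MulAction.Quotient.smul_mk, smul_eq_mul]
      refine QuotientGroup.eq.2 ⟨a⁻¹, ?_⟩
      rw [← inv_inv g, e]
      simp only [map_inv]
      group
  have hfin : Finite (Cfsg.Spor.Th ⧸ psi.range) := by
    have hu : (Set.univ : Set (Cfsg.Spor.Th ⧸ psi.range)) ⊆
        ⋃ m ∈ hNodes D, MulAction.orbit H0 (pnt D m) := fun x _ => by simpa using hcov x
    exact Set.finite_univ_iff.1 (((hNodes D).finite_toSet.biUnion fun m _ => Set.finite_range _).subset hu)
  refine ⟨⟨Nat.card_ne_zero.2 ⟨⟨QuotientGroup.mk 1⟩, hfin⟩⟩, ?_⟩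
  haveI := Fintype.ofFinite (Cfsg.Spor.Th ⧸ psi.range)
  show Nat.card (Cfsg.Spor.Th ⧸ psi.range) ≤ _
  rw [Nat.card_eq_fintype_card, ← Finset.card_univ]
  calc (Finset.univ : Finset (Cfsg.Spor.Th ⧸ psi.range)).card
      ≤ ((hNodes D).biUnion fun m => (MulAction.orbit H0 (pnt D m)).toFinset).card :=
        Finset.card_le_card fun x _ => by simpa using hcov x
    _ ≤ ∑ m ∈ hNodes D, (MulAction.orbit H0 (pnt D m)).toFinset.card := Finset.card_biUnion_le
    _ ≤ _ := Finset.sum_le_sum fun m hm => by
        obtain ⟨h0, hle⟩ := hsz m hm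
        have he : Nat.card (MulAction.orbit H0 (pnt D m)) * Nat.card (stabN D m) = 634023936 := by
          rw [← card_H0, ← Nat.card_prod]
          exact Nat.card_congr (MulAction.orbitProdStabilizerEquivGroup H0 (pnt D m))
        rw [Nat.le_div_iff_mul_le h0, Set.toFinset_card, ← Nat.card_eq_fintype_card, ← he]
        exact Nat.mul_le_mul_left _ hle

/-- The checks on generators of the stabiliser of a node, given as a model on the points with a chain. -/
def stabOK (D : DData) (N m : ℕ) (M : PModel) (refs : List ℕ) (Ls : List Level) : Bool :=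
  Nat.beq M.n 819 && M.ok && chainOK M [] Ls &&
    allLo (fun i => let r := refs.getD i 0
      Nat.blt (Nat.shiftRight r 1) N && Nat.beq (D.fact (Nat.shiftRight r 1)).p m &&
        Nat.beq (D.fact (Nat.shiftRight r 1)).q m && letOK 9 (D.sW r) &&
        allLo (fun q => Nat.beq (ap (M.perm i) q) (pts.actW (D.sW r) q)) 819) M.k

theorem stabN_card {D : DData} {N m k : ℕ} (hD : ∀ n < N, D.Holds n) {perm iv : ℕ → ℕ} {refs : List ℕ}
    {Ls : List Level} (h : stabOK D N m ⟨pts.n, k, iv, perm⟩ refs Ls = true) :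
    chainSize Ls ≤ Nat.card (stabN D m) := by
  simp only [stabOK, Bool.and_eq_true] at h
  obtain ⟨⟨⟨-, hok⟩, hch⟩, hgen⟩ := h
  refine le_trans ?_ (Nat.card_le_card_of_surjective _ (rep.subgroupMap_surjective (stabN D m)))
  refine chain_le hok Ls [] hch _ fun w hw _ => wv_mem _ fun l hl => ?_
  have hh := allLo_spec hgen (hw l hl)
  simp only [Bool.and_eq_true, Nat.blt_eq, Nat.beq_eq] at hh
  obtain ⟨⟨⟨⟨h1, h2⟩, h3⟩, h4⟩, h5⟩ := hh
  refine ⟨el (D.sW (refs.getD l 0)), stabN_mem (y := el (D.aW (refs.getD l 0))) ?_, ?_⟩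
  · rw [psi_el (letOK_spec h4)]; exact ref_spec (hD _ h1) h2 h3
  · rw [el, rep_wv]
    apply inv_injective
    refine Equiv.ext fun q => Fin.ext ?_
    rw [wv_sig_inv_apply pts_ok _ (letOK_spec h4), sig_inv_apply hok (hw l hl)]
    exact (Nat.eq_of_beq_eq_true (allLo_spec h5 q.2)).symm

end

end Cfsg.Agent.Th
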