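import Cfsg.Agent.Lib.Th.NineChain
import Cfsg.Agent.Lib.Th.QChecks
import Cfsg.Agent.Lib.Th.Upper
import Cfsg.Agent.Lib.LargeExtra.Basic
import Mathlib.GroupTheory.SpecificGroups.Alternating

/-!
The centraliser of a, given as the words without b, has a normal extraspecial subgroup of order 512 with
quotient the alternating group of degree nine.
-/

set_option autoImplicit false
set_option maxRecDepth 100000
set_option maxHeartbeats 1000000
set_option Elab.async false

namespace Cfsg.Agent.Th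

open Cfsg.Agent.HN Cfsg.Agent.ThOut
open scoped commutatorElement

noncomputable section

/-- The centraliser of the image of `a`. -/
abbrev CA : Subgroup Cfsg.Spor.Th := Subgroup.centralizer ({g11 0} : Set Cfsg.Spor.Th)

variable (hC : ∀ g, g ∈ CA ↔ ∃ w, okSide true w = true ∧ wv g11 w = g)
  (hcard : Nat.card CA = 92897280)

include hC

/-- A word for an element of the centraliser. -/
def word (x : CA) : List ℕ := ((hC x.1).1 x.2).choose

theorem word_spec (x : CA) : okSide true (word hC x) = true ∧ wv g11 (word hC x) = x.1 :=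
  ((hC x.1).1 x.2).choose_spec

theorem side_append {q r j : ℕ} (hq : q < 512) (hr : r < 1512) (hj : j < 120) :
    okSide true (qW q ++ rW r ++ tauW j) = true := by
  have h1 := allLo_spec words_ok.1 hq
  simp only [Bool.and_eq_true] at h1
  exact okSide_append (okSide_append (kWord_ok h1.1).1 (kWord_ok (allLo_spec words_ok.2.1 hr)).1) (wv_tauW hj).2

/-- The element with given normal form. -/
def nf (t : Fin 512 × Fin 1512 × Fin 120) : CA :=
  ⟨wv g11 (qW t.1 ++ rW t.2.1 ++ tauW t.2.2),
    (hC _).2 ⟨_, side_append hC t.1.2 t.2.1.2 t.2.2.2, rfl⟩⟩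

include hcard

theorem nf_bijective : Function.Bijective (nf hC) := by
  haveI : Finite CA := Nat.finite_of_card_ne_zero (by rw [hcard]; norm_num)
  have hs : Function.Surjective (nf hC) := fun x => by
    obtain ⟨w1, w2⟩ := word_spec hC x
    obtain ⟨q, hq, r, hr, j, hj, e⟩ := ThOut.form _ w1
    exact ⟨(⟨q, hq⟩, ⟨r, hr⟩, ⟨j, hj⟩), Subtype.ext (w2 ▸ e.symm)⟩
  refine hs.bijective_of_nat_card_le ?_
  rw [hcard, Nat.card_prod, Nat.card_prod, Nat.card_eq_fintype_card, Nat.card_eq_fintype_card,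
    Nat.card_eq_fintype_card, Fintype.card_fin, Fintype.card_fin, Fintype.card_fin]

/-- Words of one value act equally on the nine points. -/
theorem p9_congr {u v : List ℕ} (hu : okSide true u = true) (hv : okSide true v = true)
    (e : wv g11 u = wv g11 v) : wv p9 u = wv p9 v := by
  obtain ⟨q, hq, r, hr, j, hj, e1, f1⟩ := form9 u hu
  obtain ⟨q', hq', r', hr', j', hj', e2, f2⟩ := form9 v hv
  have h := (nf_bijective hC hcard).1 (a₁ := (⟨q, hq⟩, ⟨r, hr⟩, ⟨j, hj⟩))
    (a₂ := (⟨q', hq'⟩, ⟨r', hr'⟩, ⟨j', hj'⟩)) (Subtype.ext (e1.symm.trans (e.trans e2)))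
  simp only [Prod.mk.injEq, Fin.mk.injEq] at h
  rw [f1, f2, h.2.1, h.2.2]

/-- The action on nine points. -/
def toNine : CA →* Equiv.Perm (Fin nine.n) where
  toFun x := wv p9 (word hC x)
  map_one' := p9_congr hC hcard (v := []) (word_spec hC 1).1 rfl ((word_spec hC 1).2.trans rfl)
  map_mul' x y := by
    rw [← wv_append]
    refine p9_congr hC hcard (word_spec hC _).1 (okSide_append (word_spec hC x).1 (word_spec hC y).1) ?_
    rw [(word_spec hC _).2, wv_append, (word_spec hC x).2, (word_spec hC y).2]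
    rfl

theorem toNine_mk {w : List ℕ} (h : okSide true w = true) :
    toNine hC hcard ⟨wv g11 w, (hC _).2 ⟨w, h, rfl⟩⟩ = wv p9 w :=
  p9_congr hC hcard (word_spec hC _).1 h (word_spec hC _).2

omit hC hcard in
theorem sign_p9 : ∀ l < 11, Equiv.Perm.sign (p9 l) = 1 := by decide +kernel

theorem nine_words (w : List ℕ) (hw : ∀ l ∈ w, l < nine.k) :
    wv (nine.sig nine_ok) w ∈ (toNine hC hcard).range := by
  refine wv_mem _ fun l hl => ?_
  show p9 l ∈ (toNine hC hcard).range
  have hl' : l < 11 := hw l hl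
  by_cases h1 : l = 1
  · subst h1
    have h : p9 1 = 1 := by
      have := eq9_eq (u := [1]) (v := []) (by decide +kernel)
      rwa [wv_singleton] at this
    rw [h]; exact one_mem _
  · have hs : okSide true [l] = true := by interval_cases l <;> first | rfl | omega
    exact ⟨_, (toNine_mk hC hcard hs).trans (wv_singleton p9 l)⟩

theorem toNine_range : (toNine hC hcard).range = alternatingGroup (Fin nine.n) := by
  refine Subgroup.eq_of_le_of_card_ge ?_ ?_
  · rintro _ ⟨x, rfl⟩
    rw [Equiv.Perm.mem_alternatingGroup]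
    show Equiv.Perm.sign (wv p9 (word hC x)) = 1
    have hw := (word_spec hC x).1
    simp only [okSide, cond_true, List.all_eq_true, Bool.and_eq_true, Nat.blt_eq] at hw
    rw [map_wv]
    generalize word hC x = w at hw
    induction w with
    | nil => rfl
    | cons l w ih =>
      rw [wv_cons, ih fun m hm => hw m (List.mem_cons_of_mem _ hm), mul_one]
      exact sign_p9 l (hw l List.mem_cons_self).1
  · refine le_trans (le_of_eq ?_) ((nine_chain_size.ge).trans (chain_le nine_ok nineChain [] nine_chain_ok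
      (toNine hC hcard).range fun w hw _ => nine_words hC hcard w hw))
    rw [Nat.card_eq_fintype_card]
    haveI : Nontrivial (Fin nine.n) := ⟨⟨⟨0, by decide⟩, ⟨1, by decide⟩, by decide⟩⟩
    have h := two_mul_card_alternatingGroup (α := Fin nine.n)
    rw [Fintype.card_perm, Fintype.card_fin, show Nat.factorial nine.n = 362880 by decide] at h
    omega

theorem card_ker : Nat.card (toNine hC hcard).ker = 512 := by
  have h := Subgroup.card_eq_card_quotient_mul_card_subgroup (toNine hC hcard).ker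
  rw [Nat.card_congr (QuotientGroup.quotientKerEquivRange (toNine hC hcard)).toEquiv,
    toNine_range, hcard] at h
  haveI : Nontrivial (Fin nine.n) := ⟨⟨⟨0, by decide⟩, ⟨1, by decide⟩, by decide⟩⟩
  have h2 := two_mul_card_alternatingGroup (α := Fin nine.n)
  rw [Fintype.card_perm, Fintype.card_fin, show Nat.factorial nine.n = 362880 by decide,
    ← Nat.card_eq_fintype_card] at h2
  have h3 : Nat.card (alternatingGroup (Fin nine.n)) = 181440 := by omega
  rw [h3] at h
  omega

/-- An element of the kernel. -/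
def qEl (q : Fin 512) : (toNine hC hcard).ker :=
  ⟨⟨wv g11 (qW q), (hC _).2 ⟨_, (kWord_ok (Bool.and_eq_true_iff.1 (allLo_spec words_ok.1 q.2)).1).1, rfl⟩⟩,
    (toNine_mk hC hcard (kWord_ok (Bool.and_eq_true_iff.1 (allLo_spec words_ok.1 q.2)).1).1).trans (p9_qW q.2)⟩

theorem qEl_surjective : Function.Surjective (qEl hC hcard) := by
  haveI : Finite CA := Nat.finite_of_card_ne_zero (by rw [hcard]; norm_num)
  have hinj : Function.Injective (qEl hC hcard) := fun q r e => by
    have h := congrArg (fun x : (toNine hC hcard).ker => (x.1 : Cfsg.Spor.Th)) e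
    have h' := (nf_bijective hC hcard).1 (a₁ := (q, ⟨0, by norm_num⟩, ⟨0, by norm_num⟩))
      (a₂ := (r, ⟨0, by norm_num⟩, ⟨0, by norm_num⟩)) (Subtype.ext ?_)
    · exact congrArg Prod.fst h'
    · show wv g11 (qW q ++ rW 0 ++ tauW 0) = wv g11 (qW r ++ rW 0 ++ tauW 0)
      simp only [wv_append] at h ⊢
      rw [show wv g11 (qW q) = wv g11 (qW r) from h]
  have := hinj.bijective_of_nat_card_le (by rw [card_ker hC hcard]; simp)
  exact this.2

variable (hinj : Function.Injective psi)

include hinj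

theorem ker_extraspecial : Cfsg.IsExtraspecial 2 (toNine hC hcard).ker := by
  haveI : Finite CA := Nat.finite_of_card_ne_zero (by rw [hcard]; norm_num)
  haveI : _root_.Fact (Nat.Prime 2) := ⟨Nat.prime_two⟩
  set Q := (toNine hC hcard).ker
  have hp : IsPGroup 2 Q := IsPGroup.of_card (n := 9) (by rw [card_ker hC hcard]; norm_num)
  have h9 : ∀ q : Fin 512, ∀ l ∈ qW q, l < 9 := fun q =>
    (kWord_ok (Bool.and_eq_true_iff.1 (allLo_spec words_ok.1 q.2)).1).2
  have hval : ∀ q : Fin 512, (((qEl hC hcard q).1 : CA) : Cfsg.Spor.Th) = psi (el (qW q)) :=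
    fun q => (psi_el (h9 q)).symm
  have ha : g11 0 = psi (el [0]) := (psi_el (w := [0]) (by decide)).trans (wv_singleton _ _) |>.symm
  have ha2 : g11 0 * g11 0 = 1 := sq_one 0 (by norm_num)
  have ha1 : g11 0 ≠ 1 := by
    intro h
    rw [ha, ← map_one psi] at h
    have := eqH_of_el (u := [0]) (v := []) (by decide) (by simp) (hinj h)
    revert this
    decide +kernel
  have hg9 : ∀ g ∈ Form.qgens, (∀ l ∈ g, l < 9) ∧ kWord g = true := fun g hg =>
    ⟨(kWord_ok (List.all_eq_true.1 qgens_ok.1 g hg)).2, List.all_eq_true.1 qgens_ok.1 g hg⟩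
  -- the generators as elements of the kernel
  have hgen : ∀ g ∈ Form.qgens, ∃ y : Q, ((y.1 : CA) : Cfsg.Spor.Th) = psi (el g) := fun g hg => by
    refine ⟨⟨⟨wv g11 g, (hC _).2 ⟨g, (kWord_ok (hg9 g hg).2).1, rfl⟩⟩, ?_⟩, (psi_el (hg9 g hg).1).symm⟩
    rw [MonoidHom.mem_ker]
    exact (toNine_mk hC hcard (kWord_ok (hg9 g hg).2).1).trans (eq9_eq (List.all_eq_true.1 p9_q g hg))
  have hamem : ∃ z : Q, ((z.1 : CA) : Cfsg.Spor.Th) = g11 0 := by
    obtain ⟨y, hy⟩ := hgen [0] (List.mem_cons_self)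
    exact ⟨y, hy.trans ha.symm⟩
  obtain ⟨z, hz⟩ := hamem
  have hz2 : orderOf z = 2 := by
    refine orderOf_eq_prime ?_ ?_
    · apply Subtype.ext; apply Subtype.ext
      show ((z.1 : CA) : Cfsg.Spor.Th) ^ 2 = 1
      rw [hz, sq, ha2]
    · intro h
      exact ha1 (hz.symm.trans (by rw [h]; rfl))
  have hzc : ∀ x : Q, x * z = z * x := fun x => by
    apply Subtype.ext; apply Subtype.ext
    show ((x.1 : CA) : Cfsg.Spor.Th) * ((z.1 : CA) : Cfsg.Spor.Th) = ((z.1 : CA) : Cfsg.Spor.Th) * _
    rw [hz]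
    exact Subgroup.mem_centralizer_singleton_iff.1 x.1.2
  have hz1 : ∀ x : Q, ((x.1 : CA) : Cfsg.Spor.Th) = psi (el []) ∨ ((x.1 : CA) : Cfsg.Spor.Th) = psi (el [0]) →
      x ∈ Subgroup.zpowers z := by
    rintro x (h | h)
    · have : x = 1 := Subtype.ext (Subtype.ext (h.trans (by rw [el_nil, map_one]; rfl)))
      rw [this]; exact one_mem _
    · have : x = z := Subtype.ext (Subtype.ext (h.trans (ha.symm.trans hz.symm)))
      rw [this]; exact Subgroup.mem_zpowers z
  have hsq : ∀ x : Q, x ^ 2 ∈ Subgroup.zpowers z := fun x => by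
    obtain ⟨q, rfl⟩ := qEl_surjective hC hcard x
    refine hz1 _ ?_
    have hv : ((((qEl hC hcard q) ^ 2).1 : CA) : Cfsg.Spor.Th) = psi (el (qW q ++ qW q)) := by
      rw [el_append, map_mul, ← hval, sq]; rfl
    rw [hv]
    have h := q_ok q.2
    simp only [qOK, Bool.and_eq_true, Bool.or_eq_true] at h
    exact h.1.imp (fun h => by rw [el_eq h]) (fun h => by rw [el_eq h])
  refine LargeExtra.isExtraspecial_of hp hz2 (fun x => ⟨fun hx => ?_, ?_⟩) (fun x y => ?_) hsq ?_
  · obtain ⟨q, rfl⟩ := qEl_surjective hC hcard x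
    have h := q_ok q.2
    simp only [qOK, Bool.and_eq_true, Bool.or_eq_true, List.any_eq_true, Bool.not_eq_true'] at h
    rcases h.2 with (h | h) | ⟨g, hg, h⟩
    · exact hz1 _ (Or.inl (by rw [hval, el_eq h]))
    · exact hz1 _ (Or.inr (by rw [hval, el_eq h]))
    · exfalso
      obtain ⟨y, hy⟩ := hgen g hg
      have e := congrArg (fun v : Q => ((v.1 : CA) : Cfsg.Spor.Th)) (hx y)
      change ((_ : CA) : Cfsg.Spor.Th) * _ = ((y.1 : CA) : Cfsg.Spor.Th) * _ at e
      rw [hval, hy, ← map_mul, ← map_mul, ← el_append, ← el_append] at e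
      rw [eqH_of_el (by simpa [or_imp, forall_and] using ⟨h9 q, (hg9 g hg).1⟩)
        (by simpa [or_imp, forall_and] using ⟨(hg9 g hg).1, h9 q⟩) (hinj e)] at h
      exact Bool.noConfusion h
  · rintro ⟨k, rfl⟩ y
    exact ((Commute.symm (hzc y : Commute y z)).zpow_left k).eq
  · have hh := mul_mem (mul_mem (hsq x) (hsq (x⁻¹ * y))) (inv_mem (hsq y))
    rwa [show ⁅x, y⁆ = x ^ 2 * (x⁻¹ * y) ^ 2 * (y ^ 2)⁻¹ by rw [commutatorElement_def]; simp only [sq]; group]
  · have h := qgens_noncomm
    simp only [List.any_eq_true, Bool.not_eq_true'] at h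
    obtain ⟨g, hg, k, hk, h⟩ := h
    obtain ⟨x, hx⟩ := hgen g hg
    obtain ⟨y, hy⟩ := hgen k hk
    refine ⟨x, y, fun e => ?_⟩
    have e := congrArg (fun v : Q => ((v.1 : CA) : Cfsg.Spor.Th)) e
    change ((x.1 : CA) : Cfsg.Spor.Th) * _ = ((y.1 : CA) : Cfsg.Spor.Th) * _ at e
    rw [hx, hy, ← map_mul, ← map_mul, ← el_append, ← el_append] at e
    rw [eqH_of_el (by simpa [or_imp, forall_and] using ⟨(hg9 g hg).1, (hg9 k hk).1⟩)
      (by simpa [or_imp, forall_and] using ⟨(hg9 k hk).1, (hg9 g hg).1⟩) (hinj e)] at h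
    exact Bool.noConfusion h

omit hinj

/-- The quotient by the kernel is the alternating group. -/
def quotientEquiv : CA ⧸ (toNine hC hcard).ker ≃* alternatingGroup (Fin 9) :=
  (QuotientGroup.quotientKerEquivRange (toNine hC hcard)).trans (MulEquiv.subgroupCongr (toNine_range hC hcard))

end

end Cfsg.Agent.Th
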