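import Cfsg.Agent.Lib.Th.Simple
import Cfsg.Prelude.Def_Exceptional
import Mathlib.GroupTheory.SpecificGroups.Cyclic

/-!
The kernel of the character of order three on the group of `a, b, c, d, e, s, t` is simple of the order of
the triality group over the field of two elements.
-/

set_option autoImplicit false
set_option maxRecDepth 100000
set_option maxHeartbeats 1000000
set_option Elab.async false

namespace Cfsg.Agent.Th

open Cfsg.Agent.HN

noncomputable section

/-- The group generated by `a, b, c, d, e, s`. -/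
def D0 : Subgroup H0 := chi3.ker

theorem chi3_low {w : List ℕ} (h : ∀ l ∈ w, l < 7) : chi3 (el w) = 1 := by
  rw [chi3_el]
  induction w with
  | nil => rfl
  | cons l w ih =>
    rw [wv_cons, ih fun x hx => h x (List.mem_cons_of_mem _ hx), mul_one]
    have := h l List.mem_cons_self
    interval_cases l <;> rfl

theorem chi3_surjective : Function.Surjective chi3 := by
  have key : ∀ z : Multiplicative (ZMod 3), wv chi3Let [] = z ∨ wv chi3Let [7] = z ∨ wv chi3Let [8] = z := by
    decide
  intro z
  rcases key z with h | h | h <;> exact ⟨el _, (chi3_el _).trans h⟩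

theorem card_D0 : Nat.card D0 = 211341312 := by
  have h := D0.card_mul_index
  have hi : D0.index = 3 := by
    rw [D0, Subgroup.index_ker, MonoidHom.range_eq_top.2 chi3_surjective, Subgroup.card_top]
    simp
  rw [hi, card_H0] at h
  omega

theorem D0_le_of_gens {S : Subgroup H0} (h : ∀ l < 6, el [l] ∈ S) (hS : S ≤ D0) : S = D0 := by
  refine Subgroup.eq_of_le_of_card_ge hS ?_
  rw [card_D0]
  refine repD_range_ge.trans ?_
  have hle : repD.range ≤ S.map rep := by
    rw [MonoidHom.range_eq_map, ← closure_gD, MonoidHom.map_closure, Subgroup.closure_le]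
    rintro _ ⟨_, ⟨l, hl, rfl⟩, rfl⟩
    have hl' : l < 7 := hl
    rw [repD_gD hl']
    have key : ∀ i < 6, pts.sig pts_ok i ∈ S.map rep := fun i hi =>
      ⟨el [i], h i hi, by rw [el, rep_wv, wv_singleton]⟩
    interval_cases l
    case «6» => rw [show pts.sig pts_ok 6 = (pts.sig pts_ok 5)⁻¹ from pts_sig_inv 5]; exact inv_mem (key 5 (by norm_num))
    all_goals exact key _ (by norm_num)
  exact (Nat.card_le_card_of_injective _ (Subgroup.inclusion_injective hle)).trans
    (Nat.card_le_card_of_surjective _ (rep.subgroupMap_surjective S))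

theorem D0_trans (q : Fin pts.n) : ∃ e ∈ D0, rep e p0 = q := by
  have key : ∀ z : Multiplicative (ZMod 3), ∃ k < 3, z * wv chi3Let (List.replicate k 7) = 1 := by decide
  obtain ⟨k, hk3, hk⟩ := key (chi3 (el (om q.1)))
  refine ⟨el (om q.1) * el (List.replicate k 7), ?_, ?_⟩
  · rw [D0, MonoidHom.mem_ker, map_mul, chi3_el (List.replicate k 7)]
    exact hk
  · have hκ : okK (List.replicate k 7) = true := by
      interval_cases k <;> rfl
    rw [map_mul, Equiv.Perm.mul_apply, (okK_fix hκ).1]
    exact rep_om

theorem D0_simple : IsSimpleGroup D0 := by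
  haveI : Nontrivial D0 := Finite.one_lt_card_iff_nontrivial.1 (by rw [card_D0]; norm_num)
  refine ⟨fun N hN => ?_⟩
  by_cases hN1 : N = ⊥
  · exact Or.inl hN1
  right
  have hM : N.map D0.subtype ≠ ⊥ := by
    rw [Ne, Subgroup.map_eq_bot_iff_of_injective _ D0.subtype_injective]; exact hN1
  have hgen := norm_mem D0 (N.map D0.subtype) (Subgroup.map_subtype_le N) (fun κ hκ => by
      refine chi3_low fun l hl => ?_
      simp only [okD, List.all_eq_true, Bool.and_eq_true, Nat.blt_eq] at hκ
      exact (hκ l hl).1) D0_trans (by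
      rintro e he _ ⟨m, hm, rfl⟩
      exact ⟨⟨e, he⟩ * m * ⟨e, he⟩⁻¹, hN.conj_mem m hm _, rfl⟩) hM
  have := D0_le_of_gens hgen (Subgroup.map_subtype_le N)
  rw [eq_top_iff]
  intro x _
  have hx : (x : H0) ∈ N.map D0.subtype := by rw [this]; exact x.2
  obtain ⟨m, hm, e⟩ := hx
  exact Subtype.ext e ▸ hm

/-- **The group of `a, b, c, d, e, s` is a triality group.** -/
theorem is3D4_D0 : Cfsg.Is3D4 D0 :=
  ⟨D0_simple, 2, Nat.prime_two.isPrimePow, by rw [card_D0]; norm_num⟩

theorem is3D4_of_injective {G : Type*} [Group G] (f : H0 →* G) (hf : Function.Injective f) :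
    Cfsg.Is3D4 (D0.map f) := by
  obtain ⟨hs, q, hq, hc⟩ := is3D4_D0
  let e := D0.equivMapOfInjective f hf
  haveI := hs
  haveI : Nontrivial (D0.map f) := e.symm.toEquiv.nontrivial
  refine ⟨?_, q, hq, by rw [← hc]; exact (Nat.card_congr e.toEquiv).symm⟩
  exact IsSimpleGroup.isSimpleGroup_of_surjective e.toMonoidHom e.surjective

end

end Cfsg.Agent.Th
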