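import Cfsg.Agent.Lib.Th.DTableData

/-! Kernel checks: cosets in the group of a, b, c, d, e, s -/

set_option autoImplicit false
set_option maxRecDepth 100000
set_option Elab.async false

namespace Cfsg.Agent.Th.DTable

open Cfsg.Agent.HN

theorem ok4 : TC.okRange cert 6000 1500 = true := by decide +kernel

theorem ok5 : TC.okRange cert 7500 1500 = true := by decide +kernel

theorem ok6 : TC.okRange cert 9000 1500 = true := by decide +kernel

theorem ok7 : TC.okRange cert 10500 1500 = true := by decide +kernel

end Cfsg.Agent.Th.DTable
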