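import Cfsg.Agent.Lib.Th.DTableData

/-! Kernel checks: cosets in the group of a, b, c, d, e, s -/

set_option autoImplicit false
set_option maxRecDepth 100000
set_option Elab.async false

namespace Cfsg.Agent.Th.DTable

open Cfsg.Agent.HN

theorem ok8 : TC.okRange cert 12000 1500 = true := by decide +kernel

theorem ok9 : TC.okRange cert 13500 6 = true := by decide +kernel

end Cfsg.Agent.Th.DTable
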