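import Cfsg.Agent.Lib.Th.Present

/-!
Checking deductions among double cosets of two kinds: facts `x p * w = A * x q * v` with `A` in the group of
`a, b, c, d, e, s, t` and `w, v` words of the side of their node, each with a proof from earlier facts.
-/

set_option autoImplicit false
set_option maxRecDepth 100000

namespace Cfsg.Agent.Th

open Cfsg.Agent.HN

noncomputable section

/-- The letters allowed on a side: `false` for the group without `u`, `true` for the centraliser. -/
def okSide (sd : Bool) (w : List ℕ) : Bool :=
  bif sd then w.all fun l => Nat.blt l 11 && !(Nat.beq l 1) else letOK 9 w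

/-- Rename one of the eleven letters other than `b` to the ten. -/
def to10 (l : ℕ) : ℕ := bif Nat.beq l 0 then 0 else l - 1

/-- Apply a function to a number reduced first. -/
def force {α : Type} (j : ℕ) (k : ℕ → α) : α :=
  Nat.rec (motive := fun _ => α) (k 0) (fun m _ => k (Nat.succ m)) j

theorem force_eq {α : Type} (j : ℕ) (k : ℕ → α) : force j k = k j := by cases j <;> rfl

/-- The coset reached along a word. -/
def cEnd : List ℕ → ℕ → ℕ :=
  List.rec (fun j => j) (fun l _ rest j => force (stepC j (to10 l)).1 rest)

/-- The labels collected along a word. -/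
def cLab : List ℕ → ℕ → List ℕ :=
  List.rec (fun _ => []) (fun l _ rest j => (stepC j (to10 l)).2 ++ force (stepC j (to10 l)).1 rest)

/-- The normal form of a word in the centraliser. -/
def cnorm (w : List ℕ) : ℕ × List ℕ := (cEnd w 0, cLab w 0)

/-- Two words of one side give the same element. -/
def eqS (sd : Bool) (u v : List ℕ) : Bool :=
  okSide sd u && okSide sd v &&
    bif sd then Nat.beq (cnorm u).1 (cnorm v).1 && eqH (cnorm u).2 (cnorm v).2 else eqH u v

theorem cfold_spec : ∀ (w : List ℕ) (j : ℕ), okSide true w = true → j < 120 →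
    tauC j * wv g11 w = psi (el (cLab w j)) * tauC (cEnd w j) := by
  intro w
  induction w with
  | nil => intro j _ _; simp [cLab, cEnd, wv_nil, el_nil]
  | cons l w ih =>
    intro j h hj
    simp only [okSide, cond_true, List.all_cons, Bool.and_eq_true, Nat.blt_eq, Bool.not_eq_true'] at h
    obtain ⟨⟨hl, hb⟩, hw⟩ := h
    have hl10 : to10 l < 10 ∧ from10 (to10 l) = l := by
      interval_cases l <;> first | decide | simp at hb
    obtain ⟨hd, he⟩ := stepC_spec hj hl10.1
    show _ = psi (el ((stepC j (to10 l)).2 ++ force (stepC j (to10 l)).1 (cLab w))) *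
      tauC (force (stepC j (to10 l)).1 (cEnd w))
    rw [force_eq, force_eq, el_append, map_mul, mul_assoc, ← ih _ (by simpa [okSide] using hw) hd,
      ← mul_assoc, ← he, wv_cons, g10, hl10.2, mul_assoc]

theorem cnorm_spec {w : List ℕ} (h : okSide true w = true) :
    wv g11 w = psi (el (cnorm w).2) * tauC (cnorm w).1 := by
  have := cfold_spec w 0 h (by norm_num)
  rwa [tauC_zero, one_mul] at this

theorem eqS_eq {sd : Bool} {u v : List ℕ} (h : eqS sd u v = true) : wv g11 u = wv g11 v := by
  simp only [eqS, Bool.and_eq_true] at h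
  obtain ⟨⟨hu, hv⟩, h⟩ := h
  cases sd with
  | false =>
    simp only [cond_false] at h
    simp only [okSide, cond_false] at hu hv
    rw [← psi_el (letOK_spec hu), ← psi_el (letOK_spec hv), el_eq h]
  | true =>
    simp only [cond_true, Bool.and_eq_true, Nat.beq_eq] at h
    rw [cnorm_spec hu, cnorm_spec hv, el_eq h.2, h.1]

/-- A move: append a word, or cross to the other side along a fact, after stabiliser facts, with a word `κ`. -/
inductive Mv where
  | mul (w : ℕ)
  | t (f : ℕ) (rev : Bool) (sig : List ℕ) (kap : ℕ)

/-- The proof of a fact. -/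
inductive Prf where
  | own
  | defn
  | two (p u : ℕ) (ms ms' : List Mv)

/-- A fact `x p * w = A * x q * v`. -/
structure Fact where
  p : ℕ
  w : ℕ
  A : ℕ
  q : ℕ
  v : ℕ
  prf : Prf

/-- The facts, the definitions of the nodes and their sides. -/
structure DData where
  facts : List Fact
  defs : List (ℕ × ℕ)
  sides : List Bool

variable (D : DData)

/-- Fact `n`. -/
def DData.fact (n : ℕ) : Fact := D.facts.getD n ⟨0, 0, 0, 0, 0, .own⟩

/-- The side of a node. -/
def DData.side (p : ℕ) : Bool := D.sides.getD p false

/-- The word of a signed reference to a stabiliser fact. -/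
def DData.sW (r : ℕ) : List ℕ :=
  let F := D.fact (Nat.shiftRight r 1)
  bif Nat.beq (Nat.land r 1) 0 then unp F.w ++ winv iv11 (unp F.v) else unp F.v ++ winv iv11 (unp F.w)

/-- The left factor of a signed reference to a stabiliser fact. -/
def DData.aW (r : ℕ) : List ℕ :=
  let F := D.fact (Nat.shiftRight r 1)
  bif Nat.beq (Nat.land r 1) 0 then unp F.A else winv iv9 (unp F.A)

/-- A state `A * x k * u`, with the product of the atoms read so far. -/
structure St where
  A : List ℕ
  k : ℕ
  u : List ℕ
  W : List ℕ

/-- One move, using facts before `n`. -/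
def DData.mv (n : ℕ) (st : St) : Mv → Option St
  | .mul w => some ⟨st.A, st.k, st.u ++ unp w, st.W ++ unp w⟩
  | .t f rev sig kap =>
    let F := D.fact f
    let h := bif rev then unp F.v else unp F.w
    bif Nat.blt f n && Nat.beq (bif rev then F.q else F.p) st.k &&
        (sig.all fun r => Nat.blt (Nat.shiftRight r 1) n &&
          Nat.beq (D.fact (Nat.shiftRight r 1)).p st.k && Nat.beq (D.fact (Nat.shiftRight r 1)).q st.k) &&
        eqS (D.side st.k) st.u (sig.flatMap D.sW ++ h ++ unp kap) then
      some ⟨st.A ++ sig.flatMap D.aW ++ (bif rev then winv iv9 (unp F.A) else unp F.A),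
        bif rev then F.p else F.q, (bif rev then unp F.w else unp F.v) ++ unp kap, st.W⟩
    else none

/-- A list of moves. -/
def DData.run (n : ℕ) : List Mv → St → Option St
  | [], st => some st
  | m :: ms, st => match D.mv n st m with
    | some st' => DData.run n ms st'
    | none => none

/-- Two products of atoms are equal by one relator. -/
def relEq (u v : List ℕ) : Bool := sameW iv11 u v || derivedFrom iv11 relTh (u ++ winv iv11 v)

/-- Check fact `n`. -/
def DData.okFact (n : ℕ) : Bool :=
  let F := D.fact n
  match F.prf with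
  | .own =>
    !(Nat.blt (D.defs.getD F.p (0, 0)).1 F.p) && !(Nat.blt (D.defs.getD F.q (0, 0)).1 F.q) &&
      letOK 9 (unp F.A) && eqS (D.side F.p) (unp F.w) (unp F.A ++ unp F.v)
  | .defn =>
    Nat.blt F.p F.q && Nat.beq (D.defs.getD F.q (0, 0)).1 F.p &&
      eqW (unp (D.defs.getD F.q (0, 0)).2) (unp F.w) && eqW (unp F.A) [] && eqW (unp F.v) []
  | .two p u ms ms' =>
    match D.run n ms ⟨[], p, unp u, []⟩, D.run n ms' ⟨[], p, unp u, []⟩ with
    | some s, some s' => Nat.beq F.p s.k && Nat.beq F.q s'.k && relEq s.W s'.W &&
        eqS (D.side F.p) (unp F.w) s.u && eqS (D.side F.q) (unp F.v) s'.u &&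
        eqH (unp F.A) (winv iv9 s.A ++ s'.A)
    | _, _ => false

/-- Check `len` facts from `base` on. -/
def DData.okRange (base len : ℕ) : Bool := allLo (fun i => D.okFact (Nat.add base i)) len

/-- The named representatives. -/
def DData.node : ℕ → Cfsg.Spor.Th
  | j =>
    if h : (D.defs.getD j (0, 0)).1 < j then
      DData.node (D.defs.getD j (0, 0)).1 * wv g11 (unp (D.defs.getD j (0, 0)).2)
    else 1
  termination_by j => j

/-- What a fact asserts. -/
def DData.Holds (n : ℕ) : Prop :=
  D.node (D.fact n).p * wv g11 (unp (D.fact n).w) =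
    psi (el (unp (D.fact n).A)) * D.node (D.fact n).q * wv g11 (unp (D.fact n).v)

variable {D}

/-- A reference to a stabiliser fact holds as the fact does. -/
theorem ref_spec {r k : ℕ} (h : D.Holds (Nat.shiftRight r 1)) (hp : (D.fact (Nat.shiftRight r 1)).p = k)
    (hq : (D.fact (Nat.shiftRight r 1)).q = k) :
    D.node k * wv g11 (D.sW r) = psi (el (D.aW r)) * D.node k := by
  unfold DData.Holds at h
  rw [hp, hq] at h
  unfold DData.sW DData.aW
  simp only
  cases Nat.beq (Nat.land r 1) 0 with
  | true =>
    simp only [cond_true, wv_append, wv_winv g11 g11_inv]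
    rw [← mul_assoc, h, mul_inv_cancel_right]
  | false =>
    simp only [cond_false, wv_append, wv_winv g11 g11_inv, el_winv, map_inv]
    set P := psi (el (unp (D.fact (Nat.shiftRight r 1)).A))
    set W := wv g11 (unp (D.fact (Nat.shiftRight r 1)).w)
    calc D.node k * (wv g11 (unp (D.fact (Nat.shiftRight r 1)).v) * W⁻¹)
        = P⁻¹ * (P * D.node k * wv g11 (unp (D.fact (Nat.shiftRight r 1)).v)) * W⁻¹ := by group
      _ = _ := by rw [← h]; group

theorem sig_spec {k n : ℕ} (hn : ∀ m < n, D.Holds m) :
    ∀ sig : List ℕ, (∀ r ∈ sig, Nat.shiftRight r 1 < n ∧ (D.fact (Nat.shiftRight r 1)).p = k ∧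
      (D.fact (Nat.shiftRight r 1)).q = k) →
      D.node k * wv g11 (sig.flatMap D.sW) = psi (el (sig.flatMap D.aW)) * D.node k := by
  intro sig
  induction sig with
  | nil => intro _; simp [wv_nil, el_nil]
  | cons r sig ih =>
    intro h
    obtain ⟨h1, h2, h3⟩ := h r List.mem_cons_self
    rw [List.flatMap_cons, List.flatMap_cons, wv_append, el_append, map_mul, ← mul_assoc,
      ref_spec (hn _ h1) h2 h3, mul_assoc, ih fun x hx => h x (List.mem_cons_of_mem _ hx), mul_assoc]

/-- The value of a state against the start. -/
def DData.Inv (D : DData) (X : Cfsg.Spor.Th) (st : St) : Prop :=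
  X * wv g11 st.W = psi (el st.A) * D.node st.k * wv g11 st.u

theorem mv_spec {n : ℕ} (hn : ∀ m < n, D.Holds m) {X : Cfsg.Spor.Th} {st st' : St} (hst : D.Inv X st)
    {m : Mv} (h : D.mv n st m = some st') : D.Inv X st' := by
  cases m with
  | mul w =>
    simp only [DData.mv, Option.some.injEq] at h
    subst h
    unfold DData.Inv at *
    simp only [wv_append, ← mul_assoc, hst]
  | t f rev sig kap =>
    unfold DData.mv at h
    simp only at h
    cases hc : (Nat.blt f n && Nat.beq (bif rev then (D.fact f).q else (D.fact f).p) st.k &&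
        (sig.all fun r => Nat.blt (Nat.shiftRight r 1) n &&
          Nat.beq (D.fact (Nat.shiftRight r 1)).p st.k && Nat.beq (D.fact (Nat.shiftRight r 1)).q st.k) &&
        eqS (D.side st.k) st.u
          (sig.flatMap D.sW ++ (bif rev then unp (D.fact f).v else unp (D.fact f).w) ++ unp kap)) with
    | false => rw [hc, cond_false] at h; exact absurd h (by simp)
    | true =>
      rw [hc, cond_true, Option.some.injEq] at h
      subst h
      simp only [Bool.and_eq_true, Nat.blt_eq, Nat.beq_eq, List.all_eq_true] at hc
      obtain ⟨⟨⟨hf, hk⟩, hsig⟩, he⟩ := hc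
      have hs := sig_spec hn sig fun r hr => ⟨(hsig r hr).1.1, (hsig r hr).1.2, (hsig r hr).2⟩
      have hF := hn f hf
      unfold DData.Holds at hF
      unfold DData.Inv at *
      rw [hst, eqS_eq he]
      cases rev with
      | false =>
        simp only [cond_false] at hk ⊢
        simp only [wv_append, el_append, map_mul]
        rw [← hk] at hs ⊢
        calc psi (el st.A) * D.node (D.fact f).p *
              (wv g11 (sig.flatMap D.sW) * wv g11 (unp (D.fact f).w) * wv g11 (unp kap))
            = psi (el st.A) * (D.node (D.fact f).p * wv g11 (sig.flatMap D.sW)) *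
                wv g11 (unp (D.fact f).w) * wv g11 (unp kap) := by group
          _ = psi (el st.A) * psi (el (sig.flatMap D.aW)) *
                (D.node (D.fact f).p * wv g11 (unp (D.fact f).w)) * wv g11 (unp kap) := by rw [hs]; group
          _ = _ := by rw [hF]; group
      | true =>
        simp only [cond_true] at hk ⊢
        simp only [wv_append, el_append, map_mul, el_winv, map_inv]
        rw [← hk] at hs ⊢
        set P := psi (el (unp (D.fact f).A))
        calc psi (el st.A) * D.node (D.fact f).q *
              (wv g11 (sig.flatMap D.sW) * wv g11 (unp (D.fact f).v) * wv g11 (unp kap))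
            = psi (el st.A) * (D.node (D.fact f).q * wv g11 (sig.flatMap D.sW)) *
                wv g11 (unp (D.fact f).v) * wv g11 (unp kap) := by group
          _ = psi (el st.A) * psi (el (sig.flatMap D.aW)) * P⁻¹ *
                (P * D.node (D.fact f).q * wv g11 (unp (D.fact f).v)) * wv g11 (unp kap) := by
              rw [hs]; group
          _ = _ := by rw [← hF]; group

theorem run_spec {n : ℕ} (hn : ∀ m < n, D.Holds m) {X : Cfsg.Spor.Th} :
    ∀ (ms : List Mv) (st st' : St), D.Inv X st → D.run n ms st = some st' → D.Inv X st' := by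
  intro ms
  induction ms with
  | nil => intro st st' h e; simp [DData.run] at e; exact e ▸ h
  | cons m ms ih =>
    intro st st' h e
    simp only [DData.run] at e
    split at e
    · rename_i s hs; exact ih _ _ (mv_spec hn h hs) e
    · simp at e

theorem node_root {p : ℕ} (h : Nat.blt (D.defs.getD p (0, 0)).1 p = false) : D.node p = 1 := by
  rw [DData.node, dif_neg]
  intro hlt
  rw [← Nat.blt_eq, h] at hlt
  exact Bool.false_ne_true hlt

theorem okFact_holds {n : ℕ} (hn : ∀ m < n, D.Holds m) (h : D.okFact n = true) : D.Holds n := by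
  unfold DData.okFact at h
  simp only at h
  unfold DData.Holds
  cases hp : (D.fact n).prf with
  | own =>
    simp only [hp, Bool.and_eq_true, Bool.not_eq_true'] at h
    obtain ⟨⟨⟨h1, h2⟩, hA⟩, he⟩ := h
    rw [node_root h1, node_root h2, one_mul, mul_one, eqS_eq he, wv_append, psi_el (letOK_spec hA)]
  | defn =>
    simp only [hp, Bool.and_eq_true, Nat.blt_eq, Nat.beq_eq] at h
    obtain ⟨⟨⟨⟨hlt, hd⟩, hw⟩, hA⟩, hv⟩ := h
    rw [eq_of_eqW hA, eq_of_eqW hv, el_nil, map_one, one_mul, wv_nil, mul_one, ← eq_of_eqW hw]
    conv_rhs => rw [DData.node, dif_pos (hd.symm ▸ hlt)]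
    rw [hd]
  | two p u ms ms' =>
    simp only [hp] at h
    split at h
    · rename_i s s' hs hs'
      simp only [Bool.and_eq_true, Nat.beq_eq] at h
      obtain ⟨⟨⟨⟨⟨e1, e2⟩, hW⟩, hu⟩, hv⟩, hA⟩ := h
      have start : D.Inv (D.node p * wv g11 (unp u)) ⟨[], p, unp u, []⟩ := by
        simp [DData.Inv, wv_nil, el_nil]
      have I1 := run_spec hn ms _ _ start hs
      have I2 := run_spec hn ms' _ _ start hs'
      unfold DData.Inv at I1 I2
      have hWeq : wv g11 s.W = wv g11 s'.W := by
        rcases Bool.or_eq_true_iff.1 hW with h' | h'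
        · exact wv_of_sameW g11 g11_inv h'
        · have := derivedFrom_spec g11_inv (fun b hb => relTh_one hb) h'
          rwa [wv_append, wv_winv g11 g11_inv, mul_inv_eq_one] at this
      rw [hWeq, I2] at I1
      rw [e1, e2, eqS_eq hu, eqS_eq hv, el_eq hA, el_append, map_mul, el_winv, map_inv]
      calc D.node s.k * wv g11 s.u = (psi (el s.A))⁻¹ * (psi (el s.A) * D.node s.k * wv g11 s.u) := by group
        _ = _ := by rw [← I1]; group
    · exact absurd h Bool.false_ne_true

/-- **All facts checked in order hold.** -/
theorem all_hold {N : ℕ} (h : ∀ n < N, D.okFact n = true) : ∀ n < N, D.Holds n := by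
  intro n
  induction n using Nat.strongRecOn with
  | _ n ih => intro hn; exact okFact_holds (fun m hm => ih m hm (by omega)) (h n hn)

end

end Cfsg.Agent.Th
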