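import Cfsg.Agent.Lib.HN.TC

/-! the dihedral group -/

set_option autoImplicit false
set_option maxRecDepth 100000
set_option maxHeartbeats 4000000
set_option Elab.async false

namespace Cfsg.Agent.Th.Dihedral

open Cfsg.Agent.HN

noncomputable section

open Cfsg.Agent.HN

/-- part of the tree -/
def nodes0 : Trie :=
  (.node (.node (.node (.node (.leaf 0x0) (.leaf 0x100007)) (.node (.leaf 0x100003) (.leaf 0x5))) (.node (.node (.leaf 0x100001) (.leaf 0x3)) (.node (.leaf 0x100005) (.leaf 0)))) (.node (.node (.node (.leaf 0x100000) (.leaf 0x2)) (.node (.leaf 0x100004) (.leaf 0x6))) (.node (.node (.leaf 0x100002) (.leaf 0x4)) (.node (.leaf 0x1) (.leaf 0)))))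

/-- the tree -/
def nodes : Trie :=
  nodes0

/-- part of the facts -/
def facts0 : Trie :=
  (.node (.node (.node (.node (.node (.leaf 0x1000000000200000) (.leaf 0xc000050000100000)) (.node (.leaf 0x8000070000200000) (.leaf 0))) (.node (.node (.leaf 0x5000040000200000) (.leaf 0x130000c00024000020000100001000000000200006000080000d0000300002)) (.node (.leaf 0xa000030000100000) (.leaf 0)))) (.node (.node (.node (.leaf 0x3000020000200000) (.leaf 0xd000060000100000)) (.node (.leaf 0x9000020000100000) (.leaf 0))) (.node (.node (.leaf 0x1000030000500007000090000a00005000010000000000000010000500000000060000200002) (.leaf 0)) (.node (.leaf 0xb000040000100000) (.leaf 0))))) (.node (.node (.node (.node (.leaf 0x2000010000200000) (.leaf 0x1c00009000200000200001000000000100002000050000b0000c0000200002)) (.node (.leaf 0x10000f0001000002000010000000000000020000700000000080000100002) (.leaf 0))) (.node (.node (.leaf 0x6000050000200000) (.leaf 0)) (.node (.leaf 0x140000500018000020000100000000010000200003000090000a0000200002) (.leaf 0)))) (.node (.node (.node (.leaf 0x4000030000200000) (.leaf 0x200000b000240000200001000000000100002000060000c0000d0000200002))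 (.node (.leaf 0xe000030001400002000010000000001000020000200007000090000200002) (.leaf 0))) (.node (.node (.leaf 0x7000010000100000) (.leaf 0)) (.node (.leaf 0x18000070001c0000200001000000000100002000040000a0000b0000200002) (.leaf 0))))))

/-- the facts -/
def facts : Trie :=
  facts0

/-- part of the final cosets -/
def fin0 : Trie :=
  (.node (.node (.node (.node (.leaf 0x60000d0000100000000080001300000) (.leaf 0x7000110000d00029000000001200008)) (.node (.leaf 0x30000700005000080000b0001c00004) (.leaf 0xd000270000b0002200005000210000c))) (.node (.node (.leaf 0x1000030000300004000090001400002) (.leaf 0xb0001f000090001a00003000190000a)) (.node (.leaf 0x50000b000000000c0000d0002400006) (.leaf 0)))) (.node (.node (.node (.leaf 0x10000200002000070000e00001) (.leaf 0xa0001b0000700016000020001500009)) (.node (.leaf 0x400009000060000a0000c0002000005) (.leaf 0x8000280000c0002600006000250000d))) (.node (.node (.leaf 0x20000500004000060000a0001800003) (.leaf 0xc000230000a0001e000040001d0000b)) (.node (.leaf 0x9000170000800010000010000f00007) (.leaf 0)))))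

/-- the final cosets -/
def fin : Trie :=
  fin0

/-- the inverse of a letter -/
def ivl (l : ℕ) : ℕ := ([0, 2, 1] : List ℕ).getD l l

/-- the certificate -/
def cert : TC.Cert :=
  ⟨3, ivl, nodes, facts, [[], [1, 1, 1, 1, 1, 1, 1], [1, 0, 1, 0], [0, 0]], [], fin, 14⟩

/-- the number of facts -/
def numFacts : ℕ := 21

end

end Cfsg.Agent.Th.Dihedral
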