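import Cfsg.Agent.Lib.Th.Graph.Index

/-!
The order of the presented Thompson group from the bound on the index and a representation with a large
image.
-/

set_option autoImplicit false
set_option maxRecDepth 100000

namespace Cfsg.Agent.Th

open Cfsg.Agent.HN

noncomputable section

instance psi_range_finite : Finite psi.range := Finite.of_surjective _ psi.rangeRestrict_surjective

/-- **The presented Thompson group is finite.** -/
theorem finite_th : Finite Cfsg.Spor.Th := by
  haveI := Graph.index_psi_le.1
  exact Finite.of_subgroup_quotient psi.range

theorem card_psi_range_le : Nat.card psi.range ≤ 634023936 :=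
  card_H0 ▸ Nat.card_le_card_of_surjective _ psi.rangeRestrict_surjective

/-- **The presented Thompson group has at most 90745943887872000 elements.** -/
theorem card_th_le : Nat.card Cfsg.Spor.Th ≤ 90745943887872000 := by
  rw [← psi.range.index_mul_card]
  exact Nat.mul_le_mul Graph.index_psi_le.2 card_psi_range_le

/-- What a representation with an image of full order gives. -/
theorem exact_of_range {M : Type*} [Group M] (f : Cfsg.Spor.Th →* M)
    (hd : 90745943887872000 ∣ Nat.card f.range) :
    Nat.card Cfsg.Spor.Th = 90745943887872000 ∧ Function.Injective f ∧ Function.Injective psi ∧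
      psi.range.index = 143127000 := by
  haveI := finite_th
  haveI : Finite f.range := Finite.of_surjective _ f.rangeRestrict_surjective
  have h1 : 90745943887872000 ≤ Nat.card f.range := Nat.le_of_dvd Nat.card_pos hd
  have h2 : Nat.card f.range ≤ Nat.card Cfsg.Spor.Th :=
    Nat.card_le_card_of_surjective _ f.rangeRestrict_surjective
  have h3 : Nat.card Cfsg.Spor.Th = 90745943887872000 :=
    le_antisymm card_th_le (h1.trans h2)
  have hf : Function.Injective f := by
    have hb := f.rangeRestrict_surjective.bijective_of_nat_card_le (card_th_le.trans h1)
    exact fun a b e => hb.1 (Subtype.ext e)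
  have hi := Graph.index_psi_le.2
  have hc := card_psi_range_le
  have hm : psi.range.index * Nat.card psi.range = 90745943887872000 := h3 ▸ psi.range.index_mul_card
  have hc' : Nat.card psi.range = 634023936 := by
    refine le_antisymm hc ?_
    by_contra hlt
    have h4 : psi.range.index * Nat.card psi.range ≤ 143127000 * 634023935 :=
      Nat.mul_le_mul hi (Nat.le_of_lt_succ (not_le.1 hlt))
    rw [hm] at h4
    exact absurd h4 (by norm_num)
  have hp : Function.Injective psi := by
    have hb := psi.rangeRestrict_surjective.bijective_of_nat_card_le (by rw [card_H0, hc'])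
    exact fun a b e => hb.1 (Subtype.ext e)
  refine ⟨h3, hf, hp, ?_⟩
  rw [hc'] at hm
  exact Nat.eq_of_mul_eq_mul_right (by norm_num : 0 < 634023936) (hm.trans (by norm_num))

end

end Cfsg.Agent.Th
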