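import Cfsg.Agent.Lib.Th.KTableData

/-! Kernel checks: cosets in the group without b -/

set_option autoImplicit false
set_option maxRecDepth 100000
set_option Elab.async false

namespace Cfsg.Agent.Th.KTable

open Cfsg.Agent.HN

theorem ok0 : TC.okRange cert 0 1500 = true := by decide +kernel

theorem ok1 : TC.okRange cert 1500 1500 = true := by decide +kernel

theorem ok2 : TC.okRange cert 3000 108 = true := by decide +kernel

/-- every fact checks -/
theorem ok_all : ∀ n < numFacts, TC.okFact cert n = true := by
  intro n hn
  unfold numFacts at hn
  by_cases h0 : n < 1500
  · have := allLo_spec ok0 (i := n - 0) (by omega); rwa [show Nat.add 0 (n - 0) = n from by show 0 + (n - 0) = n; omega] at this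
  by_cases h1 : n < 3000
  · have := allLo_spec ok1 (i := n - 1500) (by omega); rwa [show Nat.add 1500 (n - 1500) = n from by show 1500 + (n - 1500) = n; omega] at this
  have := allLo_spec ok2 (i := n - 3000) (by omega); rwa [show Nat.add 3000 (n - 3000) = n from by show 3000 + (n - 3000) = n; omega] at this

theorem fin_ok : TC.okFin cert numFacts = true := by decide +kernel

end Cfsg.Agent.Th.KTable
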