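import Cfsg.Agent.Lib.ThOut.Form

/-!
The centraliser of a on nine points: the action on words, compatible with the normal form.
-/

set_option autoImplicit false
set_option maxRecDepth 100000
set_option maxHeartbeats 1000000
set_option Elab.async false

namespace Cfsg.Agent.Th

open Cfsg.Agent.HN Cfsg.Agent.ThOut

noncomputable section

/-- The eleven letters on nine points. -/
def nine : PModel := ⟨9, 11, iv11, fun l => ([0x800070006000500040003000200010000, 0x800070006000500040003000200010000, 0x800070006000500040003000200010000, 0x400020001000000080003000700060005, 0x300000005000600040008000100020007, 0x800020007000300040000000100050006, 0x800060000000100040005000700020003, 0x800050002000100040003000000070006, 0x800010000000700040003000600050002, 0x800050000000700040003000200010006, 0x800050000000700040003000200010006] : List ℕ).getD l 0⟩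

theorem nine_ok : nine.ok = true := by decide +kernel

/-- The permutation of a letter. -/
def p9 (l : ℕ) : Equiv.Perm (Fin nine.n) := nine.sig nine_ok l

/-- Two words move the nine points equally. -/
def eq9 (u v : List ℕ) : Bool :=
  letOK 11 u && letOK 11 v && allLo (fun q => Nat.beq (nine.actW u q) (nine.actW v q)) 9

theorem eq9_eq {u v : List ℕ} (h : eq9 u v = true) : wv p9 u = wv p9 v := by
  simp only [eq9, Bool.and_eq_true] at h
  apply inv_injective
  refine Equiv.ext fun q => Fin.ext ?_
  rw [show p9 = nine.sig nine_ok from rfl, wv_sig_inv_apply nine_ok u (letOK_spec h.1.1),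
    wv_sig_inv_apply nine_ok v (letOK_spec h.1.2)]
  exact Nat.eq_of_beq_eq_true (allLo_spec h.2 q.2)

theorem p9_q : (Form.qgens.all fun g => eq9 g []) = true := by decide +kernel

/-- The check of one coset on nine points. -/
def p9OK (r : ℕ) : Bool := allLo (fun i =>
    eq9 (rW r ++ [kLet i]) (rW (pairAt (Form.rstep.get r) i).2)) 8

theorem p9_step0 : allLo (fun r => p9OK (Nat.add 0 r)) 189 = true := by decide +kernel

theorem p9_step1 : allLo (fun r => p9OK (Nat.add 189 r)) 189 = true := by decide +kernel

theorem p9_step2 : allLo (fun r => p9OK (Nat.add 378 r)) 189 = true := by decide +kernel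

theorem p9_step3 : allLo (fun r => p9OK (Nat.add 567 r)) 189 = true := by decide +kernel

theorem p9_step4 : allLo (fun r => p9OK (Nat.add 756 r)) 189 = true := by decide +kernel

theorem p9_step5 : allLo (fun r => p9OK (Nat.add 945 r)) 189 = true := by decide +kernel

theorem p9_step6 : allLo (fun r => p9OK (Nat.add 1134 r)) 189 = true := by decide +kernel

theorem p9_step7 : allLo (fun r => p9OK (Nat.add 1323 r)) 189 = true := by decide +kernel

theorem p9_step {r : ℕ} (hr : r < 1512) : p9OK r = true := by
  rcases Nat.lt_or_ge r 189 with h | h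
  · have := allLo_spec p9_step0 (i := r - 0) (by omega)
    rwa [show Nat.add 0 (r - 0) = r from by show 0 + (r - 0) = r; omega] at this
  rcases Nat.lt_or_ge r 378 with h | h
  · have := allLo_spec p9_step1 (i := r - 189) (by omega)
    rwa [show Nat.add 189 (r - 189) = r from by show 189 + (r - 189) = r; omega] at this
  rcases Nat.lt_or_ge r 567 with h | h
  · have := allLo_spec p9_step2 (i := r - 378) (by omega)
    rwa [show Nat.add 378 (r - 378) = r from by show 378 + (r - 378) = r; omega] at this
  rcases Nat.lt_or_ge r 756 with h | h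
  · have := allLo_spec p9_step3 (i := r - 567) (by omega)
    rwa [show Nat.add 567 (r - 567) = r from by show 567 + (r - 567) = r; omega] at this
  rcases Nat.lt_or_ge r 945 with h | h
  · have := allLo_spec p9_step4 (i := r - 756) (by omega)
    rwa [show Nat.add 756 (r - 756) = r from by show 756 + (r - 756) = r; omega] at this
  rcases Nat.lt_or_ge r 1134 with h | h
  · have := allLo_spec p9_step5 (i := r - 945) (by omega)
    rwa [show Nat.add 945 (r - 945) = r from by show 945 + (r - 945) = r; omega] at this
  rcases Nat.lt_or_ge r 1323 with h | h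
  · have := allLo_spec p9_step6 (i := r - 1134) (by omega)
    rwa [show Nat.add 1134 (r - 1134) = r from by show 1134 + (r - 1134) = r; omega] at this
  rcases Nat.lt_or_ge r 1512 with h | h
  · have := allLo_spec p9_step7 (i := r - 1323) (by omega)
    rwa [show Nat.add 1323 (r - 1323) = r from by show 1323 + (r - 1323) = r; omega] at this
  omega

/-- The check of one representative on nine points. -/
def p9Lab (j : ℕ) : Bool := allLo (fun l =>
    eq9 (tauW j ++ [from10 l]) (rW (pairAt (Form.lab.get j) l).2 ++ tauW (stepC j l).1)) 10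

theorem p9_lab0 : allLo (fun j => p9Lab (Nat.add 0 j)) 20 = true := by decide +kernel

theorem p9_lab1 : allLo (fun j => p9Lab (Nat.add 20 j)) 20 = true := by decide +kernel

theorem p9_lab2 : allLo (fun j => p9Lab (Nat.add 40 j)) 20 = true := by decide +kernel

theorem p9_lab3 : allLo (fun j => p9Lab (Nat.add 60 j)) 20 = true := by decide +kernel

theorem p9_lab4 : allLo (fun j => p9Lab (Nat.add 80 j)) 20 = true := by decide +kernel

theorem p9_lab5 : allLo (fun j => p9Lab (Nat.add 100 j)) 20 = true := by decide +kernel

theorem p9_lab {j : ℕ} (hj : j < 120) : p9Lab j = true := by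
  rcases Nat.lt_or_ge j 20 with h | h
  · have := allLo_spec p9_lab0 (i := j - 0) (by omega)
    rwa [show Nat.add 0 (j - 0) = j from by show 0 + (j - 0) = j; omega] at this
  rcases Nat.lt_or_ge j 40 with h | h
  · have := allLo_spec p9_lab1 (i := j - 20) (by omega)
    rwa [show Nat.add 20 (j - 20) = j from by show 20 + (j - 20) = j; omega] at this
  rcases Nat.lt_or_ge j 60 with h | h
  · have := allLo_spec p9_lab2 (i := j - 40) (by omega)
    rwa [show Nat.add 40 (j - 40) = j from by show 40 + (j - 40) = j; omega] at this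
  rcases Nat.lt_or_ge j 80 with h | h
  · have := allLo_spec p9_lab3 (i := j - 60) (by omega)
    rwa [show Nat.add 60 (j - 60) = j from by show 60 + (j - 60) = j; omega] at this
  rcases Nat.lt_or_ge j 100 with h | h
  · have := allLo_spec p9_lab4 (i := j - 80) (by omega)
    rwa [show Nat.add 80 (j - 80) = j from by show 80 + (j - 80) = j; omega] at this
  rcases Nat.lt_or_ge j 120 with h | h
  · have := allLo_spec p9_lab5 (i := j - 100) (by omega)
    rwa [show Nat.add 100 (j - 100) = j from by show 100 + (j - 100) = j; omega] at this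
  omega

theorem p9_qW {q : ℕ} (hq : q < 512) : wv p9 (qW q) = 1 := by
  have h := allLo_spec words_ok.1 hq
  simp only [Bool.and_eq_true, List.all_eq_true, Nat.blt_eq] at h
  have key : ∀ s : List ℕ, (∀ i ∈ s, i < 9) → wv p9 (s.flatMap fun i => Form.qgens.getD i []) = 1 := by
    intro s
    induction s with
    | nil => intro _; simp [wv_nil]
    | cons i s ih =>
      intro hs
      have hi : i < Form.qgens.length := by rw [qgens_ok.2]; exact hs i List.mem_cons_self
      rw [List.flatMap_cons, wv_append, ih fun x hx => hs x (List.mem_cons_of_mem _ hx),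
        List.getD_eq_getElem _ _ hi, eq9_eq (List.all_eq_true.1 p9_q _ (List.getElem_mem hi)), wv_nil, mul_one]
  exact key _ h.2

/-- An element of the common subgroup with its image on nine points. -/
def InK9 (x : Cfsg.Spor.Th) (p : Equiv.Perm (Fin nine.n)) : Prop :=
  ∃ q < 512, ∃ r < 1512, x = wv g11 (qW q ++ rW r) ∧ p = wv p9 (rW r)

theorem inK9_mul : ∀ (w : List ℕ) {x : Cfsg.Spor.Th} {p : Equiv.Perm (Fin nine.n)}, InK9 x p →
    kWord w = true → InK9 (x * wv g11 w) (p * wv p9 w) := by
  intro w
  induction w with
  | nil => intro x p h _; simpa [wv_nil] using h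
  | cons l w ih =>
    intro x p h hw
    obtain ⟨q, hq, r, hr, rfl, rfl⟩ := h
    simp only [kWord, List.all_cons, Bool.and_eq_true, Nat.blt_eq, Bool.not_eq_true'] at hw
    obtain ⟨⟨hl, hl1⟩, hw⟩ := hw
    obtain ⟨i, hi, rfl⟩ : ∃ i < 8, kLet i = l := by
      interval_cases l
      case «1» => simp at hl1
      exacts [⟨0, by norm_num, rfl⟩, ⟨1, by norm_num, rfl⟩, ⟨2, by norm_num, rfl⟩, ⟨3, by norm_num, rfl⟩,
        ⟨4, by norm_num, rfl⟩, ⟨5, by norm_num, rfl⟩, ⟨6, by norm_num, rfl⟩, ⟨7, by norm_num, rfl⟩]
    rw [wv_cons, wv_cons, ← mul_assoc, ← mul_assoc]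
    refine ih ?_ (by simpa [kWord] using hw)
    have hh := allLo_spec (rstep_ok hr) hi
    simp only [Bool.and_eq_true, Nat.blt_eq] at hh
    obtain ⟨⟨h1, h2⟩, h3⟩ := hh
    have hs := allLo_spec words_ok.1 h1
    simp only [Bool.and_eq_true, List.all_eq_true, Nat.blt_eq] at hs
    obtain ⟨q', hq', e⟩ := q_closed hq _ hs.2
    refine ⟨q', hq', _, h2, ?_, ?_⟩
    · have h3 := eqS_eq h3
      rw [wv_append, wv_singleton] at h3
      rw [wv_append, mul_assoc, h3, wv_append, wv_append, ← mul_assoc]
      congr 1
      rw [← e, wv_append]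
      rfl
    · rw [← wv_singleton p9 (kLet i), ← wv_append]
      exact eq9_eq (allLo_spec (p9_step hr) hi)

/-- **The normal form carries the action on nine points.** -/
theorem form9 : ∀ w : List ℕ, okSide true w = true → ∃ q < 512, ∃ r < 1512, ∃ j < 120,
    wv g11 w = wv g11 (qW q ++ rW r ++ tauW j) ∧ wv p9 w = wv p9 (rW r ++ tauW j) := by
  intro w
  induction w using List.reverseRecOn with
  | nil =>
    intro _
    refine ⟨0, by norm_num, 0, by norm_num, 0, by norm_num, ?_, ?_⟩
    · rw [words_ok.2.2.1, words_ok.2.2.2, wv_append, (wv_tauW (by norm_num : 0 < 120)).1, tauC_zero]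
      simp [wv_nil]
    · rw [words_ok.2.2.2]
      exact eq9_eq (by decide +kernel)
  | append_singleton w l ih =>
    intro h
    simp only [okSide, cond_true, List.all_append, List.all_cons, List.all_nil, Bool.and_true,
      Bool.and_eq_true, Nat.blt_eq, Bool.not_eq_true'] at h
    obtain ⟨hw, hl, hb⟩ := h
    obtain ⟨q, hq, r, hr, j, hj, e, e9⟩ := ih (by simpa [okSide] using hw)
    have hl10 : to10 l < 10 ∧ from10 (to10 l) = l := by
      interval_cases l <;> first | decide | simp at hb
    obtain ⟨hd, hs⟩ := stepC_spec hj hl10.1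
    have hh := allLo_spec (allLo_spec lab_ok hj) hl10.1
    simp only [Bool.and_eq_true, Nat.blt_eq] at hh
    obtain ⟨⟨h1, h2⟩, h3⟩ := hh
    have kq := allLo_spec words_ok.1 h1
    simp only [Bool.and_eq_true] at kq
    have kr := allLo_spec words_ok.2.1 h2
    have kk : kWord (qW (pairAt (Form.lab.get j) (to10 l)).1 ++ rW (pairAt (Form.lab.get j) (to10 l)).2) = true := by
      simp only [kWord, List.all_append, Bool.and_eq_true]
      exact ⟨kq.1, kr⟩
    obtain ⟨q', hq', r', hr', e', e9'⟩ := inK9_mul _ ⟨q, hq, r, hr, rfl, rfl⟩ kk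
    refine ⟨q', hq', r', hr', _, hd, ?_, ?_⟩
    · rw [wv_append g11 (qW q' ++ rW r'), ← e', (wv_tauW hd).1, wv_append, wv_singleton, e,
        wv_append g11 (qW q ++ rW r), (wv_tauW hj).1, mul_assoc, mul_assoc,
        show g11 l = g10 (to10 l) by rw [g10, hl10.2], hs, el_eq h3, psi_el (kWord_ok kk).2]
    · have h9 := eq9_eq (allLo_spec (p9_lab hj) hl10.1)
      rw [hl10.2, wv_append p9 (tauW j), wv_append p9 (rW _)] at h9
      rw [wv_append p9 w, e9, wv_append, mul_assoc, h9, wv_append p9 (rW r'), ← e9', wv_append p9 (qW _),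
        p9_qW h1, one_mul, mul_assoc]

end

end Cfsg.Agent.Th
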