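import Cfsg.Agent.Lib.Th.Nine

/-! A chain for the action on nine points. -/

set_option autoImplicit false
set_option maxRecDepth 100000
set_option Elab.async false

namespace Cfsg.Agent.Th

open Cfsg.Agent.HN

noncomputable section

/-- part of an orbit tree -/
def nine0tree0 : Trie :=
  (.node (.node (.node (.node (.leaf 0x0) (.leaf 0x700004)) (.node (.leaf 0x10000100006) (.leaf 0))) (.node (.node (.leaf 0x10000000007) (.leaf 0)) (.node (.leaf 0x200002) (.leaf 0)))) (.node (.node (.node (.leaf 0x5) (.leaf 0)) (.node (.leaf 0x20000100001) (.leaf 0))) (.node (.node (.leaf 0x20000000003) (.leaf 0)) (.node (.leaf 0x10000300008) (.leaf 0)))))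

/-- an orbit tree -/
def nine0tree : Trie :=
  nine0tree0

/-- a level -/
def nine0 : Level := ⟨0, [[3], [4], [6]], nine0tree, 9⟩

/-- part of an orbit tree -/
def nine1tree0 : Trie :=
  (.node (.node (.node (.leaf 0x1) (.leaf 0x30000000004)) (.node (.leaf 0x10000000005) (.leaf 0x20000100002))) (.node (.node (.leaf 0x7) (.leaf 0x100006)) (.node (.leaf 0x20000000008) (.leaf 0x200003))))

/-- an orbit tree -/
def nine1tree : Trie :=
  nine1tree0

/-- a level -/
def nine1 : Level := ⟨1, [[5, 8], [7, 9], [5, 5, 4], [3, 8, 6, 4, 3]], nine1tree, 8⟩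

/-- part of an orbit tree -/
def nine2tree0 : Trie :=
  (.node (.node (.node (.leaf 0x2) (.leaf 0x300005)) (.node (.leaf 0x100008) (.leaf 0x500007))) (.node (.node (.leaf 0x3) (.leaf 0x400006)) (.node (.leaf 0x200004) (.leaf 0))))

/-- an orbit tree -/
def nine2tree : Trie :=
  nine2tree0

/-- a level -/
def nine2 : Level := ⟨2, [[3, 4, 6]], nine2tree, 7⟩

/-- part of an orbit tree -/
def nine3tree0 : Trie :=
  (.node (.node (.node (.leaf 0x3) (.leaf 0x30000000007)) (.node (.leaf 0x10000000005) (.leaf 0))) (.node (.node (.leaf 0x8) (.leaf 0x10000100006)) (.node (.leaf 0x20000000004) (.leaf 0))))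

/-- an orbit tree -/
def nine3tree : Trie :=
  nine3tree0

/-- a level -/
def nine3 : Level := ⟨3, [[4, 5, 7, 9, 6], [8, 6, 4, 5, 9], [3, 4, 9, 3, 4, 9], [3, 7, 9, 3, 5, 4]], nine3tree, 6⟩

/-- part of an orbit tree -/
def nine4tree0 : Trie :=
  (.node (.node (.node (.leaf 0x4) (.leaf 0x300007)) (.node (.leaf 0x100005) (.leaf 0))) (.node (.node (.leaf 0x8) (.leaf 0)) (.node (.leaf 0x200006) (.leaf 0))))

/-- an orbit tree -/
def nine4tree : Trie :=
  nine4tree0

/-- a level -/
def nine4 : Level := ⟨4, [[4, 6, 4, 3, 7, 9]], nine4tree, 5⟩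

/-- part of an orbit tree -/
def nine5tree0 : Trie :=
  (.node (.node (.leaf 0x5) (.leaf 0x10000000006)) (.node (.leaf 0x7) (.leaf 0x200008)))

/-- an orbit tree -/
def nine5tree : Trie :=
  nine5tree0

/-- a level -/
def nine5 : Level := ⟨5, [[4, 3, 9, 3, 6, 6, 9, 5, 4], [3, 5, 8, 5, 9, 3, 5, 9, 5, 7]], nine5tree, 4⟩

/-- part of an orbit tree -/
def nine6tree0 : Trie :=
  (.node (.node (.leaf 0x6) (.leaf 0x100008)) (.node (.leaf 0x7) (.leaf 0)))

/-- an orbit tree -/
def nine6tree : Trie :=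
  nine6tree0

/-- a level -/
def nine6 : Level := ⟨6, [[4, 3, 5, 9, 3, 4, 5, 5, 9, 6]], nine6tree, 3⟩

/-- the chain -/
def nineChain : List Level := [nine0, nine1, nine2, nine3, nine4, nine5, nine6]

theorem nine_chain_ok : chainOK nine [] nineChain = true := by decide +kernel

theorem nine_chain_size : chainSize nineChain = 181440 := by decide +kernel

end

end Cfsg.Agent.Th
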