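import Cfsg.Agent.Lib.HN.Word

/-! Words derived from listed ones by rotation and inversion. -/

set_option autoImplicit false

namespace Cfsg.Agent.Th

open Cfsg.Agent.HN

/-- A word that is a rotation of one of the listed words or of the inverse of one. -/
def derivedFrom (iv : ℕ → ℕ) (base : List (List ℕ)) (r : List ℕ) : Bool :=
  base.any fun b => (List.range (b.length + 1)).any fun i =>
    sameW iv r (b.drop i ++ b.take i) || sameW iv r ((winv iv b).drop i ++ (winv iv b).take i)

theorem derivedFrom_spec {G : Type*} [Group G] {g : ℕ → G} {iv : ℕ → ℕ}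
    (hinv : ∀ l, g (iv l) = (g l)⁻¹) {base : List (List ℕ)} (hbase : ∀ b ∈ base, wv g b = 1)
    {r : List ℕ} (h : derivedFrom iv base r = true) : wv g r = 1 := by
  simp only [derivedFrom, List.any_eq_true, Bool.or_eq_true] at h
  obtain ⟨b, hb, i, -, h | h⟩ := h
  · rw [wv_of_sameW g hinv h, wv_drop_append_take g (hbase b hb)]
  · rw [wv_of_sameW g hinv h,
      wv_drop_append_take g (by rw [wv_winv g hinv, hbase b hb, inv_one])]

end Cfsg.Agent.Th
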