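import Mathlib.Init

/-! The relators of the group of a, b, c, d, e, s, t, on the letters a, b, c, d, e, s, s⁻¹, t, t⁻¹. -/

set_option autoImplicit false

namespace Cfsg.Agent.Th

noncomputable section

/-- the relators not involving t -/
def relD : List (List Nat) := [[0, 0], [1, 1], [2, 2], [3, 3], [4, 4], [0, 1, 0, 1, 0, 1], [0, 4, 0, 4], [1, 2, 1, 2, 1, 2], [1, 3, 1, 3], [1, 4, 1, 4], [0, 3, 2, 3, 2, 3, 2, 3, 2], [2, 4, 2, 4], [3, 4, 3, 4, 3, 4], [1, 2, 3, 4, 1, 2, 3, 4, 1, 2, 3, 4, 1, 2, 3, 4, 1, 2, 3, 4, 1, 2, 3, 4, 1, 2, 3, 4, 1, 2, 3, 4], [5, 5, 5, 5, 5, 5, 5], [6, 0, 5, 0], [6, 1, 5, 1], [6, 2, 5, 2], [5, 3, 5, 3], [4, 6, 4, 5, 6, 6, 6, 4, 5, 5, 5]]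

/-- the relators involving t -/
def relT : List (List Nat) := [[7, 7, 7], [8, 0, 7, 0], [8, 1, 7, 1], [8, 2, 7, 2], [8, 3, 7, 3], [8, 4, 7, 4], [8, 5, 7, 6, 6]]

end

end Cfsg.Agent.Th
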