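import Cfsg.Agent.Lib.HN.Perm
import Cfsg.Agent.Lib.Th.PermData
import Cfsg.Agent.Lib.Th.Words
import Cfsg.Agent.Lib.Th.Rotate
import Mathlib.Algebra.GroupWithZero.Units.Fintype
import Cfsg.Agent.Lib.Th.DihedralCheck
import Cfsg.Agent.Lib.Th.LTableCheck
import Cfsg.Agent.Lib.Th.KTableCheck
import Cfsg.Agent.Lib.Th.DTableCheck
import Mathlib.GroupTheory.PresentedGroup
import Mathlib.GroupTheory.Transfer
import Mathlib.Tactic.IntervalCases
import Mathlib.Tactic.FinCases

/-!
The group presented by `a, b, c, d, e, s` has order at most 211341312: the table over the group of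
`a, c, d, e, s` gives twice that, and a transfer to a sign character of that group removes the factor.
-/

set_option autoImplicit false
set_option maxRecDepth 100000
set_option Elab.async false

namespace Cfsg.Agent.Th

open Cfsg.Agent.HN

noncomputable section

/-- The inverse of a letter among `a, b, c, d, e, s, s⁻¹`. -/
def iv7 (l : ℕ) : ℕ := ([0, 1, 2, 3, 4, 6, 5] : List ℕ).getD l l

/-- The letters in a free group on six generators. -/
def fgD (l : ℕ) : FreeGroup (Fin 6) :=
  [FreeGroup.of 0, FreeGroup.of 1, FreeGroup.of 2, FreeGroup.of 3, FreeGroup.of 4, FreeGroup.of 5,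
    (FreeGroup.of 5)⁻¹].getD l 1

/-- The relators as elements of the free group. -/
def relSetD : Set (FreeGroup (Fin 6)) := {r | ∃ w ∈ relD, r = wv fgD w}

/-- The group presented by `a, b, c, d, e, s`. -/
abbrev Dp : Type := PresentedGroup relSetD

/-- Its letters. -/
def gD (l : ℕ) : Dp := PresentedGroup.mk relSetD (fgD l)

theorem relD_one {w : List ℕ} (h : w ∈ relD) : wv gD w = 1 := by
  show wv (fun l => PresentedGroup.mk relSetD (fgD l)) w = 1
  rw [← map_wv]
  exact PresentedGroup.one_of_mem ⟨w, h, rfl⟩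

theorem gD_inv (l : ℕ) : gD (iv7 l) = (gD l)⁻¹ := by
  have hsq : ∀ i < 5, gD i = (gD i)⁻¹ := fun i hi => by
    have hm : [i, i] ∈ relD := by interval_cases i <;> decide +kernel
    have h := relD_one hm
    simp only [wv, mul_one] at h
    exact eq_inv_of_mul_eq_one_left h
  match l with
  | 0 => exact hsq 0 (by norm_num)
  | 1 => exact hsq 1 (by norm_num)
  | 2 => exact hsq 2 (by norm_num)
  | 3 => exact hsq 3 (by norm_num)
  | 4 => exact hsq 4 (by norm_num)
  | 5 => simp [gD, iv7, fgD]
  | 6 => simp [gD, iv7, fgD]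
  | _ + 7 => simp [gD, iv7, fgD]

theorem closure_gD : Subgroup.closure (gD '' {l | l < 7}) = ⊤ := by
  rw [eq_top_iff, ← PresentedGroup.closure_range_of relSetD, Subgroup.closure_le]
  rintro _ ⟨i, rfl⟩
  refine Subgroup.subset_closure ⟨i.1, Nat.lt_succ_of_lt i.2, ?_⟩
  fin_cases i <;> rfl

/-- Rename a letter among `a, c, d, e, s, s⁻¹` to the seven letters. -/
def fromK (l : ℕ) : ℕ := ([0, 2, 3, 4, 5, 6] : List ℕ).getD l 7

/-- The inverse of a letter among `a, c, d, e, s, s⁻¹`. -/
def iv6 (l : ℕ) : ℕ := ([0, 1, 2, 3, 5, 4] : List ℕ).getD l l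

/-- The relators without `b`. -/
def relK : List (List ℕ) :=
  (relD.filter fun w => w.all fun l => !(Nat.beq l 1)).map fun w => w.map fun l =>
    bif Nat.ble l 1 then l else l - 1

/-- The letters in a free group on five generators. -/
def fgK (l : ℕ) : FreeGroup (Fin 5) :=
  [FreeGroup.of 0, FreeGroup.of 1, FreeGroup.of 2, FreeGroup.of 3, FreeGroup.of 4,
    (FreeGroup.of 4)⁻¹].getD l 1

/-- The relators as elements of the free group. -/
def relSetK : Set (FreeGroup (Fin 5)) := {r | ∃ w ∈ relK, r = wv fgK w}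

/-- The group presented by `a, c, d, e, s`. -/
abbrev Kp : Type := PresentedGroup relSetK

/-- Its letters. -/
def gK (l : ℕ) : Kp := PresentedGroup.mk relSetK (fgK l)

theorem relK_one {w : List ℕ} (h : w ∈ relK) : wv gK w = 1 := by
  show wv (fun l => PresentedGroup.mk relSetK (fgK l)) w = 1
  rw [← map_wv]
  exact PresentedGroup.one_of_mem ⟨w, h, rfl⟩

theorem gK_inv (l : ℕ) : gK (iv6 l) = (gK l)⁻¹ := by
  have hsq : ∀ i < 4, gK i = (gK i)⁻¹ := fun i hi => by
    have hm : [i, i] ∈ relK := by interval_cases i <;> decide +kernel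
    have h := relK_one hm
    simp only [wv, mul_one] at h
    exact eq_inv_of_mul_eq_one_left h
  match l with
  | 0 => exact hsq 0 (by norm_num)
  | 1 => exact hsq 1 (by norm_num)
  | 2 => exact hsq 2 (by norm_num)
  | 3 => exact hsq 3 (by norm_num)
  | 4 => simp [gK, iv6, fgK]
  | 5 => simp [gK, iv6, fgK]
  | _ + 6 => simp [gK, iv6, fgK]

theorem closure_gK : Subgroup.closure (gK '' {l | l < 6}) = ⊤ := by
  rw [eq_top_iff, ← PresentedGroup.closure_range_of relSetK, Subgroup.closure_le]
  rintro _ ⟨i, rfl⟩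
  refine Subgroup.subset_closure ⟨i.1, Nat.lt_succ_of_lt i.2, ?_⟩
  fin_cases i <;> rfl

/-- The letters `d, e, s, s⁻¹`. -/
def gL (l : ℕ) : Kp := gK (Nat.add 2 l)

/-- The letters `d, s, s⁻¹`. -/
def gS (l : ℕ) : Kp := gK (([2, 4, 5] : List ℕ).getD l 6)

theorem gK_high (l : ℕ) : gK (l + 6) = 1 := by simp [gK, fgK]

theorem dihedral_rules : TC.Rules Dihedral.cert gS ⊥ where
  inv l := by
    match l with
    | 0 => exact gK_inv 2
    | 1 => exact gK_inv 4
    | 2 => exact gK_inv 5
    | _ + 3 => simp [gS, Dihedral.cert, Dihedral.ivl, gK, fgK]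
  rel r hr := by
    have hc : (Dihedral.cert.rels.all fun r =>
        eqW r [] || derivedFrom iv6 relK (r.map fun l => ([2, 4, 5] : List ℕ).getD l 6)) = true := by
      decide +kernel
    rcases Bool.or_eq_true_iff.1 (List.all_eq_true.1 hc r hr) with h | h
    · rw [eq_of_eqW h, wv_nil]
    · rw [show wv gS r = wv gK (r.map fun l => ([2, 4, 5] : List ℕ).getD l 6) from ?_]
      · exact derivedFrom_spec gK_inv (fun b hb => relK_one hb) h
      · clear hr hc h
        induction r with
        | nil => rfl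
        | cons l r ih => rw [List.map_cons, wv_cons, wv_cons, ih]; rfl
  sub s hs := by simp [Dihedral.cert] at hs

theorem wv_gL (r : List ℕ) : wv gL r = wv gK (r.map (Nat.add 2)) := by
  induction r with
  | nil => rfl
  | cons l r ih => rw [List.map_cons, wv_cons, wv_cons, ih]; rfl

theorem ltable_rules : TC.Rules LTable.cert gL (Subgroup.closure (gS '' {l | l < Dihedral.cert.k})) where
  inv l := by
    match l with
    | 0 => exact gK_inv 2
    | 1 => exact gK_inv 3
    | 2 => exact gK_inv 4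
    | 3 => exact gK_inv 5
    | l + 4 =>
      have h1 : gL (l + 4) = 1 := by
        show gK (Nat.add 2 (l + 4)) = 1
        rw [show Nat.add 2 (l + 4) = l + 6 from by show 2 + (l + 4) = l + 6; omega, gK_high]
      simp [LTable.cert, LTable.ivl, h1]
  rel r hr := by
    have hc : (LTable.cert.rels.all fun r => derivedFrom iv6 relK (r.map (Nat.add 2))) = true := by
      decide +kernel
    rw [wv_gL]
    exact derivedFrom_spec gK_inv (fun b hb => relK_one hb) (List.all_eq_true.1 hc r hr)
  sub s hs := by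
    simp only [LTable.cert, List.mem_cons, List.not_mem_nil, or_false] at hs
    rcases hs with rfl | rfl <;> rw [wv_singleton]
    · exact Subgroup.subset_closure ⟨1, (by decide +kernel : 1 < Dihedral.cert.k), rfl⟩
    · exact Subgroup.subset_closure ⟨0, (by decide +kernel : 0 < Dihedral.cert.k), rfl⟩

theorem ktable_rules : TC.Rules KTable.cert gK (Subgroup.closure (gL '' {l | l < LTable.cert.k})) where
  inv l := by
    match l with
    | 0 => exact gK_inv 0
    | 1 => exact gK_inv 1
    | 2 => exact gK_inv 2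
    | 3 => exact gK_inv 3
    | 4 => exact gK_inv 4
    | 5 => exact gK_inv 5
    | _ + 6 => simp [KTable.cert, KTable.ivl, gK, fgK]
  rel r hr := by
    have hc : (KTable.cert.rels.all fun r => derivedFrom iv6 relK r) = true := by decide +kernel
    exact derivedFrom_spec gK_inv (fun b hb => relK_one hb) (List.all_eq_true.1 hc r hr)
  sub s hs := by
    simp only [KTable.cert, List.mem_cons, List.not_mem_nil, or_false] at hs
    rcases hs with rfl | rfl | rfl <;> rw [wv_singleton]
    · exact Subgroup.subset_closure ⟨0, (by decide +kernel : 0 < LTable.cert.k), rfl⟩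
    · exact Subgroup.subset_closure ⟨1, (by decide +kernel : 1 < LTable.cert.k), rfl⟩
    · exact Subgroup.subset_closure ⟨2, (by decide +kernel : 2 < LTable.cert.k), rfl⟩

theorem card_Kp_le : Finite Kp ∧ Nat.card Kp ≤ 516096 := by
  obtain ⟨f14, c14⟩ := TC.card_le dihedral_rules (TC.all_good dihedral_rules Dihedral.ok_all)
    Dihedral.fin_ok (m := 1) (by simp)
  obtain ⟨fL, cL⟩ := TC.card_le ltable_rules (TC.all_good ltable_rules LTable.ok_all) LTable.fin_ok
    (m := 14) (c14.trans_eq (by decide +kernel))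
  obtain ⟨fK, cK⟩ := TC.card_le ktable_rules (TC.all_good ktable_rules KTable.ok_all) KTable.fin_ok
    (m := 504) (cL.trans_eq (by decide +kernel))
  have htop : Subgroup.closure (gK '' {l | l < KTable.cert.k}) = ⊤ := closure_gK
  rw [htop, Subgroup.card_top] at cK
  rw [htop] at fK
  exact ⟨Finite.of_equiv _ Subgroup.topEquiv.toEquiv, cK.trans_eq (by decide +kernel)⟩

/-- The images of `a, c, d, e, s` among the six. -/
def kImg : Fin 5 → Dp := ![gD 0, gD 2, gD 3, gD 4, gD 5]

theorem kImg_lift (w : List ℕ) : FreeGroup.lift kImg (wv fgK w) = wv gD (w.map fromK) := by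
  induction w with
  | nil => exact map_one _
  | cons l w ih =>
    rw [wv_cons, map_mul, ih]
    show _ = gD (fromK l) * wv gD (w.map fromK)
    congr 1
    match l with
    | 0 => simp [fgK, kImg, fromK]
    | 1 => simp [fgK, kImg, fromK]
    | 2 => simp [fgK, kImg, fromK]
    | 3 => simp [fgK, kImg, fromK]
    | 4 => simp [fgK, kImg, fromK]
    | 5 => simp [fgK, kImg, fromK]; simp [gD, fgD]
    | _ + 6 => simp [fgK, fromK, gD, fgD]

/-- The map from the group of `a, c, d, e, s`. -/
def kHom : Kp →* Dp :=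
  PresentedGroup.toGroup (f := kImg) (by
    rintro r ⟨w, hw, rfl⟩
    rw [kImg_lift]
    refine relD_one ?_
    have hc : (relK.all fun w => relD.any fun v => eqW (w.map fromK) v) = true := by decide +kernel
    obtain ⟨v, hv, e⟩ := List.any_eq_true.1 (List.all_eq_true.1 hc w hw)
    rwa [eq_of_eqW e])

theorem kHom_gK (w : List ℕ) : kHom (wv gK w) = wv gD (w.map fromK) := by
  rw [show wv gK w = PresentedGroup.mk relSetK (wv fgK w) from (map_wv _ _ _).symm, ← kImg_lift]
  rfl

/-- The sign of `c`. -/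
def chiGen : Fin 5 → ℤˣ := ![1, -1, 1, 1, 1]

/-- The sign of a letter. -/
def chiLet (l : ℕ) : ℤˣ := ([1, -1, 1, 1, 1, 1] : List ℤˣ).getD l 1

theorem chi_lift (w : List ℕ) : FreeGroup.lift chiGen (wv fgK w) = wv chiLet w := by
  induction w with
  | nil => exact map_one _
  | cons l w ih =>
    rw [wv_cons, map_mul, ih, wv_cons]
    congr 1
    match l with
    | 0 | 1 | 2 | 3 | 4 | 5 => simp [fgK, chiGen, chiLet]
    | _ + 6 => simp [fgK, chiLet]

/-- The sign character. -/
def chi : Kp →* ℤˣ :=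
  PresentedGroup.toGroup (f := chiGen) (by
    rintro r ⟨w, hw, rfl⟩
    rw [chi_lift]
    have hc : ∀ w ∈ relK, wv chiLet w = 1 := by decide +kernel
    exact hc w hw)

theorem pts_ok : pts.ok = true := by decide +kernel

theorem pts_relD : pts.fixAll relD = true := by decide +kernel

theorem pts_sig_inv (l : ℕ) : pts.sig pts_ok (iv9 l) = (pts.sig pts_ok l)⁻¹ := by
  rcases Nat.lt_or_ge l 9 with h | h
  · exact sig_inv pts_ok h
  · have : iv9 l = l := by
      obtain ⟨m, rfl⟩ : ∃ m, l = m + 9 := ⟨l - 9, by omega⟩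
      simp [iv9]
    rw [this, PModel.sig, dif_neg (by simp [pts]; omega), inv_one]

/-- The images of `a, b, c, d, e, s` on 819 points. -/
def ptGen : Fin 6 → Equiv.Perm (Fin pts.n) :=
  ![pts.sig pts_ok 0, pts.sig pts_ok 1, pts.sig pts_ok 2, pts.sig pts_ok 3, pts.sig pts_ok 4,
    pts.sig pts_ok 5]

theorem pt_lift {w : List ℕ} (hw : ∀ l ∈ w, l < 7) :
    FreeGroup.lift ptGen (wv fgD w) = wv (pts.sig pts_ok) w := by
  rw [map_wv]
  refine wv_congr _ fun l hl => ?_
  have := hw l hl
  interval_cases l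
  case «6» => simp [fgD, ptGen]; exact (pts_sig_inv 5).symm
  all_goals simp [fgD, ptGen]

/-- The action on 819 points. -/
def repD : Dp →* Equiv.Perm (Fin pts.n) :=
  PresentedGroup.toGroup (f := ptGen) (by
    rintro r ⟨w, hw, rfl⟩
    have hc : (relD.all fun w => letOK 7 w) = true := by decide +kernel
    rw [pt_lift (letOK_spec (List.all_eq_true.1 hc w hw))]
    exact wv_sig_eq_one pts_ok pts_relD hw)

theorem repD_wv {w : List ℕ} (hw : ∀ l ∈ w, l < 7) : repD (wv gD w) = wv (pts.sig pts_ok) w := by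
  rw [show wv gD w = PresentedGroup.mk relSetD (wv fgD w) from (map_wv _ _ _).symm, ← pt_lift hw]
  rfl

/-- A word in the kernel with negative sign. -/
def kerWord : List ℕ := [1, 2, 1, 3, 2, 1, 4, 2, 3, 4, 2, 1, 3, 2, 1, 4, 3, 2, 5, 3, 1, 2, 5, 3, 5, 1, 2, 3, 1, 2, 1, 5, 3, 2, 5, 3, 5, 3]

theorem kerWord_spec : wv chiLet kerWord = -1 ∧ letOK 7 (kerWord.map fromK) = true ∧
    pts.fixAll [kerWord.map fromK] = true := by decide +kernel

theorem dtable_rules : TC.Rules DTable.cert gD kHom.range where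
  inv l := by
    rw [← gD_inv]
    congr 1
  rel r hr := by
    have hc : (DTable.cert.rels.all fun r => derivedFrom iv7 relD r) = true := by decide +kernel
    exact derivedFrom_spec gD_inv (fun b hb => relD_one hb) (List.all_eq_true.1 hc r hr)
  sub s hs := by
    simp only [DTable.cert, List.mem_cons, List.not_mem_nil, or_false] at hs
    rcases hs with rfl | rfl | rfl | rfl | rfl
    exacts [⟨wv gK [0], kHom_gK _⟩, ⟨wv gK [1], kHom_gK _⟩, ⟨wv gK [2], kHom_gK _⟩,
      ⟨wv gK [3], kHom_gK _⟩, ⟨wv gK [4], kHom_gK _⟩]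

theorem card_Dp_le' : Finite Dp ∧ Nat.card Dp ≤ 819 * Nat.card kHom.range := by
  obtain ⟨fK, -⟩ := card_Kp_le
  have : Finite kHom.range := Finite.of_surjective _ kHom.rangeRestrict_surjective
  obtain ⟨f, c⟩ := TC.card_le dtable_rules (TC.all_good dtable_rules DTable.ok_all) DTable.fin_ok
    (m := Nat.card kHom.range) le_rfl
  have htop : Subgroup.closure (gD '' {l | l < DTable.cert.k}) = ⊤ := closure_gD
  rw [htop, Subgroup.card_top] at c
  rw [htop] at f
  exact ⟨Finite.of_equiv _ Subgroup.topEquiv.toEquiv, c.trans_eq (congrArg (· * _) (by decide +kernel))⟩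

-- A character of the group of a, b, c, d, e, s into the units of ℤ is trivial.
set_option synthInstance.maxSize 4000 in
set_option synthInstance.maxHeartbeats 400000 in
theorem character_trivial (V : Dp →* ℤˣ) : V = 1 := by
  refine PresentedGroup.ext fun i => ?_
  let f : ℕ → ℤˣ := fun l => V (gD l)
  have h : ∀ w ∈ relD, wv f w = 1 := fun w hw => by
    show wv (fun l => V (gD l)) w = 1
    rw [← map_wv, relD_one hw, map_one]
  have h6 : f 6 = f 5 := by
    show V (gD 6) = V (gD 5)
    rw [show gD 6 = (gD 5)⁻¹ from gD_inv 5, map_inv, Int.units_inv_eq_self]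
  have key : ∀ v₀ v₁ v₂ v₃ v₄ v₅ : ℤˣ,
      (∀ w ∈ relD, wv (fun l => [v₀, v₁, v₂, v₃, v₄, v₅, v₅].getD l 1) w = 1) →
        v₀ = 1 ∧ v₁ = 1 ∧ v₂ = 1 ∧ v₃ = 1 ∧ v₄ = 1 ∧ v₅ = 1 := by decide +kernel
  obtain ⟨e0, e1, e2, e3, e4, e5⟩ := key (f 0) (f 1) (f 2) (f 3) (f 4) (f 5) fun w hw => by
    rw [← h w hw]
    refine wv_congr _ fun l hl => ?_
    have hc : (relD.all fun w => letOK 7 w) = true := by decide +kernel
    have := letOK_spec (List.all_eq_true.1 hc w hw) l hl
    interval_cases l
    case «6» => simpa using h6.symm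
    all_goals rfl
  fin_cases i
  exacts [e0, e1, e2, e3, e4, e5]

theorem card_Dp_le_of (hlow : 211341312 ≤ Nat.card repD.range) :
    Finite Dp ∧ Nat.card Dp ≤ 211341312 := by
  obtain ⟨fK, hK⟩ := card_Kp_le
  obtain ⟨fD, hD⟩ := card_Dp_le'
  refine ⟨fD, ?_⟩
  have hrk : Nat.card kHom.range * Nat.card kHom.ker = Nat.card Kp := by
    rw [Subgroup.card_eq_card_quotient_mul_card_subgroup kHom.ker,
      Nat.card_congr (QuotientGroup.quotientKerEquivRange kHom).toEquiv]
  by_contra hbig
  push Not at hbig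
  have hinj : Function.Injective kHom := by
    rw [← MonoidHom.ker_eq_bot_iff]
    by_contra hne
    have : 2 ≤ Nat.card kHom.ker := (Subgroup.one_lt_card_iff_ne_bot _).2 hne
    have := Nat.mul_le_mul_left (Nat.card kHom.range) this
    omega
  have hkr : Nat.card kHom.range ≤ 516096 := by
    have := Nat.card_le_card_of_surjective _ kHom.rangeRestrict_surjective
    omega
  have hker : Nat.card repD.range * Nat.card repD.ker = Nat.card Dp := by
    rw [Subgroup.card_eq_card_quotient_mul_card_subgroup repD.ker,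
      Nat.card_congr (QuotientGroup.quotientKerEquivRange repD).toEquiv]
  obtain ⟨z₀, hz0, hz⟩ : ∃ z₀, chi z₀ = -1 ∧ kHom z₀ ∈ repD.ker := by
    obtain ⟨h1, h2, h3⟩ := kerWord_spec
    refine ⟨wv gK kerWord, ?_, ?_⟩
    · rw [show wv gK kerWord = PresentedGroup.mk relSetK (wv fgK kerWord) from (map_wv _ _ _).symm]
      exact (chi_lift _).trans h1
    · rw [MonoidHom.mem_ker, kHom_gK, repD_wv (letOK_spec h2)]
      exact wv_sig_eq_one pts_ok h3 List.mem_cons_self
  have hz1 : kHom z₀ ≠ 1 := fun e => by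
    rw [← map_one kHom] at e
    rw [hinj e, map_one] at hz0
    exact absurd hz0 (by decide)
  have hk2 : 2 ≤ Nat.card repD.ker :=
    Finite.one_lt_card_iff_nontrivial.2 ⟨⟨1, one_mem _⟩, ⟨_, hz⟩, fun e => hz1 (Subtype.ext_iff.1 e).symm⟩
  have hk2' : Nat.card repD.ker = 2 := by
    have h1 := Nat.mul_le_mul_right (Nat.card repD.ker) hlow
    omega
  have hcD : Nat.card Dp = 422682624 ∧ Nat.card kHom.range = 516096 := by
    rw [hk2'] at hker
    omega
  have hcentral : ∀ g : Dp, g * kHom z₀ * g⁻¹ = kHom z₀ := by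
    intro g
    have hm : g * kHom z₀ * g⁻¹ ∈ repD.ker := repD.normal_ker.conj_mem _ hz g
    obtain ⟨x, y, hxy, huniv⟩ := Nat.card_eq_two_iff.1 hk2'
    have m : ∀ b : repD.ker, b = x ∨ b = y := fun b => by
      have : b ∈ ({x, y} : Set repD.ker) := huniv ▸ Set.mem_univ b
      simpa using this
    rcases m ⟨_, hm⟩ with h1 | h1 <;> rcases m ⟨1, one_mem _⟩ with h2 | h2 <;>
      rcases m ⟨_, hz⟩ with h3 | h3
    all_goals first
      | exact Subtype.ext_iff.1 (h1.trans h3.symm)
      | exact absurd (Subtype.ext_iff.1 (h3.trans h2.symm)) hz1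
      | exact absurd (conj_eq_one_iff.1 (Subtype.ext_iff.1 (h1.trans h2.symm))) hz1
  have hidx : kHom.range.index = 819 := by
    have := kHom.range.card_mul_index
    rw [hcD.1, hcD.2] at this
    omega
  haveI : kHom.range.FiniteIndex := ⟨by rw [hidx]; norm_num⟩
  let χ' : kHom.range →* ℤˣ := chi.comp (MonoidHom.ofInjective hinj).symm.toMonoidHom
  have hkey : ∀ (k : ℕ) (g₀ : Dp), g₀⁻¹ * kHom z₀ ^ k * g₀ ∈ kHom.range →
      g₀⁻¹ * kHom z₀ ^ k * g₀ = kHom z₀ ^ k := fun k g₀ _ => by
    have h := hcentral g₀⁻¹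
    rw [inv_inv] at h
    calc g₀⁻¹ * kHom z₀ ^ k * g₀ = (g₀⁻¹ * kHom z₀ * g₀⁻¹⁻¹) ^ k := by rw [conj_pow, inv_inv]
      _ = _ := by rw [inv_inv, h]
  have e := MonoidHom.transfer_eq_pow χ' (kHom z₀) hkey
  rw [character_trivial (MonoidHom.transfer χ'), MonoidHom.one_apply] at e
  have e2 : (MonoidHom.ofInjective hinj).symm ⟨kHom z₀ ^ kHom.range.index, pow_mem (MonoidHom.mem_range.2 ⟨z₀, rfl⟩) _⟩ =
      z₀ ^ kHom.range.index := by
    rw [MulEquiv.symm_apply_eq]
    exact Subtype.ext (map_pow kHom z₀ _).symm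
  have e3 : (1 : ℤˣ) = chi ((MonoidHom.ofInjective hinj).symm
      ⟨kHom z₀ ^ kHom.range.index, pow_mem (MonoidHom.mem_range.2 ⟨z₀, rfl⟩) _⟩) := e
  rw [e2, map_pow, hz0, hidx, Odd.neg_one_pow (by decide : Odd 819)] at e3
  exact absurd e3 (by decide)

end

end Cfsg.Agent.Th
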