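import Cfsg.Agent.Lib.Th.Graph.RepsCheckH
import Cfsg.Agent.Lib.Th.KOrbits
import Mathlib.GroupTheory.GroupAction.Blocks

/-!
The group of `a, b, c, d, e, s, t` on 819 points: every nontrivial normal subgroup contains `a, b, c, d, e, s`.
-/

set_option autoImplicit false
set_option maxRecDepth 100000
set_option Elab.async false
set_option maxHeartbeats 1000000

namespace Cfsg.Agent.Th

open Cfsg.Agent.HN

noncomputable section

/-- The representative moving the first point to point `q`. -/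
def om (q : ℕ) : List ℕ := Graph.repsH.word q

theorem repsH_size : Graph.repsH.size = 819 := by decide +kernel

theorem om_pts : allLo (fun q => letOK 9 (om q) && Nat.beq (pts.actW (om q) q) 0) 819 = true := by
  decide +kernel

/-- The first point. -/
def p0 : Fin pts.n := ⟨0, by decide +kernel⟩

theorem om_zero : om 0 = [] := by
  have h := Graph.repsH_ok
  simp only [Reps.ok, Bool.and_eq_true] at h
  exact eq_of_eqW h.1.2

theorem om_ok {q : ℕ} (hq : q < 819) : (∀ l ∈ om q, l < 9) ∧ pts.actW (om q) q = 0 := by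
  have h := allLo_spec om_pts hq
  simp only [Bool.and_eq_true, Nat.beq_eq] at h
  exact ⟨letOK_spec h.1, h.2⟩

theorem rep_om {q : Fin pts.n} : rep (el (om q.1)) p0 = q := by
  obtain ⟨h1, h2⟩ := om_ok (q := q.1) q.2
  rw [el, rep_wv]
  have h : (wv (pts.sig pts_ok) (om q.1))⁻¹ q = p0 := Fin.ext (by rw [wv_sig_inv_apply pts_ok _ h1, h2]; rfl)
  rw [← h]
  exact Equiv.apply_symm_apply _ q

theorem k_fix : ([0, 2, 3, 4, 5, 6, 7, 8] : List ℕ).all (fun l => Nat.beq (pts.actW [l] 0) 0 &&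
    eqH [l, 0] [0, l]) = true := by decide +kernel

theorem okK_fix {κ : List ℕ} (h : okK κ = true) :
    rep (el κ) p0 = p0 ∧ el κ * el [0] = el [0] * el κ := by
  induction κ with
  | nil => simp [el_nil]
  | cons l κ ih =>
    simp only [okK, List.all_cons, Bool.and_eq_true, Nat.blt_eq, Bool.not_eq_true'] at h
    obtain ⟨⟨hl, hb⟩, hκ⟩ := h
    have hl' : l ∈ ([0, 2, 3, 4, 5, 6, 7, 8] : List ℕ) := by
      interval_cases l <;> simp_all
    have h' := List.all_eq_true.1 k_fix l hl'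
    simp only [Bool.and_eq_true, Nat.beq_eq] at h'
    obtain ⟨i1, i2⟩ := ih (by simpa [okK] using hκ)
    have hc := el_eq h'.2
    have hf : rep (el [l]) p0 = p0 := by
      rw [el, rep_wv]
      exact fix_of_check (by simpa [letOK, Nat.blt_eq, pts] using hl) h'.1
    rw [← List.singleton_append, el_append]
    refine ⟨by rw [map_mul, Equiv.Perm.mul_apply, i1, hf], ?_⟩
    rw [mul_assoc, i2, ← mul_assoc, ← el_append, List.singleton_append, hc, ← List.singleton_append,
      el_append, mul_assoc]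

theorem factorH : ∀ w : List ℕ, (∀ l ∈ w, l < 9) →
    ∃ q < 819, ∃ κ, okK κ = true ∧ el w = el (om q) * el κ := by
  have h2 := Graph.repsH_ok
  simp only [Reps.ok, Bool.and_eq_true] at h2
  have h2 := h2.2
  intro w
  induction w with
  | nil => exact fun _ => ⟨0, by norm_num, [], rfl, by rw [om_zero, el_nil, one_mul]⟩
  | cons l w ih =>
    intro hw
    have hl : l < 9 := hw l List.mem_cons_self
    obtain ⟨q, hq, κ, hκ, e⟩ := ih fun x hx => hw x (List.mem_cons_of_mem _ hx)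
    have := allLo_spec h2 (i := q) (by rw [repsH_size]; exact hq)
    simp only [Bool.and_eq_true] at this
    have := allLo_spec this.2 (i := l) (by omega)
    have hs : okSide false [l] = true := by simpa [okSide, letOK, Nat.blt_eq] using hl
    simp only [hs, Bool.not_true, Bool.false_or, Bool.and_eq_true, Nat.blt_eq, repsH_size, eqS,
      cond_false] at this
    obtain ⟨⟨h3, h4⟩, -, h5⟩ := this
    refine ⟨_, h3, _, okK_append h4 hκ, ?_⟩
    have h6 := el_eq h5
    rw [el_append, ← List.singleton_append, el_append] at h6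
    rw [← List.singleton_append, el_append, e, el_append, ← mul_assoc]
    show el [l] * el (Graph.repsH.word q) * el κ = _
    rw [h6, mul_assoc]
    rfl

theorem exists_factor (h : H0) :
    ∃ q : Fin pts.n, ∃ κ, okK κ = true ∧ h = el (om q.1) * el κ ∧ rep h p0 = q := by
  obtain ⟨w, hw, rfl⟩ := exists_word h
  obtain ⟨q, hq, κ, hκ, e⟩ := factorH w hw
  have hq' : q < pts.n := hq
  refine ⟨⟨q, hq'⟩, κ, hκ, e, ?_⟩
  have h1 : rep (el (om q) * el κ) p0 = ⟨q, hq'⟩ := by
    rw [map_mul, Equiv.Perm.mul_apply, (okK_fix hκ).1]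
    exact rep_om (q := ⟨q, hq'⟩)
  rw [← e] at h1
  exact h1

theorem stab_word {h : H0} (hh : rep h p0 = p0) : ∃ κ, okK κ = true ∧ h = el κ := by
  obtain ⟨q, κ, hκ, e, he⟩ := exists_factor h
  rw [hh] at he
  subst he
  exact ⟨κ, hκ, by rw [e, show (p0 : Fin pts.n).1 = 0 from rfl, om_zero, el_nil, one_mul]⟩

/-- A word in `a, c, d, e, s`. -/
def okD (w : List ℕ) : Bool := w.all fun l => Nat.blt l 7 && !(Nat.beq l 1)

theorem okD_okK {w : List ℕ} (h : okD w = true) : okK w = true := by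
  simp only [okD, okK, List.all_eq_true, Bool.and_eq_true, Nat.blt_eq] at h ⊢
  exact fun l hl => ⟨(h l hl).1.trans (by norm_num), (h l hl).2⟩

/-- Check entry `q` of the forests. -/
def kOrbEnt (q : ℕ) : Bool :=
  let v := kOrb.get q
  bif Nat.beq (fld v 2) 0 then Nat.beq (fld v 3) q
  else Nat.blt (fld v 0) 819 && okD [fld v 1] && Nat.blt (fld (kOrb.get (fld v 0)) 2) (fld v 2) &&
    Nat.beq (fld (kOrb.get (fld v 0)) 3) (fld v 3) && Nat.beq (pts.actW [fld v 1] (fld v 0)) q

theorem kOrb_ok : allLo kOrbEnt 819 = true := by decide +kernel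

/-- The orbit label of a point. -/
def cls (q : Fin pts.n) : ℕ := fld (kOrb.get q.1) 3

theorem cls_of_same {S : Set (Fin pts.n)}
    (hS : ∀ κ, okD κ = true → ∀ x ∈ S, rep (el κ) x ∈ S) {q : Fin pts.n} (hq : q ∈ S) :
    ∃ r ∈ S, r.1 = cls q := by
  suffices ∀ d, ∀ q : Fin pts.n, q ∈ S → fld (kOrb.get q.1) 2 = d → ∃ r ∈ S, r.1 = cls q from
    this _ q hq rfl
  intro d
  induction d using Nat.strongRecOn with
  | _ d ih =>
    intro q hq hd
    have h := allLo_spec kOrb_ok (i := q.1) q.2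
    unfold kOrbEnt at h
    simp only at h
    cases h0 : Nat.beq (fld (kOrb.get q.1) 2) 0 with
    | true =>
      rw [h0, cond_true, Nat.beq_eq] at h
      exact ⟨q, hq, h.symm⟩
    | false =>
      rw [h0, cond_false] at h
      simp only [Bool.and_eq_true, Nat.blt_eq, Nat.beq_eq] at h
      obtain ⟨⟨⟨⟨h1, h2⟩, h3⟩, h4⟩, h5⟩ := h
      set p : Fin pts.n := ⟨fld (kOrb.get q.1) 0, h1⟩
      have hl : ∀ l ∈ [fld (kOrb.get q.1) 1], l < pts.k := fun l hl => by
        simp only [okD, List.all_eq_true, Bool.and_eq_true, Nat.blt_eq] at h2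
        exact (h2 l hl).1.trans (by decide +kernel)
      have hp : rep (el [fld (kOrb.get q.1) 1]) q = p := by
        have : (wv (pts.sig pts_ok) [fld (kOrb.get q.1) 1])⁻¹ p = q :=
          Fin.ext (by rw [wv_sig_inv_apply pts_ok _ hl]; exact h5)
        rw [el, rep_wv]
        exact (Equiv.Perm.inv_eq_iff_eq.1 this).symm
      obtain ⟨r, hr, e⟩ := ih _ (hd ▸ h3) p (hp ▸ hS _ h2 q hq) rfl
      exact ⟨r, hr, e.trans h4⟩

theorem mem_of_cls {S : Set (Fin pts.n)}
    (hS : ∀ κ, okD κ = true → ∀ x ∈ S, rep (el κ) x ∈ S) {q r : Fin pts.n} (hr : r ∈ S)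
    (h : r.1 = cls q) : q ∈ S := by
  by_contra hq
  have hS' : ∀ κ, okD κ = true → ∀ x ∈ Sᶜ, rep (el κ) x ∈ Sᶜ := by
    intro κ hκ x hx hmem
    refine hx ?_
    have hw : okD (winv iv9 κ) = true := by
      simp only [okD, winv, List.all_eq_true, List.mem_map, List.mem_reverse, Bool.and_eq_true,
        Nat.blt_eq] at hκ ⊢
      rintro _ ⟨l, hl, rfl⟩
      obtain ⟨h1, h2⟩ := hκ l hl
      interval_cases l <;> first | decide | simp at h2
    have := hS _ hw _ hmem
    rwa [el_winv, map_inv, ← Equiv.Perm.mul_apply, inv_mul_cancel, Equiv.Perm.one_apply] at this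
  obtain ⟨r', hr', e⟩ := cls_of_same hS' hq
  exact hr' (Fin.ext (e.trans h.symm) ▸ hr)

/-- The subsets of the four orbit labels whose size divides 819. -/
theorem cls_sums : ∀ b₁ b₂ b₃ : Bool, ((Finset.univ.filter fun q : Fin pts.n =>
      (Nat.beq (cls q) 0 || (Nat.beq (cls q) 1 && b₁) || (Nat.beq (cls q) 9 && b₂) ||
        (Nat.beq (cls q) 25 && b₃)) = true).card ∣ 819) → b₁ = b₂ ∧ b₂ = b₃ := by
  decide +kernel

theorem cls_zero : cls p0 = 0 := by decide +kernel

theorem cls_mem : allLo (fun q => Nat.beq (fld (kOrb.get q) 3) 0 || Nat.beq (fld (kOrb.get q) 3) 1 ||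
    Nat.beq (fld (kOrb.get q) 3) 9 || Nat.beq (fld (kOrb.get q) 3) 25) 819 = true := by decide +kernel

theorem cls_zero_iff {q : Fin pts.n} (h : cls q = 0) : q = p0 := by
  have key : ∀ q : Fin pts.n, cls q = 0 → q.1 = 0 := by decide +kernel
  exact Fin.ext (key q h)

/-- The action as an action. -/
@[reducible] def ptAct : MulAction H0 (Fin pts.n) := MulAction.compHom _ rep

theorem moves_all (E M : Subgroup H0) (hME : M ≤ E) (hE : ∀ κ, okD κ = true → el κ ∈ E)
    (htr : ∀ q : Fin pts.n, ∃ e ∈ E, rep e p0 = q) (hnorm : ∀ e ∈ E, ∀ m ∈ M, e * m * e⁻¹ ∈ M)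
    (hM : M ≠ ⊥) (q : Fin pts.n) : ∃ m ∈ M, rep m p0 = q := by
  classical
  letI : MulAction E (Fin pts.n) := MulAction.compHom _ (rep.comp E.subtype)
  have : MulAction.IsPretransitive E (Fin pts.n) := MulAction.IsPretransitive.mk fun x y => by
    obtain ⟨e, he, hex⟩ := htr x
    obtain ⟨f, hf, hfy⟩ := htr y
    refine ⟨⟨f * e⁻¹, mul_mem hf (inv_mem he)⟩, ?_⟩
    show rep (f * e⁻¹) x = y
    rw [map_mul, map_inv, Equiv.Perm.mul_apply, Equiv.Perm.inv_eq_iff_eq.2 hex.symm]
    exact hfy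
  haveI : (M.subgroupOf E).Normal := ⟨fun n hn g => hnorm g.1 g.2 n.1 hn⟩
  set O := MulAction.orbit (M.subgroupOf E) p0 with hO
  have hmem : ∀ x, x ∈ O ↔ ∃ m ∈ M, rep m p0 = x := by
    intro x
    constructor
    · rintro ⟨⟨⟨m, hmE⟩, hm⟩, rfl⟩; exact ⟨m, hm, rfl⟩
    · rintro ⟨m, hm, rfl⟩; exact ⟨⟨⟨m, hME hm⟩, hm⟩, rfl⟩
  have hS : ∀ κ, okD κ = true → ∀ x ∈ O, rep (el κ) x ∈ O := by
    intro κ hκ x hx
    obtain ⟨m, hm, rfl⟩ := (hmem x).1 hx
    refine (hmem _).2 ⟨el κ * m * (el κ)⁻¹, hnorm _ (hE κ hκ) _ hm, ?_⟩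
    rw [map_mul, map_mul, map_inv, Equiv.Perm.mul_apply, Equiv.Perm.mul_apply,
      Equiv.Perm.inv_eq_iff_eq.2 (okK_fix (okD_okK hκ)).1.symm]
  have h0 : p0 ∈ O := MulAction.mem_orbit_self _
  have hne : O ≠ {p0} := by
    intro hsing
    refine hM (eq_bot_iff.2 fun m hm => ?_)
    rw [Subgroup.mem_bot]
    apply rep_injective
    rw [map_one]
    refine Equiv.ext fun x => ?_
    obtain ⟨e, he, hex⟩ := htr x
    have hm' : e⁻¹ * m * e ∈ M := by simpa using hnorm _ (inv_mem he) _ hm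
    have hc : rep (e⁻¹ * m * e) p0 ∈ O := (hmem _).2 ⟨_, hm', rfl⟩
    rw [hsing, Set.mem_singleton_iff, map_mul, map_mul, map_inv, Equiv.Perm.mul_apply,
      Equiv.Perm.mul_apply, hex, Equiv.Perm.inv_eq_iff_eq, hex] at hc
    rw [Equiv.Perm.one_apply, hc]
  have hdvd : O.ncard ∣ 819 := by
    have := (MulAction.IsBlock.orbit_of_normal (N := M.subgroupOf E) (G := E) p0).ncard_dvd_card ⟨p0, h0⟩
    rwa [Nat.card_eq_fintype_card, Fintype.card_fin] at this
  let b (r : ℕ) : Bool := decide (∃ x ∈ O, x.1 = r)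
  have hO' : O = ↑(Finset.univ.filter fun q : Fin pts.n =>
      (Nat.beq (cls q) 0 || (Nat.beq (cls q) 1 && b 1) || (Nat.beq (cls q) 9 && b 9) ||
        (Nat.beq (cls q) 25 && b 25)) = true) := by
    ext x
    simp only [Finset.coe_filter, Finset.mem_univ, true_and, Set.mem_ofPred_eq, Bool.or_eq_true,
      Bool.and_eq_true, Nat.beq_eq, b, decide_eq_true_eq]
    constructor
    · intro hx
      obtain ⟨r, hr, e⟩ := cls_of_same hS hx
      have h := allLo_spec cls_mem (i := x.1) x.2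
      simp only [Bool.or_eq_true, Nat.beq_eq] at h
      rcases h with ((h | h) | h) | h
      · exact Or.inl (Or.inl (Or.inl h))
      · exact Or.inl (Or.inl (Or.inr ⟨h, r, hr, e.trans h⟩))
      · exact Or.inl (Or.inr ⟨h, r, hr, e.trans h⟩)
      · exact Or.inr ⟨h, r, hr, e.trans h⟩
    · rintro (((h | ⟨h, r, hr, e⟩) | ⟨h, r, hr, e⟩) | ⟨h, r, hr, e⟩)
      · rw [cls_zero_iff h]; exact h0
      all_goals exact mem_of_cls hS hr (e.trans h.symm)
  rw [hO', Set.ncard_coe_finset] at hdvd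
  obtain ⟨e1, e2⟩ := cls_sums _ _ _ hdvd
  suffices hq : q ∈ O from (hmem q).1 hq
  cases hb : b 1 with
  | false =>
    exfalso
    refine hne (Set.eq_singleton_iff_unique_mem.2 ⟨h0, fun x hx => ?_⟩)
    rw [hO'] at hx
    simp only [Finset.coe_filter, Finset.mem_univ, true_and, Set.mem_ofPred_eq, ← e2, ← e1, hb,
      Bool.and_false, Bool.or_false, Nat.beq_eq] at hx
    exact cls_zero_iff hx
  | true =>
    rw [hO']
    simp only [Finset.coe_filter, Finset.mem_univ, true_and, Set.mem_ofPred_eq, ← e2, ← e1, hb,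
      Bool.and_true]
    exact allLo_spec cls_mem q.2

/-- The conjugate of `a` attached to point `q`. -/
def aConj (q : ℕ) : List ℕ := om q ++ [0] ++ winv iv9 (om q)

/-- Products of conjugates of `a` equal to `a, b, c, d, e, s`. -/
def aProds : List (List ℕ) := [[25, 108], [2], [25], [10, 117, 257, 296], [65, 470, 501, 506],
  [243, 255, 290, 630]]

theorem aProds_ok : allLo (fun l => eqH [l] ((aProds.getD l []).flatMap aConj)) 6 = true := by
  decide +kernel

theorem norm_mem (E M : Subgroup H0) (hME : M ≤ E) (hE : ∀ κ, okD κ = true → el κ ∈ E)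
    (htr : ∀ q : Fin pts.n, ∃ e ∈ E, rep e p0 = q) (hnorm : ∀ e ∈ E, ∀ m ∈ M, e * m * e⁻¹ ∈ M)
    (hM : M ≠ ⊥) : ∀ l < 6, el [l] ∈ M := by
  have ha : ∀ m ∈ M, el [0] * m * el [0] ∈ M := fun m hm => by
    have h := hnorm _ (hE [0] rfl) _ hm
    rwa [show (el [0])⁻¹ = el [0] by rw [← el_winv]; rfl] at h
  have hconj : ∀ q < 819, ∃ m ∈ M, el (aConj q) = m * el [0] * m⁻¹ := by
    intro q hq
    have hq' : q < pts.n := hq
    obtain ⟨m, hm, e⟩ := moves_all E M hME hE htr hnorm hM ⟨q, hq'⟩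
    have hs : rep (m⁻¹ * el (om q)) p0 = p0 := by
      rw [map_mul, map_inv, Equiv.Perm.mul_apply, rep_om (q := ⟨q, hq'⟩), Equiv.Perm.inv_eq_iff_eq, e]
    obtain ⟨κ, hκ, eκ⟩ := stab_word hs
    have eom : el (om q) = m * el κ := by rw [← eκ]; group
    refine ⟨m, hm, ?_⟩
    rw [aConj, el_append, el_append, el_winv, eom, mul_inv_rev]
    calc m * el κ * el [0] * ((el κ)⁻¹ * m⁻¹) = m * (el κ * el [0]) * (el κ)⁻¹ * m⁻¹ := by group
      _ = _ := by rw [(okK_fix hκ).2]; group
  have h0 : el [0] ∈ M := by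
    obtain ⟨m, hm, e1⟩ := hconj 25 (by norm_num)
    obtain ⟨n, hn, e2⟩ := hconj 108 (by norm_num)
    have h := el_eq (allLo_spec aProds_ok (i := 0) (by norm_num))
    simp only [aProds, List.getD_cons_zero, List.flatMap_cons, List.flatMap_nil, List.append_nil,
      el_append, e1, e2] at h
    rw [h, show m * el [0] * m⁻¹ * (n * el [0] * n⁻¹) = m * (el [0] * (m⁻¹ * n) * el [0]) * n⁻¹ by group]
    exact mul_mem (mul_mem hm (ha _ (mul_mem (inv_mem hm) hn))) (inv_mem hn)
  intro l hl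
  rw [el_eq (allLo_spec aProds_ok hl)]
  have hlt : ∀ x ∈ aProds.getD l [], x < 819 := by interval_cases l <;> decide
  generalize aProds.getD l [] = xs at hlt
  induction xs with
  | nil => rw [List.flatMap_nil, el_nil]; exact one_mem M
  | cons x xs ih =>
    obtain ⟨m, hm, e⟩ := hconj x (hlt x List.mem_cons_self)
    rw [List.flatMap_cons, el_append, e]
    exact mul_mem (mul_mem (mul_mem hm h0) (inv_mem hm)) (ih fun y hy => hlt y (List.mem_cons_of_mem _ hy))

/-- **A nontrivial normal subgroup contains `a, b, c, d, e, s`.** -/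
theorem normal_mem (M : Subgroup H0) [M.Normal] (hM : M ≠ ⊥) : ∀ l < 6, el [l] ∈ M :=
  norm_mem ⊤ M le_top (fun _ _ => trivial) (fun q => ⟨_, trivial, rep_om (q := q)⟩)
    (fun e _ m hm => Subgroup.Normal.conj_mem inferInstance m hm e) hM

end

end Cfsg.Agent.Th
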