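import Cfsg.Agent.Lib.Th.TCL
import Cfsg.Agent.Lib.Th.CTableCheck
import Cfsg.Agent.Lib.Th.RelWords
import Cfsg.Prelude.Def_Spor_Th

/-!
The presented Thompson group receives the group of `a, b, c, d, e, s, t`, and the labelled table of the
centraliser holds in it.
-/

set_option autoImplicit false
set_option maxRecDepth 100000
set_option Elab.async false

namespace Cfsg.Agent.Th

open Cfsg.Agent.HN Cfsg.Spor

noncomputable section

/-- The relators of the presentation. -/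
abbrev relsTh : Set (FreeGroup Cfsg.Spor.Th.Gen) :=
  coxRelators Cfsg.Spor.Th.edges ∪ {r | r ∈ Cfsg.Spor.Th.extra}

/-- The sixteen letters among the free generators. -/
def fgen16 (l : ℕ) : FreeGroup Cfsg.Spor.Th.Gen :=
  [Cfsg.Spor.Th.a, Cfsg.Spor.Th.a⁻¹, Cfsg.Spor.Th.b, Cfsg.Spor.Th.b⁻¹, Cfsg.Spor.Th.c, Cfsg.Spor.Th.c⁻¹,
    Cfsg.Spor.Th.d, Cfsg.Spor.Th.d⁻¹, Cfsg.Spor.Th.e, Cfsg.Spor.Th.e⁻¹, Cfsg.Spor.Th.s, Cfsg.Spor.Th.s⁻¹,
    Cfsg.Spor.Th.t, Cfsg.Spor.Th.t⁻¹, Cfsg.Spor.Th.u, Cfsg.Spor.Th.u⁻¹].getD l 1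

theorem extra_eq : Cfsg.Spor.Th.extra = rel16.map (wv fgen16) := by decide +kernel

/-- The sixteen letters as eleven. -/
def to11 (l : ℕ) : ℕ := ([0, 0, 1, 1, 2, 2, 3, 3, 4, 4, 5, 6, 7, 8, 9, 10] : List ℕ).getD l 11

/-- The inverse of a letter among `a, b, c, d, e, s, s⁻¹, t, t⁻¹, u, u⁻¹`. -/
def iv11 (l : ℕ) : ℕ := ([0, 1, 2, 3, 4, 6, 5, 8, 7, 10, 9] : List ℕ).getD l l

/-- The relators on the eleven letters. -/
def relTh : List (List ℕ) := rel16.map (List.map to11)

/-- The eleven letters in the free group. -/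
def fgen11 (l : ℕ) : FreeGroup Cfsg.Spor.Th.Gen :=
  [Cfsg.Spor.Th.a, Cfsg.Spor.Th.b, Cfsg.Spor.Th.c, Cfsg.Spor.Th.d, Cfsg.Spor.Th.e, Cfsg.Spor.Th.s,
    Cfsg.Spor.Th.s⁻¹, Cfsg.Spor.Th.t, Cfsg.Spor.Th.t⁻¹, Cfsg.Spor.Th.u, Cfsg.Spor.Th.u⁻¹].getD l 1

/-- The eleven letters in the presented group. -/
def g11 (l : ℕ) : Cfsg.Spor.Th := PresentedGroup.mk relsTh (fgen11 l)

theorem rel16_one {w : List ℕ} (h : w ∈ rel16) :
    wv (fun l => PresentedGroup.mk relsTh (fgen16 l)) w = 1 := by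
  rw [← map_wv]
  exact PresentedGroup.one_of_mem (Or.inr (by rw [Set.mem_ofPred_eq, extra_eq]; exact List.mem_map.2 ⟨w, h, rfl⟩))

theorem sq_one (i : ℕ) (h : i < 5) : g11 i * g11 i = 1 := by
  have hm : [2 * i, 2 * i] ∈ rel16 := by interval_cases i <;> decide +kernel
  have h1 := rel16_one hm
  simp only [wv, mul_one] at h1
  interval_cases i <;> exact h1

theorem g11_inv (l : ℕ) : g11 (iv11 l) = (g11 l)⁻¹ := by
  match l with
  | 0 => exact eq_inv_of_mul_eq_one_left (sq_one 0 (by norm_num))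
  | 1 => exact eq_inv_of_mul_eq_one_left (sq_one 1 (by norm_num))
  | 2 => exact eq_inv_of_mul_eq_one_left (sq_one 2 (by norm_num))
  | 3 => exact eq_inv_of_mul_eq_one_left (sq_one 3 (by norm_num))
  | 4 => exact eq_inv_of_mul_eq_one_left (sq_one 4 (by norm_num))
  | 5 | 6 | 7 | 8 | 9 | 10 => simp [g11, iv11, fgen11]
  | _ + 11 => simp [g11, iv11, fgen11]

theorem g11_to11 (l : ℕ) : g11 (to11 l) = PresentedGroup.mk relsTh (fgen16 l) := by
  have hsq : ∀ i, i < 5 → g11 i = (g11 i)⁻¹ := fun i hi => eq_inv_of_mul_eq_one_left (sq_one i hi)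
  match l with
  | 0 | 2 | 4 | 6 | 8 | 10 | 11 | 12 | 13 | 14 | 15 => rfl
  | 1 => show g11 0 = PresentedGroup.mk relsTh (Cfsg.Spor.Th.a⁻¹); rw [map_inv]; exact hsq 0 (by norm_num)
  | 3 => show g11 1 = PresentedGroup.mk relsTh (Cfsg.Spor.Th.b⁻¹); rw [map_inv]; exact hsq 1 (by norm_num)
  | 5 => show g11 2 = PresentedGroup.mk relsTh (Cfsg.Spor.Th.c⁻¹); rw [map_inv]; exact hsq 2 (by norm_num)
  | 7 => show g11 3 = PresentedGroup.mk relsTh (Cfsg.Spor.Th.d⁻¹); rw [map_inv]; exact hsq 3 (by norm_num)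
  | 9 => show g11 4 = PresentedGroup.mk relsTh (Cfsg.Spor.Th.e⁻¹); rw [map_inv]; exact hsq 4 (by norm_num)
  | _ + 16 => simp [to11, g11, fgen11, fgen16]

theorem relTh_one {w : List ℕ} (h : w ∈ relTh) : wv g11 w = 1 := by
  obtain ⟨v, hv, rfl⟩ := List.mem_map.1 h
  rw [← rel16_one hv]
  clear h hv
  induction v with
  | nil => rfl
  | cons l v ih => rw [List.map_cons, wv_cons, wv_cons, ih, g11_to11]

/-- The images of the seven generators. -/
def psiGen : Fin 7 → Cfsg.Spor.Th := ![g11 0, g11 1, g11 2, g11 3, g11 4, g11 5, g11 7]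

theorem psi_lift (w : List ℕ) (hw : ∀ l ∈ w, l < 9) : FreeGroup.lift psiGen (wv fg9 w) = wv g11 w := by
  rw [map_wv]
  refine wv_congr _ fun l hl => ?_
  have := hw l hl
  interval_cases l
  case «6» => simp [fg9, psiGen]; exact (g11_inv 5).symm
  case «8» => simp [fg9, psiGen]; exact (g11_inv 7).symm
  all_goals simp [fg9, psiGen]

/-- The map of the group of `a, b, c, d, e, s, t`. -/
def psi : H0 →* Cfsg.Spor.Th :=
  PresentedGroup.toGroup (f := psiGen) (by
    rintro r ⟨w, hw, rfl⟩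
    have hc : (rel9.all fun w => letOK 9 w && derivedFrom iv11 relTh w) = true := by decide +kernel
    simp only [List.all_eq_true, Bool.and_eq_true] at hc
    rw [psi_lift w (letOK_spec (hc w hw).1)]
    exact derivedFrom_spec g11_inv (fun b hb => relTh_one hb) (hc w hw).2)

theorem psi_el {w : List ℕ} (hw : ∀ l ∈ w, l < 9) : psi (el w) = wv g11 w := by
  rw [el, show wv g9 w = PresentedGroup.mk relSet9 (wv fg9 w) from (map_wv _ _ _).symm, ← psi_lift w hw]
  rfl

/-- Rename a letter among `a, c, d, e, s, s⁻¹, t, t⁻¹, u, u⁻¹` to the eleven. -/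
def from10 (l : ℕ) : ℕ := ([0, 2, 3, 4, 5, 6, 7, 8, 9, 10] : List ℕ).getD l 11

/-- The ten letters in the presented group. -/
def g10 (l : ℕ) : Cfsg.Spor.Th := g11 (from10 l)

theorem wv_g10 (w : List ℕ) : wv g10 w = wv g11 (w.map from10) := by
  induction w with
  | nil => rfl
  | cons l w ih => rw [List.map_cons, wv_cons, wv_cons, ih]; rfl

theorem ctable_rules : TCL.Rules CTable.cert g10 psi where
  inv l := by
    unfold g10
    rw [← g11_inv]
    congr 1
    match l with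
    | 0 | 1 | 2 | 3 | 4 | 5 | 6 | 7 | 8 | 9 => rfl
    | _ + 10 => simp [CTable.cert, CTable.ivl, from10, iv11]
  rel r hr := by
    have hc : (CTable.cert.rels.all fun r => derivedFrom iv11 relTh (r.map from10)) = true := by
      decide +kernel
    rw [wv_g10]
    exact derivedFrom_spec g11_inv (fun b hb => relTh_one hb) (List.all_eq_true.1 hc r hr)
  sub s hs := by
    simp only [CTable.cert, List.mem_cons, List.not_mem_nil, or_false] at hs
    rcases hs with rfl | rfl | rfl | rfl | rfl | rfl <;>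
      (rw [wv_g10]; exact (psi_el (w := _) (by decide)).symm)

theorem ctable_good : ∀ n < CTable.numFacts, TCL.GoodFact CTable.cert CTable.labels g10 psi n :=
  TCL.all_good ctable_rules CTable.ok_all

/-- Representative `i` of the cosets in the centraliser. -/
def tauC (i : ℕ) : Cfsg.Spor.Th := TCL.tau CTable.cert g10 i

/-- The step of the table. -/
def stepC (j l : ℕ) : ℕ × List ℕ := TCL.step CTable.cert CTable.labels j l

theorem tauC_zero : tauC 0 = 1 := TCL.tau_zero CTable.fin_ok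

theorem stepC_spec {j l : ℕ} (hj : j < 120) (hl : l < 10) :
    (stepC j l).1 < 120 ∧ tauC j * g10 l = psi (el (stepC j l).2) * tauC (stepC j l).1 := by
  have h1 : CTable.cert.nfin = 120 ∧ CTable.cert.k = 10 := by decide +kernel
  have := TCL.step_spec ctable_rules ctable_good CTable.fin_ok (j := j) (l := l) (h1.1 ▸ hj) (h1.2 ▸ hl)
  rw [h1.1] at this
  exact this

theorem top_eq : Subgroup.closure (Set.range psi ∪ {g11 9}) = ⊤ := by
  rw [eq_top_iff, ← PresentedGroup.closure_range_of relsTh, Subgroup.closure_le]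
  rintro _ ⟨x, rfl⟩
  have key : ∀ i : ℕ, i < 9 → g11 i ∈ Subgroup.closure (Set.range psi ∪ {g11 9}) := fun i hi =>
    Subgroup.subset_closure (Or.inl ⟨el [i], by rw [psi_el (by simpa using hi), wv_singleton]⟩)
  cases x
  · exact key 0 (by norm_num)
  · exact key 1 (by norm_num)
  · exact key 2 (by norm_num)
  · exact key 3 (by norm_num)
  · exact key 4 (by norm_num)
  · exact key 5 (by norm_num)
  · exact key 7 (by norm_num)
  · exact Subgroup.subset_closure (Or.inr rfl)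

theorem range_psi : psi.range = ((Subgroup.closure ({Cfsg.Spor.Th.a, Cfsg.Spor.Th.b, Cfsg.Spor.Th.c,
    Cfsg.Spor.Th.d, Cfsg.Spor.Th.e, Cfsg.Spor.Th.s, Cfsg.Spor.Th.t} :
      Set (FreeGroup Cfsg.Spor.Th.Gen))).map (PresentedGroup.mk relsTh)) := by
  have hg : Set.range (PresentedGroup.of (rels := relSet9)) =
      {g9 0, g9 1, g9 2, g9 3, g9 4, g9 5, g9 7} := by
    ext x
    simp only [Set.mem_range, Set.mem_insert_iff, Set.mem_singleton_iff]
    constructor
    · rintro ⟨i, rfl⟩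
      fin_cases i <;> simp [g9, fg9, PresentedGroup.of]
    · rintro (rfl | rfl | rfl | rfl | rfl | rfl | rfl)
      exacts [⟨0, rfl⟩, ⟨1, rfl⟩, ⟨2, rfl⟩, ⟨3, rfl⟩, ⟨4, rfl⟩, ⟨5, rfl⟩, ⟨6, rfl⟩]
  rw [MonoidHom.range_eq_map, ← PresentedGroup.closure_range_of relSet9, hg, MonoidHom.map_closure,
    MonoidHom.map_closure]
  congr 1
  have e : ∀ i, i < 9 → psi (g9 i) = PresentedGroup.mk relsTh (fgen11 i) := fun i hi => by
    have := psi_el (w := [i]) (by simpa using hi)
    rwa [el, wv_singleton, wv_singleton] at this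
  simp only [Set.image_insert_eq, Set.image_singleton, e 0 (by norm_num), e 1 (by norm_num),
    e 2 (by norm_num), e 3 (by norm_num), e 4 (by norm_num), e 5 (by norm_num), e 7 (by norm_num)]
  rfl

end

end Cfsg.Agent.Th
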