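import Cfsg.Agent.Lib.Th.Exact
import Cfsg.Agent.Lib.Th.Points

/-!
The presented Thompson group is simple, given that the group of `a, b, c, d, e, s, t` embeds with index
143127000.
-/

set_option autoImplicit false
set_option maxRecDepth 100000
set_option maxHeartbeats 1000000
set_option Elab.async false

namespace Cfsg.Agent.Th

open Cfsg.Agent.HN

noncomputable section

theorem psi_el_single {l : ℕ} (h : l < 9) : psi (el [l]) = g11 l := by
  rw [psi_el (by simpa using h), wv_singleton]

/-- Three relators that tie `u` to the others. -/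
theorem u_rels : [9, 9, 2, 0] ∈ relTh ∧ [10, 7, 9, 7] ∈ relTh ∧ [0, 2, 6, 10, 6, 10, 6, 10] ∈ relTh := by
  decide +kernel

/-- A normal subgroup containing `a, b, c, d, e, s` is everything. -/
theorem eq_top_of_mem (N : Subgroup Cfsg.Spor.Th) [N.Normal] (h : ∀ l < 6, g11 l ∈ N) : N = ⊤ := by
  set π := QuotientGroup.mk' N
  have h0 : ∀ l < 6, π (g11 l) = 1 := fun l hl => (QuotientGroup.eq_one_iff _).2 (h l hl)
  have h6 : π (g11 6) = 1 := by
    rw [show g11 6 = (g11 5)⁻¹ from g11_inv 5, map_inv, h0 5 (by norm_num), inv_one]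
  have e : ∀ w ∈ relTh, wv (fun l => π (g11 l)) w = 1 := fun w hw => by
    rw [← map_wv, relTh_one hw, map_one]
  have r1 := e _ u_rels.1
  have r2 := e _ u_rels.2.1
  have r3 := e _ u_rels.2.2
  simp only [wv, h0 0 (by norm_num), h0 2 (by norm_num), h6, mul_one, one_mul] at r1 r2 r3
  have h10 : π (g11 10) = (π (g11 9))⁻¹ := by rw [← map_inv, ← g11_inv 9]; rfl
  rw [h10] at r2 r3
  have hu : π (g11 9) = 1 := by
    have h3 : π (g11 9) * (π (g11 9) * π (g11 9)) = 1 := by
      rw [← inv_inj, inv_one, mul_inv_rev, mul_inv_rev, mul_assoc]; exact r3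
    rwa [r1, mul_one] at h3
  have t3 : π (g11 7) = 1 := by
    have h7 : eqH [7, 7, 7] [] = true := by decide +kernel
    have h3 := congrArg psi (el_eq h7)
    rw [psi_el (by decide), el_nil, map_one] at h3
    have h3 := congrArg π h3
    simp only [wv, map_mul, map_one, mul_one] at h3
    simp only [hu, inv_one, one_mul] at r2
    rwa [r2, mul_one] at h3
  rw [eq_top_iff, ← top_eq, Subgroup.closure_le]
  rintro g (⟨b, rfl⟩ | hg)
  · obtain ⟨w, hw, rfl⟩ := exists_word b
    rw [psi_el hw]
    refine wv_mem _ fun l hl => ?_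
    have := hw l hl
    rw [← QuotientGroup.eq_one_iff]
    show π (g11 l) = 1
    interval_cases l
    case «6» => exact h6
    case «7» => exact t3
    case «8» => rw [show g11 8 = (g11 7)⁻¹ from g11_inv 7, map_inv, t3, inv_one]
    all_goals exact h0 _ (by norm_num)
  · rw [Set.mem_singleton_iff.1 hg]
    exact (QuotientGroup.eq_one_iff _).1 hu

/-! ### The character of the group of `a, b, c, d, e, s, t` of order three -/

/-- The values of the character on the nine letters. -/
def chi3Let (l : ℕ) : Multiplicative (ZMod 3) :=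
  Multiplicative.ofAdd (([0, 0, 0, 0, 0, 0, 0, 1, 2] : List (ZMod 3)).getD l 0)

/-- The character on the generators. -/
def chi3Gen : Fin 7 → Multiplicative (ZMod 3) := fun i => Multiplicative.ofAdd (if i = 6 then 1 else 0)

theorem chi3_lift (w : List ℕ) : FreeGroup.lift chi3Gen (wv fg9 w) = wv chi3Let w := by
  rw [map_wv]
  refine wv_congr _ fun l _ => ?_
  match l with
  | 0 | 1 | 2 | 3 | 4 | 5 | 7 => simp [fg9, chi3Gen, chi3Let]
  | 6 => simp [fg9, chi3Gen, chi3Let]
  | 8 => simp [fg9, chi3Gen, chi3Let]; decide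
  | _ + 9 => simp [fg9, chi3Let]

/-- The character of order three. -/
def chi3 : H0 →* Multiplicative (ZMod 3) :=
  PresentedGroup.toGroup (f := chi3Gen) (by
    rintro r ⟨w, hw, rfl⟩
    rw [chi3_lift]
    have hc : ∀ w ∈ rel9, wv chi3Let w = 1 := by decide +kernel
    exact hc w hw)

theorem chi3_el (w : List ℕ) : chi3 (el w) = wv chi3Let w := by
  rw [el, show wv g9 w = PresentedGroup.mk relSet9 (wv fg9 w) from (map_wv _ _ _).symm, ← chi3_lift]
  rfl

/-- The group has no map to the cyclic group of order three extending the character. -/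
theorem no_ext (f : Cfsg.Spor.Th →* Multiplicative (ZMod 3)) (h : ∀ x, f (psi x) = chi3 x) : False := by
  have e : ∀ l < 9, f (g11 l) = chi3Let l := fun l hl => by
    rw [← psi_el_single hl, h, chi3_el, wv_singleton]
  have r := congrArg f (relTh_one u_rels.2.1)
  simp only [wv, map_mul, map_one, mul_one, e 7 (by norm_num)] at r
  rw [show g11 10 = (g11 9)⁻¹ from g11_inv 9, map_inv] at r
  revert r
  generalize f (g11 9) = z
  revert z
  decide

/-! ### The action on the cosets -/

variable (hidx : psi.range.index = 143127000) (hinj : Function.Injective psi)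

include hidx

/-- The point fixed by the group of `a, b, c, d, e, s, t`. -/
def q0 : Cfsg.Spor.Th ⧸ psi.range := QuotientGroup.mk 1

theorem pnt_zero : pnt Graph.dd 0 = q0 := by rw [pnt, Graph.node_zero, inv_one]; rfl

/-- The orbit of node `m`, as a finite set. -/
def orb (m : ℕ) : Set (Cfsg.Spor.Th ⧸ psi.range) :=
  letI := cosAct
  MulAction.orbit H0 (pnt Graph.dd m)

theorem orb_sum (T : Finset ℕ) (hT : T ⊆ hNodes Graph.dd)
    {B : Set (Cfsg.Spor.Th ⧸ psi.range)} (hB : ∀ m ∈ T, orb m ⊆ B)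
    (hB' : ∀ x ∈ B, ∃ m ∈ T, x ∈ orb m) :
    B.ncard = ∑ m ∈ T, 634023936 / Graph.stabSize m := by
  classical
  letI := cosAct
  have hfi : Finite (Cfsg.Spor.Th ⧸ psi.range) :=
    Nat.finite_of_card_ne_zero (by show psi.range.index ≠ 0; rw [hidx]; norm_num)
  have hle : ∀ m ∈ hNodes Graph.dd, (orb m).ncard ≤ 634023936 / Graph.stabSize m := by
    intro m hm
    obtain ⟨h0, hle⟩ := Graph.stabSize_le m hm
    have he : Nat.card (MulAction.orbit H0 (pnt Graph.dd m)) * Nat.card (stabN Graph.dd m) = 634023936 := by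
      rw [← card_H0, ← Nat.card_prod]
      exact Nat.card_congr (MulAction.orbitProdStabilizerEquivGroup H0 (pnt Graph.dd m))
    rw [Nat.le_div_iff_mul_le h0, ← Nat.card_coe_set_eq, ← he]
    exact Nat.mul_le_mul_left _ hle
  have hall : ∀ x : Cfsg.Spor.Th ⧸ psi.range, ∃ m ∈ hNodes Graph.dd, x ∈ orb m := by
    intro x
    induction x using QuotientGroup.induction_on with
    | H g =>
      obtain ⟨a, b, m, hm, hs, e⟩ := Graph.covered.all g⁻¹
      refine ⟨m, by simp [hNodes, hm, hs], b⁻¹, ?_⟩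
      show psi b⁻¹ • (QuotientGroup.mk (Graph.dd.node m)⁻¹ : Cfsg.Spor.Th ⧸ psi.range) = _
      rw [MulAction.Quotient.smul_mk, smul_eq_mul]
      refine QuotientGroup.eq.2 ⟨a⁻¹, ?_⟩
      rw [← inv_inv g, e]
      simp only [map_inv]
      group
  have hbound : ∀ (T' : Finset ℕ) (S : Set (Cfsg.Spor.Th ⧸ psi.range)), T' ⊆ hNodes Graph.dd →
      (∀ x ∈ S, ∃ m ∈ T', x ∈ orb m) → S.ncard ≤ ∑ m ∈ T', 634023936 / Graph.stabSize m := by
    intro T' S hT' hS
    calc S.ncard ≤ (⋃ m ∈ T', orb m).ncard :=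
          Set.ncard_le_ncard (fun x hx => by simpa using hS x hx) (Set.toFinite _)
      _ ≤ ∑ m ∈ T', (orb m).ncard := Finset.set_ncard_biUnion_le _ _
      _ ≤ _ := Finset.sum_le_sum fun m hm => hle m (hT' hm)
  refine le_antisymm (hbound T B hT hB') ?_
  have h1 := hbound (hNodes Graph.dd \ T) Bᶜ Finset.sdiff_subset fun x hx => by
    obtain ⟨m, hm, hxm⟩ := hall x
    exact ⟨m, Finset.mem_sdiff.2 ⟨hm, fun hmT => hx (hB m hmT hxm)⟩, hxm⟩
  have h2 := Set.ncard_add_ncard_compl B
  have h3 := Finset.sum_sdiff (f := fun m => 634023936 / Graph.stabSize m) hT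
  have h4 : ∑ m ∈ hNodes Graph.dd, 634023936 / Graph.stabSize m = 143127000 := by
    rw [Graph.hNodes_eq]; decide +kernel
  have h5 : Nat.card (Cfsg.Spor.Th ⧸ psi.range) = 143127000 := hidx
  omega

omit hidx in
/-- The subsets of the orbits through the fixed point whose size divides the degree. -/
theorem sums_ok : ∀ T ∈ (hNodes Graph.dd).powerset, 0 ∈ T →
    (∑ m ∈ T, 634023936 / Graph.stabSize m) ∣ 143127000 →
      T = {0} ∨ T = hNodes Graph.dd := by
  rw [Graph.hNodes_eq]
  decide +kernel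

/-- A normal subgroup fixes the base point or moves it everywhere. -/
theorem normal_orbit (N : Subgroup Cfsg.Spor.Th) [N.Normal] :
    N ≤ psi.range ∨ ∀ g : Cfsg.Spor.Th, ∃ n ∈ N, ∃ x : H0, g = n * psi x := by
  classical
  have hfi : Finite (Cfsg.Spor.Th ⧸ psi.range) :=
    Nat.finite_of_card_ne_zero (by show psi.range.index ≠ 0; rw [hidx]; norm_num)
  set B : Set (Cfsg.Spor.Th ⧸ psi.range) := MulAction.orbit N (q0 : Cfsg.Spor.Th ⧸ psi.range) with hBdef
  have h0 : q0 ∈ B := MulAction.mem_orbit_self _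
  have hdvd : B.ncard ∣ 143127000 := by
    have := (MulAction.IsBlock.orbit_of_normal (G := Cfsg.Spor.Th) (N := N)
      (q0 : Cfsg.Spor.Th ⧸ psi.range)).ncard_dvd_card ⟨_, h0⟩
    rwa [show Nat.card (Cfsg.Spor.Th ⧸ psi.range) = 143127000 from hidx] at this
  have hinv : ∀ (x : H0), ∀ p ∈ B, psi x • p ∈ B := by
    rintro x p ⟨⟨n, hn⟩, rfl⟩
    refine ⟨⟨psi x * n * (psi x)⁻¹, Subgroup.Normal.conj_mem inferInstance _ hn _⟩, ?_⟩
    show (psi x * n * (psi x)⁻¹) • q0 = psi x • n • q0
    rw [mul_smul, mul_smul]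
    congr 2
    rw [q0, MulAction.Quotient.smul_mk]
    exact QuotientGroup.eq.2 (by simp)
  set T := (hNodes Graph.dd).filter fun m => pnt Graph.dd m ∈ B with hT
  have hsum := orb_sum hidx T (Finset.filter_subset _ _) (B := B) (fun m hm => by
      rintro _ ⟨x, rfl⟩
      exact hinv x _ (Finset.mem_filter.1 hm).2) (fun p hp => by
      obtain ⟨g, rfl⟩ := QuotientGroup.mk_surjective p
      obtain ⟨a, b, m, hm, hs, e⟩ := Graph.covered.all g⁻¹
      have hm' : m ∈ hNodes Graph.dd := by simp [hNodes, hm, hs]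
      have hx : psi b⁻¹ • pnt Graph.dd m = QuotientGroup.mk g := by
        rw [pnt, MulAction.Quotient.smul_mk, smul_eq_mul]
        refine QuotientGroup.eq.2 ⟨a⁻¹, ?_⟩
        rw [← inv_inv g, e]
        simp only [map_inv]
        group
      refine ⟨m, Finset.mem_filter.2 ⟨hm', ?_⟩, b⁻¹, hx⟩
      have := hinv b _ hp
      rwa [← hx, smul_smul, ← map_mul, mul_inv_cancel, map_one, one_smul] at this)
  rw [hsum] at hdvd
  have h0T : 0 ∈ T := Finset.mem_filter.2 ⟨by rw [Graph.hNodes_eq]; simp, (pnt_zero hidx).symm ▸ h0⟩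
  rcases sums_ok T (Finset.mem_powerset.2 (Finset.filter_subset _ _)) h0T hdvd with hT' | hT'
  · left
    rw [hT', Finset.sum_singleton, show 634023936 / Graph.stabSize 0 = 1 by decide +kernel,
      Set.ncard_eq_one] at hsum
    obtain ⟨p, hp⟩ := hsum
    intro n hn
    have hnq : (⟨n, hn⟩ : N) • q0 ∈ B := MulAction.mem_orbit _ _
    have h0' := h0
    rw [hp, Set.mem_singleton_iff] at hnq h0'
    have h : n • q0 = (q0 : Cfsg.Spor.Th ⧸ psi.range) := hnq.trans h0'.symm
    rw [q0, MulAction.Quotient.smul_mk, QuotientGroup.eq] at h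
    simpa using h
  · right
    intro g
    have hfull : B = Set.univ := by
      rw [Set.eq_univ_iff_ncard, hsum, hT', Graph.hNodes_eq,
        show Nat.card (Cfsg.Spor.Th ⧸ psi.range) = 143127000 from hidx]
      decide +kernel
    have hg : (QuotientGroup.mk g : Cfsg.Spor.Th ⧸ psi.range) ∈ B := hfull ▸ Set.mem_univ _
    obtain ⟨⟨n, hn⟩, hn'⟩ := hg
    change n • q0 = _ at hn'
    rw [q0, MulAction.Quotient.smul_mk, smul_eq_mul, mul_one, QuotientGroup.eq] at hn'
    obtain ⟨x, hx⟩ := hn'
    exact ⟨n, hn, x, by rw [hx]; group⟩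

include hinj

/-- **The presented Thompson group is simple.** -/
theorem isSimple : IsSimpleGroup Cfsg.Spor.Th := by
  haveI : Nontrivial H0 := Finite.one_lt_card_iff_nontrivial.1 (by rw [card_H0]; norm_num)
  haveI : Nontrivial Cfsg.Spor.Th := hinj.nontrivial
  refine ⟨fun N hN => ?_⟩
  by_cases hM : N.comap psi = ⊥
  · by_cases hN1 : N = ⊥
    · exact Or.inl hN1
    exfalso
    rcases normal_orbit hidx N with h | h
    · refine hN1 (eq_bot_iff.2 fun n hn => ?_)
      obtain ⟨x, rfl⟩ := h hn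
      have hx : x ∈ N.comap psi := hn
      rw [hM, Subgroup.mem_bot] at hx
      rw [hx, map_one]
      exact one_mem _
    · set φ : H0 →* Cfsg.Spor.Th ⧸ N := (QuotientGroup.mk' N).comp psi
      have hb : Function.Bijective φ := by
        refine ⟨(injective_iff_map_eq_one φ).2 fun x hx => ?_, fun q => ?_⟩
        · have hx' : x ∈ N.comap psi := (QuotientGroup.eq_one_iff (psi x)).1 hx
          rwa [hM, Subgroup.mem_bot] at hx'
        · obtain ⟨g, rfl⟩ := QuotientGroup.mk'_surjective N q
          obtain ⟨n, hn, x, rfl⟩ := h g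
          refine ⟨x, ?_⟩
          rw [map_mul, show QuotientGroup.mk' N n = 1 from (QuotientGroup.eq_one_iff _).2 hn, one_mul]
          rfl
      exact no_ext (chi3.comp ((MulEquiv.ofBijective φ hb).symm.toMonoidHom.comp (QuotientGroup.mk' N)))
        fun x => congrArg chi3 ((MulEquiv.ofBijective φ hb).symm_apply_apply x)
  · right
    refine eq_top_of_mem N fun l hl => ?_
    rw [← psi_el_single (by omega : l < 9)]
    exact normal_mem (N.comap psi) hM l hl

end

end Cfsg.Agent.Th
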