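import Cfsg.Agent.Lib.HN.TC

/-! cosets under t -/

set_option autoImplicit false
set_option maxRecDepth 100000
set_option maxHeartbeats 4000000
set_option Elab.async false

namespace Cfsg.Agent.Th.TTable

open Cfsg.Agent.HN

noncomputable section

open Cfsg.Agent.HN

/-- part of the tree -/
def nodes0 : Trie :=
  (.node (.node (.leaf 0x0) (.leaf 0x700001)) (.node (.leaf 0x700000) (.leaf 0)))

/-- the tree -/
def nodes : Trie :=
  nodes0

/-- part of the facts -/
def facts0 : Trie :=
  (.node (.node (.node (.node (.node (.leaf 0x200000000000000000000000000000100002) (.leaf 0x18000130001800002000010000000002000120000100002000020000300002)) (.node (.leaf 0xc000030000c00002000010000000002000110000000001000010000200002) (.leaf 0))) (.node (.node (.leaf 0x200000000040000000000000000000500002) (.leaf 0x1900019000260002600001000030000100000000150000200001000010000700002)) (.node (.leaf 0x2000010000800000) (.leaf 0)))) (.node (.node (.node (.leaf 0x200000000020000000000000000000300002) (.leaf 0x18000170001800002000010000000002000140000100002000020000500002)) (.node (.leaf 0xc000070000c00002000010000000002000130000000001000010000400002)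 (.leaf 0))) (.node (.node (.leaf 0x1000000000800000) (.leaf 0)) (.node (.leaf 0x180000f0001800002000010000000002000100000100002000020000100002) (.leaf 0))))) (.node (.node (.node (.node (.leaf 0x200000000010000000000000000000200002) (.leaf 0x18000150001800002000010000000002000130000100002000020000400002)) (.node (.leaf 0xc000050000c00002000010000000002000120000000001000010000300002) (.leaf 0))) (.node (.node (.leaf 0x200000000050000000000000000000600002) (.leaf 0)) (.node (.leaf 0xd00018000010000100000000000000f0000100000000020000800002) (.leaf 0)))) (.node (.node (.node (.leaf 0x200000000030000000000000000000400002) (.leaf 0x1b0000b0000b0001a00000000040000000002000150000200002000020000600002)) (.node (.leaf 0xc000090000c00002000010000000002000140000000001000010000500002) (.leaf 0))) (.node (.node (.leaf 0xc000010000c00002000010000000002000100000000001000010000100002) (.leaf 0)) (.node (.leaf 0x18000110001800002000010000000002000110000100002000020000200002) (.leaf 0))))))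

/-- the facts -/
def facts : Trie :=
  facts0

/-- part of the final cosets -/
def fin0 : Trie :=
  (.node (.node (.leaf 0x20001b000010000c000000000b000000000a0000000009000000000700000000050000000003000000000100000) (.leaf 0x100019000000001a00002000270000200026000020002500002000230000200021000020001f000020001d00002)) (.node (.leaf 0xd0000200018000010002800001000290000100017000010001500001000130000100011000010000f00001) (.leaf 0)))

/-- the final cosets -/
def fin : Trie :=
  fin0

/-- the inverse of a letter -/
def ivl (l : ℕ) : ℕ := ([0, 1, 2, 3, 4, 6, 5, 8, 7] : List ℕ).getD l l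

/-- the certificate -/
def cert : TC.Cert :=
  ⟨9, ivl, nodes, facts, [[0, 1, 0, 1, 0, 1], [0, 4, 0, 4], [1, 2, 1, 2, 1, 2], [1, 3, 1, 3], [1, 4, 1, 4], [0, 3, 2, 3, 2, 3, 2, 3, 2], [2, 4, 2, 4], [3, 4, 3, 4, 3, 4], [1, 2, 3, 4, 1, 2, 3, 4, 1, 2, 3, 4, 1, 2, 3, 4, 1, 2, 3, 4, 1, 2, 3, 4, 1, 2, 3, 4, 1, 2, 3, 4], [5, 5, 5, 5, 5, 5, 5], [6, 0, 5, 0], [6, 1, 5, 1], [6, 2, 5, 2], [5, 3, 5, 3], [4, 6, 4, 6, 6, 4, 5, 5, 5], [7, 7, 7], [8, 0, 7, 0], [8, 1, 7, 1], [8, 2, 7, 2], [8, 3, 7, 3], [8, 4, 7, 4], [8, 5, 7, 6, 6], [0, 0], [1, 1], [2, 2], [3, 3], [4, 4]], [[0], [1], [2], [3], [4], [5]], fin, 3⟩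

/-- the number of facts -/
def numFacts : ℕ := 21

end

end Cfsg.Agent.Th.TTable
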